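import Groth.Agent.Dual3Lib.DualNat
import Groth.Agent.Dual3Lib.PushCoh
import Groth.Agent.Dual3Lib.Ten
import Groth.Agent.Dual3Lib.LpullTensorNat
import Groth.Agent.KoszOrthLib.DQCohCoprod
import Groth.Agent.KFlatLib.QCohLpull

/-!
# `f^!(K ⊗ L) ≅ Lf^*K ⊗ f^!L` for perfect `K`
-/

set_option autoImplicit false
set_option linter.style.haveILetI false
set_option linter.unusedSectionVars false
set_option backward.isDefEq.respectTransparency false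
set_option backward.isDefEq.respectTransparency.types false
set_option maxHeartbeats 1000000
set_option synthInstance.maxHeartbeats 200000

universe u

open CategoryTheory CategoryTheory.Limits AlgebraicGeometry
open Groth.Agent Groth.Agent.PerfDualLib Groth.Agent.ProjFormLib

attribute [local instance] HasDerivedCategory.standard

noncomputable section

namespace ShriekLib

/-- A perfect complex has a perfect dual, left adjoint to it and right adjoint to it under tensor. -/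
theorem exists_dual_adj {X : Scheme.{u}} (K : Cx X) [DCoh.HasLTensorCx K]
    (hK : DCoh.IsPerfect (DerivedCategory.Q.obj K)) :
    ∃ (D : Cx X) (_ : DCoh.HasLTensorCx D), DCoh.IsPerfect (DerivedCategory.Q.obj D) ∧
      Nonempty (DCoh.LTensorCx D ⊣ DCoh.LTensorCx K) ∧ Nonempty (DCoh.LTensorCx K ⊣ DCoh.LTensorCx D) := by
  haveI := BidualSchLib.hasRSheafHom K
  let V := (DCoh.RSheafHom K).obj (DerivedCategory.Q.obj (unitCx X))
  obtain ⟨D, hD, ⟨eD⟩⟩ := PerfDualLib.exists_kFlat_model V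
  haveI := KFlatLib.hasLTensorCx D
  haveI := BidualSchLib.hasRSheafHom D
  have hDp : DCoh.IsPerfect (DerivedCategory.Q.obj D) :=
    PerfLib.isPerfect_of_iso eD.symm (isPerfect_dual K hK)
  obtain ⟨D', hD', ⟨e'⟩⟩ := Dual3Lib.nonempty_lTensor_iso_rSheafHom D hDp
  haveI := KFlatLib.hasLTensorCx (unitCx X)
  haveI := BidualSchLib.hasRSheafHom (unitCx X)
  let O := DerivedCategory.Q.obj (unitCx X)
  obtain ⟨c₁⟩ := Dual3Lib.nonempty_rSheafHom_dual K D hK hDp eD O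
  obtain ⟨c₂⟩ := Dual3Lib.ten_lTensor (A := O) K (Iso.refl _)
  obtain ⟨c₃⟩ := Dual3Lib.ten_lTensor (A := O) D' (Iso.refl _)
  obtain ⟨c₄⟩ := Dual3Lib.ten_unit (DerivedCategory.Q.obj K)
  obtain ⟨c₅⟩ := Dual3Lib.ten_unit (DerivedCategory.Q.obj D')
  obtain ⟨ω⟩ := nonempty_lTensor_congr_iso (M := D') (N := K)
    (c₅.symm ≪≫ c₃.symm ≪≫ e'.app O ≪≫ c₁.symm ≪≫ c₂ ≪≫ c₄)
  obtain ⟨D'', hD'', ⟨e''⟩⟩ := Dual3Lib.nonempty_lTensor_iso_rSheafHom K hK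
  obtain ⟨c₆⟩ := Dual3Lib.ten_lTensor (A := O) D'' (Iso.refl _)
  obtain ⟨c₇⟩ := Dual3Lib.ten_unit (DerivedCategory.Q.obj D'')
  obtain ⟨ω'⟩ := nonempty_lTensor_congr_iso (M := D'') (N := D) (c₇.symm ≪≫ c₆.symm ≪≫ e''.app O ≪≫ eD.symm)
  exact ⟨D, inferInstance, hDp, ⟨(DCoh.RSheafHomAdj D).ofNatIsoRight (e'.symm ≪≫ ω)⟩,
    ⟨(DCoh.RSheafHomAdj K).ofNatIsoRight (e''.symm ≪≫ ω')⟩⟩

/-- Tensoring with a perfect complex on `D_QCoh`. -/
def tQ {X : Scheme.{u}} (K : Cx X) [DCoh.HasLTensorCx K] (hK : DCoh.IsQCohD (DerivedCategory.Q.obj K)) :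
    DCoh.DQCoh X ⥤ DCoh.DQCoh X :=
  ObjectProperty.lift _ ((DCoh.IsQCohD (X := X)).ι ⋙ DCoh.LTensorCx K) fun M =>
    KFlatLib.isQCohD_lTensorCx K hK M.obj M.property

/-- The adjunction restricts to `D_QCoh`. -/
def tQAdj {X : Scheme.{u}} (D K : Cx X) [DCoh.HasLTensorCx D] [DCoh.HasLTensorCx K]
    (hD : DCoh.IsQCohD (DerivedCategory.Q.obj D)) (hK : DCoh.IsQCohD (DerivedCategory.Q.obj K))
    (adj : DCoh.LTensorCx D ⊣ DCoh.LTensorCx K) : tQ D hD ⊣ tQ K hK :=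
  adj.restrictFullyFaithful (DCoh.IsQCohD (X := X)).fullyFaithfulι (DCoh.IsQCohD (X := X)).fullyFaithfulι
    (ObjectProperty.liftCompιIso _ _ _).symm (ObjectProperty.liftCompιIso _ _ _).symm

variable {X Y : Scheme.{u}} [CompactSpace X] [QuasiSeparatedSpace X] [CompactSpace Y] [QuasiSeparatedSpace Y]
  (f : X ⟶ Y) [DCoh.HasRpush f] (hf : DCoh.RpushPreservesQCoh f) (a : DCoh.DQCoh Y ⥤ DCoh.DQCoh X)
  (adj : DCoh.RpushQ f hf ⊣ a) [DCoh.HasLpull f]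

include adj in
/-- `a (K ⊗ -) ≅ f^*K ⊗ a(-)`, naturally, for a K-flat perfect `K`. -/
theorem nonempty_rightAdjoint_tQ (K : Cx Y) (hKf : DCoh.IsKFlat K) [DCoh.HasLTensorCx K]
    [DCoh.HasLTensorCx ((KFlatLib.pullCx f).obj K)]
    (hK : DCoh.IsPerfect (DerivedCategory.Q.obj K)) (hKq : DCoh.IsQCohD (DerivedCategory.Q.obj K))
    (hKXq : DCoh.IsQCohD (DerivedCategory.Q.obj ((KFlatLib.pullCx f).obj K))) :
    Nonempty (tQ K hKq ⋙ a ≅ a ⋙ tQ ((KFlatLib.pullCx f).obj K) hKXq) := by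
  let KX := (KFlatLib.pullCx f).obj K
  have hKX : DCoh.IsPerfect (DerivedCategory.Q.obj KX) :=
    PerfLib.isPerfect_of_iso (KFlatLib.lpullObjIso f K hKf) (KFlatLib.isPerfect_lpull f _ hK)
  obtain ⟨D, _, hDp, ⟨adjD⟩, ⟨adjK⟩⟩ := exists_dual_adj K hK
  obtain ⟨D₁, _, hD₁p, ⟨adjD₁⟩, ⟨adjKX⟩⟩ := exists_dual_adj KX hKX
  obtain ⟨w⟩ := Dual3Lib.nonempty_lTensor_lpull f K hKf
  let al := KFlatLib.lpullRpushAdj f
  let π : DCoh.Rpush f ⋙ DCoh.LTensorCx D ≅ DCoh.LTensorCx D₁ ⋙ DCoh.Rpush f :=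
    (adjK.comp al).rightAdjointUniq ((al.comp adjKX).ofNatIsoLeft w.symm)
  have hDq := KoszOrthLib.isQCohD_of_isPerfect hDp
  have hD₁q := KoszOrthLib.isQCohD_of_isPerfect hD₁p
  let πQ : tQ D₁ hD₁q ⋙ DCoh.RpushQ f hf ≅ DCoh.RpushQ f hf ⋙ tQ D hDq :=
    NatIso.ofComponents (fun M => ((DCoh.IsQCohD (X := Y)).fullyFaithfulι).preimageIso (π.app M.obj).symm)
      fun g => (DCoh.IsQCohD (X := Y)).ι.map_injective (by
        simpa [tQ] using π.inv.naturality g.hom)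
  exact ⟨(adj.comp (tQAdj D K hDq hKq adjD)).rightAdjointUniq
    (((tQAdj D₁ KX hD₁q hKXq adjD₁).comp adj).ofNatIsoLeft πQ)⟩

include adj in
/-- `a(K ⊗ L) ≅ a(L) ⊗ Lf^*K` for perfect `K`. -/
theorem nonempty_rightAdjoint_tensor_perfect (K L : DCoh.DQCoh Y) (hK : DCoh.IsPerfect K.obj)
    (K' : Cx Y) (hK' : Nonempty (DCoh.toD Y K' ≅ K.obj)) [DCoh.HasLTensorCx K']
    (hKL : DCoh.IsQCohD ((DCoh.LTensorCx K').obj L.obj))
    (E : Cx X) (hE : Nonempty (DCoh.toD X E ≅ (a.obj L).obj)) [DCoh.HasLTensorCx E] :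
    Nonempty ((a.obj ⟨(DCoh.LTensorCx K').obj L.obj, hKL⟩).obj ≅
      (DCoh.LTensorCx E).obj ((DCoh.Lpull f).obj K.obj)) := by
  obtain ⟨eK'⟩ := hK'
  obtain ⟨eE⟩ := hE
  obtain ⟨P, hP, ⟨eP⟩⟩ := PerfDualLib.exists_kFlat_model K.obj
  haveI := KFlatLib.hasLTensorCx P
  haveI := KFlatLib.hasLTensorCx ((KFlatLib.pullCx f).obj P)
  let eX : DerivedCategory.Q.obj ((KFlatLib.pullCx f).obj P) ≅ (DCoh.Lpull f).obj K.obj :=
    (KFlatLib.lpullObjIso f P hP).symm ≪≫ (DCoh.Lpull f).mapIso eP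
  have hPp := PerfLib.isPerfect_of_iso eP.symm hK
  have hPq := KFlatLib.isQCohD_iso eP.symm K.property
  obtain ⟨θ⟩ := nonempty_rightAdjoint_tQ f hf a adj P hP hPp hPq
    (KFlatLib.isQCohD_iso eX.symm (KFlatLib.isQCohD_lpull f K.obj K.property))
  obtain ⟨ω⟩ := nonempty_lTensor_congr_iso (M := K') (N := P) (eK' ≪≫ eP.symm)
  obtain ⟨t₁⟩ := Dual3Lib.ten_lTensor (A := (a.obj L).obj) ((KFlatLib.pullCx f).obj P) eX
  obtain ⟨t₂⟩ := Dual3Lib.ten_lTensor (A := (DCoh.Lpull f).obj K.obj) E eE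
  obtain ⟨t₃⟩ := Dual3Lib.ten_comm (a.obj L).obj ((DCoh.Lpull f).obj K.obj)
  exact ⟨(DCoh.IsQCohD (X := X)).ι.mapIso (a.mapIso (ObjectProperty.isoMk _ (ω.app L.obj)) ≪≫ θ.app L) ≪≫
    t₁ ≪≫ t₃ ≪≫ t₂.symm⟩

end ShriekLib
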