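import Groth.Agent.ShriekLib.Indep
import Groth.Agent.NagataCompLib.Nagata

/-!
# The upper shriek through a local factorisation
-/

set_option autoImplicit false
set_option linter.style.haveILetI false
set_option linter.unusedSectionVars false
set_option backward.isDefEq.respectTransparency false
set_option backward.isDefEq.respectTransparency.types false
set_option maxHeartbeats 1000000
set_option synthInstance.maxHeartbeats 200000

universe u

open CategoryTheory CategoryTheory.Limits AlgebraicGeometry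
open Groth.Agent

attribute [local instance] HasDerivedCategory.standard

noncomputable section

namespace ShriekLib

theorem isBddBelow_restrictQ {X Y : Scheme.{u}} (j : X ⟶ Y) [IsOpenImmersion j]
    [PreservesFiniteLimits (Scheme.Modules.restrictFunctor j)] (K : DCoh.DQCoh Y) (hK : Dual3.IsBddBelowQ Y K) :
    Dual3.IsBddBelowQ X ((restrictQ j).obj K) := by
  obtain ⟨n, hn⟩ := hK
  haveI := hn
  exact ⟨n, (DerivedCategory.isGE_iff _ n).2 fun i hi =>
    ((Scheme.Modules.restrictFunctor j).map_isZero (DerivedCategory.isZero_of_isGE _ n i hi)).of_iso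
      (DCohRestrLib.restrictHDIso j K.obj i)⟩

/-- If `f|_V = h ∘ k` over an open `W` with `k` a closed immersion and `h` compactified by `π`, then
`f^!|_V = k^! ∘ h^!`. -/
theorem nonempty_shriek_factor {X Y Xb V W P Pb : Scheme.{u}} [IsNoetherian Y] (f : X ⟶ Y)
    (j : X ⟶ Xb) (p : Xb ⟶ Y) [IsOpenImmersion j] [IsProper p] (hf : j ≫ p = f)
    [DCoh.HasRpush p] (hp : DCoh.RpushPreservesQCoh p) (a : DCoh.DQCoh Y ⥤ DCoh.DQCoh Xb)
    (adj : DCoh.RpushQ p hp ⊣ a) (v : V ⟶ X) [IsOpenImmersion v] (w : W ⟶ Y) [IsOpenImmersion w]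
    (k : V ⟶ P) [IsClosedImmersion k] (jP : P ⟶ Pb) [IsOpenImmersion jP] (π : Pb ⟶ W) [IsProper π]
    (hk : k ≫ jP ≫ π ≫ w = v ≫ f)
    [DCoh.HasRpush k] (hK : DCoh.RpushPreservesQCoh k) (ak : DCoh.DQCoh P ⥤ DCoh.DQCoh V)
    (adjk : DCoh.RpushQ k hK ⊣ ak)
    [DCoh.HasRpush π] (hπ : DCoh.RpushPreservesQCoh π) (aπ : DCoh.DQCoh W ⥤ DCoh.DQCoh Pb)
    (adjπ : DCoh.RpushQ π hπ ⊣ aπ) :
    Nonempty (Dual3.bddι Y ⋙ a ⋙ restrictQ j ⋙ restrictQ v ≅
      Dual3.bddι Y ⋙ restrictQ w ⋙ aπ ⋙ restrictQ jP ⋙ ak ⋙ restrictQ (𝟙 V)) := by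
  haveI := isNoetherian_of_proper p
  haveI : CompactSpace X := QuasiCompact.compactSpace_of_compactSpace j
  haveI : IsLocallyNoetherian X := isLocallyNoetherian_of_isOpenImmersion j
  haveI : IsNoetherian X := ⟨⟩
  haveI : CompactSpace W := QuasiCompact.compactSpace_of_compactSpace w
  haveI : IsLocallyNoetherian W := isLocallyNoetherian_of_isOpenImmersion w
  haveI : IsNoetherian W := ⟨⟩
  haveI := isNoetherian_of_proper π
  haveI : CompactSpace P := QuasiCompact.compactSpace_of_compactSpace jP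
  haveI : IsLocallyNoetherian P := isLocallyNoetherian_of_isOpenImmersion jP
  haveI : IsNoetherian P := ⟨⟩
  haveI := isNoetherian_of_proper k
  let g := k ≫ jP ≫ π
  haveI : IsSeparated g := inferInstance
  haveI : QuasiCompact g := inferInstance
  haveI : LocallyOfFiniteType g := inferInstance
  obtain ⟨Gb, jg, pg, _, -, _, hg⟩ := NagataCompLib.exists_compactification g
  obtain ⟨Wb, jW, pW, _, -, _, hjW⟩ := NagataCompLib.exists_compactification w
  haveI := isNoetherian_of_proper pg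
  haveI := isNoetherian_of_proper pW
  haveI := DCohRestrLib.hasRpush pg
  haveI := DCohRestrLib.hasRpush pW
  obtain ⟨ag, ⟨adjg⟩⟩ := exists_rightAdjoint pg (hpush pg)
  obtain ⟨aW, ⟨adjW⟩⟩ := exists_rightAdjoint pW (hpush pW)
  obtain ⟨cW⟩ := nonempty_shriek_comp g w jg pg hg jW pW hjW (v ≫ j) p
    (by simp only [g, Category.assoc, hf]; exact hk.symm) (hpush pg) (hpush pW) hp ag aW a adjg adjW adj
  obtain ⟨eW⟩ := nonempty_shriek_openImmersion pW (hpush pW) aW adjW w jW hjW
  obtain ⟨ck⟩ := nonempty_shriek_comp k (jP ≫ π) (𝟙 _) k (Category.id_comp k) jP π rfl jg pg hg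
    hK hπ (hpush pg) ak aπ ag adjk adjπ adjg
  obtain ⟨cr⟩ := nonempty_restrictQ_comp v j (v ≫ j) rfl
  let b : (Dual3.IsBddBelowQ Y).FullSubcategory ⥤ (Dual3.IsBddBelowQ W).FullSubcategory :=
    ObjectProperty.lift _ (Dual3.bddι Y ⋙ restrictQ w) fun K => isBddBelow_restrictQ w K.obj K.property
  exact ⟨Functor.isoWhiskerLeft (Dual3.bddι Y ⋙ a) cr ≪≫ cW ≪≫
    Functor.isoWhiskerRight eW (ag ⋙ restrictQ jg) ≪≫ Functor.isoWhiskerLeft b ck⟩

end ShriekLib
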