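import Groth.Agent.ShriekLib.Basic
import Groth.Agent.AmpleAffLib.Gen
import Groth.Agent.KFlatLib.DerivedCoprod
import Groth.Agent.KoszOrthLib.DQCoh
import Groth.Agent.QRlimLib.Trunc
import Groth.Agent.QCohLib.Gen
import Groth.Agent.PerfBaseLib.RpushTor

/-!
# Transformations of way-out functors on bounded below quasi-coherent complexes of an affine scheme
-/

set_option autoImplicit false
set_option linter.style.haveILetI false
set_option linter.unusedSectionVars false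
set_option backward.isDefEq.respectTransparency false
set_option backward.isDefEq.respectTransparency.types false
set_option maxHeartbeats 1000000
set_option synthInstance.maxHeartbeats 200000

universe v' u' u

open CategoryTheory CategoryTheory.Limits AlgebraicGeometry CategoryTheory.Pretriangulated
open Groth.Agent
open scoped ZeroObject

attribute [local instance] HasDerivedCategory.standard

namespace ShriekLib

variable {W : Scheme.{u}} {A : Type u'} [Category.{v'} A] [Abelian A]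

/-- Isomorphic at an object of the bounded below part. -/
def IsoAt {G₁ G₂ : DCoh.DQCoh W ⥤ A} (τ : Dual3.bddι W ⋙ G₁ ⟶ Dual3.bddι W ⋙ G₂) (K : DCoh.DQCoh W) : Prop :=
  ∀ h : Dual3.IsBddBelowQ W K, IsIso (τ.app ⟨K, h⟩)

omit [Abelian A] in
theorem IsoAt.of_iso {G₁ G₂ : DCoh.DQCoh W ⥤ A} {τ : Dual3.bddι W ⋙ G₁ ⟶ Dual3.bddι W ⋙ G₂}
    {K K' : DCoh.DQCoh W} (e : K ≅ K') (h : IsoAt τ K) : IsoAt τ K' := fun h' => by
  have hK : Dual3.IsBddBelowQ W K := by
    obtain ⟨n, hn⟩ := h'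
    haveI : DerivedCategory.TStructure.t.IsGE ((DCoh.IsQCohD (X := W)).ι.obj K') n := hn
    exact ⟨n, DerivedCategory.TStructure.t.isGE_of_iso ((DCoh.IsQCohD (X := W)).ι.mapIso e).symm n⟩
  exact (NatTrans.isIso_app_iff_of_iso τ
    (ObjectProperty.isoMk _ e : (⟨K, hK⟩ : (Dual3.IsBddBelowQ W).FullSubcategory) ≅ ⟨K', h'⟩)).1 (h hK)

theorem isBddBelowQ_shift {K : DCoh.DQCoh W} (h : Dual3.IsBddBelowQ W K) (n : ℤ) :
    Dual3.IsBddBelowQ W (K⟦n⟧) := by
  obtain ⟨c, hc⟩ := h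
  haveI : DerivedCategory.TStructure.t.IsGE K.obj c := hc
  haveI : DerivedCategory.TStructure.t.IsGE (((DCoh.IsQCohD (X := W)).ι ⋙ shiftFunctor (DCoh.D W) n).obj K) (c - n) :=
    DerivedCategory.TStructure.t.isGE_shift K.obj c n (c - n) (by omega)
  exact ⟨c - n, DerivedCategory.TStructure.t.isGE_of_iso (((DCoh.IsQCohD (X := W)).ι.commShiftIso n).app K).symm
    (c - n)⟩

theorem isBddBelowQ₂ (T : Triangle (DCoh.DQCoh W)) (hT : T ∈ distTriang _)
    (h₁ : Dual3.IsBddBelowQ W T.obj₁) (h₃ : Dual3.IsBddBelowQ W T.obj₃) : Dual3.IsBddBelowQ W T.obj₂ := by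
  obtain ⟨c₁, hc₁⟩ := h₁
  obtain ⟨c₃, hc₃⟩ := h₃
  haveI : DerivedCategory.TStructure.t.IsGE T.obj₁.obj c₁ := hc₁
  haveI : DerivedCategory.TStructure.t.IsGE T.obj₃.obj c₃ := hc₃
  haveI : DerivedCategory.TStructure.t.IsGE T.obj₁.obj (min c₁ c₃) :=
    DerivedCategory.TStructure.t.isGE_of_ge _ (min c₁ c₃) c₁ (min_le_left _ _)
  haveI : DerivedCategory.TStructure.t.IsGE T.obj₃.obj (min c₁ c₃) :=
    DerivedCategory.TStructure.t.isGE_of_ge _ (min c₁ c₃) c₃ (min_le_right _ _)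
  exact ⟨min c₁ c₃, @Triangulated.TStructure.isGE₂ _ _ _ _ _ _ _ DerivedCategory.TStructure.t _
    ((DCoh.IsQCohD (X := W)).ι.map_distinguished _ hT) (min c₁ c₃)
    (inferInstanceAs (DerivedCategory.TStructure.t.IsGE T.obj₁.obj (min c₁ c₃)))
    (inferInstanceAs (DerivedCategory.TStructure.t.IsGE T.obj₃.obj (min c₁ c₃)))⟩

section Five

variable {G₁ G₂ : DCoh.DQCoh W ⥤ A} [G₁.IsHomological] [G₂.IsHomological]
  (τ : Dual3.bddι W ⋙ G₁ ⟶ Dual3.bddι W ⋙ G₂) (T : Triangle (DCoh.DQCoh W)) (hT : T ∈ distTriang _)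
  (h₁ : Dual3.IsBddBelowQ W T.obj₁) (h₂ : Dual3.IsBddBelowQ W T.obj₂) (h₃ : Dual3.IsBddBelowQ W T.obj₃)

include hT in
/-- The five lemma on the bounded below part, split in two. -/
theorem isIso_five :
    (Epi (τ.app ⟨_, h₂⟩) → Epi (τ.app ⟨_, isBddBelowQ_shift h₁ 1⟩) → Mono (τ.app ⟨_, isBddBelowQ_shift h₂ 1⟩) →
        Epi (τ.app ⟨_, h₃⟩)) ∧
      (Epi (τ.app ⟨_, h₁⟩) → Mono (τ.app ⟨_, h₂⟩) → Mono (τ.app ⟨_, isBddBelowQ_shift h₁ 1⟩) →
        Mono (τ.app ⟨_, h₃⟩)) := by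
  let o₁ : (Dual3.IsBddBelowQ W).FullSubcategory := ⟨_, h₁⟩
  let o₂ : (Dual3.IsBddBelowQ W).FullSubcategory := ⟨_, h₂⟩
  let o₃ : (Dual3.IsBddBelowQ W).FullSubcategory := ⟨_, h₃⟩
  let o₁' : (Dual3.IsBddBelowQ W).FullSubcategory := ⟨_, isBddBelowQ_shift h₁ 1⟩
  let o₂' : (Dual3.IsBddBelowQ W).FullSubcategory := ⟨_, isBddBelowQ_shift h₂ 1⟩
  let m₁ : o₁ ⟶ o₂ := ObjectProperty.homMk T.mor₁
  let m₂ : o₂ ⟶ o₃ := ObjectProperty.homMk T.mor₂
  let m₃ : o₃ ⟶ o₁' := ObjectProperty.homMk T.mor₃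
  let m₄ : o₁' ⟶ o₂' := ObjectProperty.homMk (-T.mor₁⟦(1 : ℤ)⟧')
  let R₁ : ∀ (G : DCoh.DQCoh W ⥤ A), ComposableArrows A 3 := fun G =>
    ComposableArrows.mk₃ (G.map T.mor₁) (G.map T.mor₂) (G.map T.mor₃)
  let R₂ : ∀ (G : DCoh.DQCoh W ⥤ A), ComposableArrows A 3 := fun G =>
    ComposableArrows.mk₃ (G.map T.mor₂) (G.map T.mor₃) (G.map (-T.mor₁⟦(1 : ℤ)⟧'))
  have hex₁ : ∀ (G : DCoh.DQCoh W ⥤ A) [G.IsHomological], (R₁ G).Exact := fun G _ => by
    refine ComposableArrows.exact_of_δ₀ ?_ ?_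
    · exact (G.map_distinguished_exact _ hT).exact_toComposableArrows
    · exact (G.map_distinguished_exact _ (rot_of_distTriang _ hT)).exact_toComposableArrows
  have hex₂ : ∀ (G : DCoh.DQCoh W ⥤ A) [G.IsHomological], (R₂ G).Exact := fun G _ => by
    refine ComposableArrows.exact_of_δ₀ ?_ ?_
    · exact (G.map_distinguished_exact _ (rot_of_distTriang _ hT)).exact_toComposableArrows
    · exact (G.map_distinguished_exact _
        (rot_of_distTriang _ (rot_of_distTriang _ hT))).exact_toComposableArrows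
  let φ₁ : R₁ G₁ ⟶ R₁ G₂ := ComposableArrows.homMk₃ (τ.app o₁) (τ.app o₂) (τ.app o₃) (τ.app o₁')
    (τ.naturality m₁) (τ.naturality m₂) (τ.naturality m₃)
  let φ₂ : R₂ G₁ ⟶ R₂ G₂ := ComposableArrows.homMk₃ (τ.app o₂) (τ.app o₃) (τ.app o₁') (τ.app o₂')
    (τ.naturality m₂) (τ.naturality m₃) (τ.naturality m₄)
  exact ⟨fun a b c => Abelian.epi_of_epi_of_epi_of_mono (φ := φ₂) (hex₂ G₁) (hex₂ G₂) a b c,
    fun a b c => Abelian.mono_of_epi_of_mono_of_mono (φ := φ₁) (hex₁ G₁) (hex₁ G₂) a b c⟩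

end Five

section Objects

/-- A quasi-coherent module placed in degree `-n`, in `DQCoh`. -/
noncomputable def modQ (M : W.Modules) (hM : Coh.IsQCoh M) (n : ℤ) : DCoh.DQCoh W :=
  (⟨DCoh.inD W M, PerfBaseLib.isQCohD_inD M hM⟩ : DCoh.DQCoh W)⟦n⟧

theorem isBddBelowQ_modQ (M : W.Modules) (hM : Coh.IsQCoh M) (n : ℤ) : Dual3.IsBddBelowQ W (modQ M hM n) :=
  isBddBelowQ_shift (⟨0, inferInstanceAs ((DCoh.inD W M).IsGE 0)⟩ : Dual3.IsBddBelowQ W _) n

/-- Every quasi-coherent module on an affine scheme is a quotient of a sum of copies of the structure sheaf. -/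
theorem exists_epi_unit [IsAffine W] (M : W.Modules) (hM : Coh.IsQCoh M) :
    ∃ (J : Type u) (π : (∐ fun _ : J => Coh.structureModule W) ⟶ M), Epi π := by
  haveI := hM
  refine ⟨Γ(M, ⊤), Sigma.desc fun s => QCohLib.unitHom M s, Preadditive.epi_of_cancel_zero _ fun {M'} q h =>
    AmpleAffLib.eq_zero_of_cover q (fun _ : PUnit.{1} => (⊤ : W.Opens)) (fun _ => isAffineOpen_top W)
      (fun x => ⟨⟨⟩, trivial⟩) fun _ s => ?_⟩
  have h1 : QCohLib.unitHom M s ≫ q = 0 := by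
    rw [← Sigma.ι_desc (fun s => QCohLib.unitHom M s) s, Category.assoc, h, comp_zero]
  have h2 : q.app ⊤ ((QCohLib.unitHom M s).app ⊤ (1 : Γ(W, ⊤))) = 0 :=
    congr(Scheme.Modules.Hom.app $h1 ⊤ (1 : Γ(W, ⊤)))
  rwa [QCohLib.unitHom_app, one_smul, show M.presheaf.map (homOfLE (le_top : (⊤ : W.Opens) ≤ ⊤)).op s = s from
    congr($(M.presheaf.map_id _) s)] at h2

instance preservesCoproducts_inD (X : Scheme.{u}) (J : Type u) :
    PreservesColimitsOfShape (Discrete J)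
      (DerivedCategory.singleFunctor X.Modules 0 : X.Modules ⥤ DCoh.D X) := by
  haveI : PreservesColimitsOfShape (Discrete J) (DerivedCategory.Q (C := X.Modules)) := by
    refine ⟨fun {K} => ?_⟩
    obtain ⟨h⟩ := KFlatLib.isColimit_Q_sigma fun j => K.obj ⟨j⟩
    haveI : PreservesColimit (Discrete.functor (K.obj ∘ Discrete.mk)) DerivedCategory.Q :=
      preservesColimit_of_preserves_colimit_cocone (coproductIsCoproduct _)
        ((isColimitMapCoconeCofanMkEquiv DerivedCategory.Q _ _).symm h)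
    exact preservesColimit_of_iso_diagram _ Discrete.natIsoFunctor.symm
  haveI : PreservesColimitsOfShape (Discrete J) (CochainComplex.singleFunctor X.Modules 0) :=
    inferInstanceAs (PreservesColimitsOfShape (Discrete J)
      (HomologicalComplex.single X.Modules (ComplexShape.up ℤ) 0))
  exact preservesColimitsOfShape_of_natIso (DerivedCategory.singleFunctorIsoCompQ X.Modules 0).symm

end Objects

section Main

variable [IsAffine W] {V : Scheme.{u}} (Φ : DCoh.DQCoh W ⥤ DCoh.D V)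
  [∀ i : ℤ, (Φ ⋙ DerivedCategory.homologyFunctor V.Modules i).IsHomological]
  (b N : ℤ) (hle : ∀ (K : DCoh.DQCoh W) (c : ℤ), K.obj.IsLE c → (Φ.obj K).IsLE (c + b))
  (hge : ∀ (K : DCoh.DQCoh W) (c : ℤ), K.obj.IsGE c → (Φ.obj K).IsGE (c - N))
  [∀ J : Type u, PreservesColimitsOfShape (Discrete J) Φ]
  (τ : Dual3.bddι W ⋙ Φ ⟶ Dual3.bddι W ⋙ Φ)

/-- The transformation in degree `i`. -/
noncomputable def tauH (i : ℤ) :
    Dual3.bddι W ⋙ (Φ ⋙ DerivedCategory.homologyFunctor V.Modules i) ⟶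
      Dual3.bddι W ⋙ (Φ ⋙ DerivedCategory.homologyFunctor V.Modules i) :=
  Functor.whiskerRight τ (DerivedCategory.homologyFunctor V.Modules i)

theorem isIso_tauH_of_isIso {K : DCoh.DQCoh W} (h : IsoAt τ K) (i : ℤ) : IsoAt (tauH Φ τ i) K := fun hK => by
  haveI := h hK
  exact inferInstanceAs (IsIso ((DerivedCategory.homologyFunctor V.Modules i).map (τ.app ⟨K, hK⟩)))

theorem isIso_tauH_of_isZero {K : DCoh.DQCoh W} (i : ℤ) (h : IsZero (DCoh.HD (Φ.obj K) i)) :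
    IsoAt (tauH Φ τ i) K := fun _ => h.isIso h _

include hle in
theorem isIso_tauH_high {K : DCoh.DQCoh W} (c : ℤ) [hK : K.obj.IsLE c] (i : ℤ) (hi : c + b < i) :
    IsoAt (tauH Φ τ i) K := by
  haveI := hle K c hK
  exact isIso_tauH_of_isZero Φ τ i (DerivedCategory.isZero_of_isLE (Φ.obj K) (c + b) i hi)

include hge in
theorem isIso_tauH_low {K : DCoh.DQCoh W} (c : ℤ) [hK : K.obj.IsGE c] (i : ℤ) (hi : i < c - N) :
    IsoAt (tauH Φ τ i) K := by
  haveI := hge K c hK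
  exact isIso_tauH_of_isZero Φ τ i (DerivedCategory.isZero_of_isGE (Φ.obj K) (c - N) i hi)

theorem isLE_modQ (M : W.Modules) (hM : Coh.IsQCoh M) (n : ℤ) : (modQ M hM n).obj.IsLE (-n) := by
  haveI : DerivedCategory.TStructure.t.IsLE (DCoh.inD W M) 0 := inferInstanceAs ((DCoh.inD W M).IsLE 0)
  haveI : DerivedCategory.TStructure.t.IsLE ((DCoh.inD W M)⟦n⟧) (-n) :=
    DerivedCategory.TStructure.t.isLE_shift (DCoh.inD W M) 0 n (-n) (by omega)
  exact @Triangulated.TStructure.isLE_of_iso _ _ _ _ _ _ _ DerivedCategory.TStructure.t _ _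
    (((DCoh.IsQCohD (X := W)).ι.commShiftIso n).app
      (⟨DCoh.inD W M, PerfBaseLib.isQCohD_inD M hM⟩ : DCoh.DQCoh W)).symm (-n) this

variable (hO : ∀ n : ℤ, IsoAt τ (modQ (Coh.structureModule W) QCohLib.isQCoh_unit n))

include hO in
theorem isoAt_sum (J : Type u) (h : Coh.IsQCoh (∐ fun _ : J => Coh.structureModule W)) (n : ℤ) :
    IsoAt τ (modQ (∐ fun _ : J => Coh.structureModule W) h n) := by
  intro hb
  let O := Coh.structureModule W
  let F : DCoh.DQCoh W := ⟨DCoh.inD W (∐ fun _ : J => O), PerfBaseLib.isQCohD_inD _ h⟩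
  let U : DCoh.DQCoh W := ⟨DCoh.inD W O, PerfBaseLib.isQCohD_inD _ QCohLib.isQCoh_unit⟩
  let cf : Cofan fun _ : J => U :=
    Cofan.mk F fun j => ObjectProperty.homMk ((DerivedCategory.singleFunctor W.Modules 0).map
      (Sigma.ι (fun _ : J => O) j))
  have hι : IsColimit cf := by
    refine isColimitOfReflects (DCoh.IsQCohD (X := W)).ι ?_
    have h1 : IsColimit (Cofan.mk ((DerivedCategory.singleFunctor W.Modules 0).obj (∐ fun _ : J => O))
        fun j => (DerivedCategory.singleFunctor W.Modules 0).map (Sigma.ι (fun _ : J => O) j)) :=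
      isColimitMapCoconeCofanMkEquiv _ _ _ (isColimitOfPreserves (DerivedCategory.singleFunctor W.Modules 0)
        (coproductIsCoproduct fun _ : J => O))
    exact (isColimitMapCoconeCofanMkEquiv _ _ _).symm h1
  let hs := isColimitMapCoconeCofanMkEquiv (shiftFunctor (DCoh.DQCoh W) n ⋙ Φ) _ _
    (isColimitOfPreserves (shiftFunctor (DCoh.DQCoh W) n ⋙ Φ) hι)
  let i : ∀ _ : J, Φ.obj (U⟦n⟧) ≅ Φ.obj (U⟦n⟧) := fun _ =>
    @asIso _ _ _ _ (τ.app ⟨U⟦n⟧, isBddBelowQ_modQ O QCohLib.isQCoh_unit n⟩)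
      (hO n (isBddBelowQ_modQ O QCohLib.isQCoh_unit n))
  let e := IsColimit.coconePointsIsoOfNatIso hs hs (Discrete.natIso fun j => i j.as)
  have he : τ.app ⟨F⟦n⟧, hb⟩ = e.hom := hs.hom_ext fun j => by
    rw [IsColimit.comp_coconePointsIsoOfNatIso_hom]
    exact τ.naturality (ObjectProperty.homMk ((shiftFunctor (DCoh.DQCoh W) n).map (cf.inj j.as)) :
      (⟨U⟦n⟧, isBddBelowQ_modQ O QCohLib.isQCoh_unit n⟩ : (Dual3.IsBddBelowQ W).FullSubcategory) ⟶ ⟨F⟦n⟧, hb⟩)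
  show IsIso (τ.app ⟨F⟦n⟧, hb⟩)
  rw [he]
  infer_instance

include hle hO in
/-- Invertibility at the shifts of quasi-coherent modules. -/
theorem isIso_tauH_mod : ∀ (d : ℕ) (M : W.Modules) (hM : Coh.IsQCoh M) (n i : ℤ), b + 1 - d ≤ i + n →
    IsoAt (tauH Φ τ i) (modQ M hM n) := by
  intro d
  induction d with
  | zero =>
    intro M hM n i hi
    haveI := isLE_modQ M hM n
    exact isIso_tauH_high Φ b hle τ (-n) i (by omega)
  | succ d ih =>
    -- one presentation, shifted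
    have key : ∀ (M : W.Modules) (hM : Coh.IsQCoh M) (n i : ℤ), b + 1 - (d + 1 : ℕ) ≤ i + n →
        ∃ (T : Triangle (DCoh.DQCoh W)) (_ : T ∈ distTriang _) (M' : W.Modules) (hM' : Coh.IsQCoh M')
          (F : DCoh.DQCoh W), (T.obj₁ = modQ M' hM' n) ∧ (T.obj₂ = F) ∧ (T.obj₃ = modQ M hM n) ∧
            IsoAt (tauH Φ τ i) F ∧ IsoAt (tauH Φ τ i) (F⟦(1 : ℤ)⟧) ∧
              IsoAt (tauH Φ τ i) ((modQ M' hM' n)⟦(1 : ℤ)⟧) := by
      intro M hM n i hi
      obtain ⟨J, π, hπ⟩ := exists_epi_unit M hM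
      haveI := hπ
      haveI := hM
      have hF : Coh.IsQCoh (∐ fun _ : J => Coh.structureModule W) :=
        QCohLib.isQCoh_sigma _ fun _ => QCohLib.isQCoh_unit
      have hS : (ShortComplex.mk _ _ (kernel.condition π)).ShortExact :=
        { exact := ShortComplex.exact_of_f_is_kernel _ (kernelIsKernel π) }
      haveI := hF
      have hK : Coh.IsQCoh (kernel π) := QCohLib.isQCoh_kernel π
      let q : ∀ {M' : W.Modules} (_ : Coh.IsQCoh M'), DCoh.DQCoh W := fun {M'} h =>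
        ⟨DCoh.inD W M', PerfBaseLib.isQCohD_inD M' h⟩
      let T₀ : Triangle (DCoh.DQCoh W) := Triangle.mk
        (ObjectProperty.homMk hS.singleTriangle.mor₁ : q hK ⟶ q hF)
        (ObjectProperty.homMk hS.singleTriangle.mor₂ : q hF ⟶ q hM)
        (ObjectProperty.homMk (hS.singleTriangle.mor₃ ≫
          ((DCoh.IsQCohD (X := W)).ι.commShiftIso (1 : ℤ)).inv.app (q hK)) : q hM ⟶ (q hK)⟦(1 : ℤ)⟧)
      have hT₀ : T₀ ∈ distTriang _ := ((DCoh.IsQCohD (X := W)).ι.map_distinguished_iff T₀).1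
        (isomorphic_distinguished _ hS.singleTriangle_distinguished _
          (Triangle.isoMk _ _ (Iso.refl _) (Iso.refl _) (Iso.refl _) (by simp [T₀]; rfl) (by simp [T₀]; rfl) (by rw [Iso.refl_hom, Iso.refl_hom, CategoryTheory.Functor.map_id]; erw [Category.comp_id, Category.id_comp]; exact (Category.assoc _ _ _).trans ((congrArg (hS.singleTriangle.mor₃ ≫ ·) (Iso.inv_hom_id_app ((DCoh.IsQCohD (X := W)).ι.commShiftIso (1 : ℤ)) (q hK))).trans (Category.comp_id _)))))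
      refine ⟨(Triangle.shiftFunctor _ n).obj T₀, Triangle.shift_distinguished _ hT₀ n, kernel π, hK,
        modQ _ hF n, rfl, rfl, rfl, isIso_tauH_of_isIso Φ τ (isoAt_sum Φ τ hO J hF n) i, ?_, ?_⟩
      · exact (isIso_tauH_of_isIso Φ τ (isoAt_sum Φ τ hO J hF (n + 1)) i).of_iso
          ((shiftFunctorAdd' (DCoh.DQCoh W) n 1 (n + 1) rfl).app _)
      · exact (ih (kernel π) hK (n + 1) i (by push_cast at hi; omega)).of_iso
          ((shiftFunctorAdd' (DCoh.DQCoh W) n 1 (n + 1) rfl).app _)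
    have hepi : ∀ (M : W.Modules) (hM : Coh.IsQCoh M) (n i : ℤ), b + 1 - (d + 1 : ℕ) ≤ i + n →
        Epi ((tauH Φ τ i).app ⟨modQ M hM n, isBddBelowQ_modQ M hM n⟩) := by
      intro M hM n i hi
      obtain ⟨T, hT, M', hM', F, e₁, e₂, e₃, hF, hF', hM''⟩ := key M hM n i hi
      obtain ⟨o₁, o₂, o₃, m₁, m₂, m₃⟩ := T
      dsimp only at e₁ e₂ e₃
      subst e₁ e₂ e₃
      have hb₁ := isBddBelowQ_modQ M' hM' n
      have hb₂ : Dual3.IsBddBelowQ W o₂ := isBddBelowQ₂ _ hT hb₁ (isBddBelowQ_modQ M hM n)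
      haveI := hF hb₂
      haveI := hM'' (isBddBelowQ_shift hb₁ 1)
      haveI := hF' (isBddBelowQ_shift hb₂ 1)
      exact (isIso_five (tauH Φ τ i) _ hT hb₁ hb₂ (isBddBelowQ_modQ M hM n)).1 inferInstance inferInstance inferInstance
    intro M hM n i hi hb
    haveI := hepi M hM n i hi
    haveI : Mono ((tauH Φ τ i).app ⟨modQ M hM n, hb⟩) := by
      obtain ⟨T, hT, M', hM', F, e₁, e₂, e₃, hF, hF', hM''⟩ := key M hM n i hi
      obtain ⟨o₁, o₂, o₃, m₁, m₂, m₃⟩ := T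
      dsimp only at e₁ e₂ e₃
      subst e₁ e₂ e₃
      have hb₁ := isBddBelowQ_modQ M' hM' n
      have hb₂ : Dual3.IsBddBelowQ W o₂ := isBddBelowQ₂ _ hT hb₁ (isBddBelowQ_modQ M hM n)
      haveI := hepi M' hM' n i hi
      haveI := hF hb₂
      haveI := hM'' (isBddBelowQ_shift hb₁ 1)
      exact (isIso_five (tauH Φ τ i) _ hT hb₁ hb₂ hb).2 inferInstance inferInstance inferInstance
    exact isIso_of_mono_of_epi _

include hle hO in
theorem isIso_tauH_modQ (M : W.Modules) (hM : Coh.IsQCoh M) (n i : ℤ) : IsoAt (tauH Φ τ i) (modQ M hM n) :=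
  isIso_tauH_mod Φ b hle τ hO (b + 1 - (i + n)).toNat M hM n i (by omega)

theorem isGE_shiftQ (K : DCoh.DQCoh W) (c n c' : ℤ) (h : n + c' = c) [hK : K.obj.IsGE c] : (K⟦n⟧).obj.IsGE c' := by
  haveI : DerivedCategory.TStructure.t.IsGE K.obj c := hK
  haveI : DerivedCategory.TStructure.t.IsGE (K.obj⟦n⟧) c' :=
    DerivedCategory.TStructure.t.isGE_shift K.obj c n c' h
  exact @Triangulated.TStructure.isGE_of_iso _ _ _ _ _ _ _ DerivedCategory.TStructure.t _ _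
    (((DCoh.IsQCohD (X := W)).ι.commShiftIso n).app K).symm c' this

theorem isLE_shiftQ (K : DCoh.DQCoh W) (c n c' : ℤ) (h : n + c' = c) [hK : K.obj.IsLE c] : (K⟦n⟧).obj.IsLE c' := by
  haveI : DerivedCategory.TStructure.t.IsLE K.obj c := hK
  haveI : DerivedCategory.TStructure.t.IsLE (K.obj⟦n⟧) c' :=
    DerivedCategory.TStructure.t.isLE_shift K.obj c n c' h
  exact @Triangulated.TStructure.isLE_of_iso _ _ _ _ _ _ _ DerivedCategory.TStructure.t _ _
    (((DCoh.IsQCohD (X := W)).ι.commShiftIso n).app K).symm c' this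

/-- Truncation triangles stay quasi-coherent. -/
theorem exists_truncQ (K : DCoh.DQCoh W) (k : ℤ) :
    ∃ (T : Triangle (DCoh.DQCoh W)) (_ : T ∈ distTriang _), T.obj₂ = K ∧ T.obj₁.obj.IsLE k ∧ T.obj₃.obj.IsGE (k + 1) ∧
      (∀ c : ℤ, K.obj.IsGE c → T.obj₁.obj.IsGE c) ∧ (∀ c : ℤ, K.obj.IsLE c → T.obj₃.obj.IsLE c) := by
  let t := DerivedCategory.TStructure.t (C := W.Modules)
  let T₀ := (t.triangleLEGE k (k + 1) rfl).obj K.obj
  have hT₀ : T₀ ∈ distTriang _ := t.triangleLEGE_distinguished k (k + 1) rfl K.obj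
  have h₁ : DCoh.IsQCohD T₀.obj₁ := QRlimLib.isQCohD_truncLE K.property k
  have h₃ : DCoh.IsQCohD T₀.obj₃ := ObjectProperty.ext_of_isTriangulatedClosed₃ _ T₀ hT₀ h₁ K.property
  let q₁ : DCoh.DQCoh W := ⟨_, h₁⟩
  let q₃ : DCoh.DQCoh W := ⟨_, h₃⟩
  let T : Triangle (DCoh.DQCoh W) := Triangle.mk
    (ObjectProperty.homMk T₀.mor₁ : q₁ ⟶ K)
    (ObjectProperty.homMk T₀.mor₂ : K ⟶ q₃)
    (ObjectProperty.homMk (T₀.mor₃ ≫
      ((DCoh.IsQCohD (X := W)).ι.commShiftIso (1 : ℤ)).inv.app q₁) : q₃ ⟶ q₁⟦(1 : ℤ)⟧)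
  have hT : T ∈ distTriang _ := ((DCoh.IsQCohD (X := W)).ι.map_distinguished_iff T).1
    (isomorphic_distinguished _ hT₀ _
      (Triangle.isoMk _ _ (Iso.refl _) (Iso.refl _) (Iso.refl _) (by simp [T]; rfl) (by simp [T]; rfl) (by rw [Iso.refl_hom, Iso.refl_hom, CategoryTheory.Functor.map_id]; erw [Category.comp_id, Category.id_comp]; exact (Category.assoc _ _ _).trans ((congrArg (T₀.mor₃ ≫ ·) (Iso.inv_hom_id_app ((DCoh.IsQCohD (X := W)).ι.commShiftIso (1 : ℤ)) q₁)).trans (Category.comp_id _)))))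
  refine ⟨T, hT, rfl, ?_, ?_, fun c h => ?_, fun c h => ?_⟩
  · exact inferInstanceAs (t.IsLE ((t.truncLE k).obj K.obj) k)
  · exact inferInstanceAs (t.IsGE ((t.truncGE (k + 1)).obj K.obj) (k + 1))
  · haveI : t.IsGE K.obj c := h
    exact inferInstanceAs (t.IsGE ((t.truncLE k).obj K.obj) c)
  · haveI : t.IsLE K.obj c := h
    exact inferInstanceAs (t.IsLE ((t.truncGE (k + 1)).obj K.obj) c)

/-- The five lemma at the middle of a triangle. -/
theorem isoAt_mid (i : ℤ) (T : Triangle (DCoh.DQCoh W)) (hT : T ∈ distTriang _)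
    (b₁ : Dual3.IsBddBelowQ W T.obj₁) (b₃ : Dual3.IsBddBelowQ W T.obj₃)
    (a₁ : IsoAt (tauH Φ τ i) T.obj₁) (a₁' : IsoAt (tauH Φ τ i) (T.obj₁⟦(1 : ℤ)⟧))
    (a₃ : IsoAt (tauH Φ τ i) T.obj₃) (a₃' : IsoAt (tauH Φ τ i) (T.obj₃⟦(-1 : ℤ)⟧)) :
    IsoAt (tauH Φ τ i) T.obj₂ := by
  intro b₂
  have c₁ : Dual3.IsBddBelowQ W T.invRotate.obj₁ := isBddBelowQ_shift b₃ (-1)
  haveI : IsIso ((tauH Φ τ i).app ⟨T.invRotate.obj₂, b₁⟩) := a₁ b₁
  haveI : IsIso ((tauH Φ τ i).app ⟨T.invRotate.obj₂⟦(1 : ℤ)⟧, isBddBelowQ_shift b₁ 1⟩) :=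
    a₁' (isBddBelowQ_shift b₁ 1)
  haveI : IsIso ((tauH Φ τ i).app ⟨T.invRotate.obj₁, c₁⟩) := a₃' c₁
  haveI : IsIso ((tauH Φ τ i).app ⟨T.invRotate.obj₁⟦(1 : ℤ)⟧, isBddBelowQ_shift c₁ 1⟩) :=
    (a₃.of_iso (shiftFunctorCompIsoId (DCoh.DQCoh W) (-1) 1 (by omega) |>.app T.obj₃).symm) (isBddBelowQ_shift c₁ 1)
  have h := isIso_five (tauH Φ τ i) T.invRotate (inv_rot_of_distTriang _ hT) c₁ b₁ b₂
  haveI : Epi ((tauH Φ τ i).app ⟨T.obj₂, b₂⟩) := h.1 inferInstance inferInstance inferInstance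
  haveI : Mono ((tauH Φ τ i).app ⟨T.obj₂, b₂⟩) := h.2 inferInstance inferInstance inferInstance
  exact isIso_of_mono_of_epi _

include hle hO in
theorem isIso_tauH_bounded : ∀ (d : ℕ) (K : DCoh.DQCoh W) (c : ℤ), K.obj.IsGE c → K.obj.IsLE (c + d) →
    ∀ i : ℤ, IsoAt (tauH Φ τ i) K := by
  intro d
  induction d with
  | zero =>
    intro K c h₁ h₂ i
    haveI : K.obj.IsLE c := by simpa using h₂
    obtain ⟨M, ⟨e⟩⟩ := DerivedCategory.exists_iso_singleFunctor_obj_of_isGE_of_isLE K.obj c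
    have e' : K.obj ≅ (DCoh.inD W M)⟦-c⟧ :=
      e ≪≫ (((DerivedCategory.singleFunctors W.Modules).shiftIso (-c) c 0 (by omega)).app M).symm
    have hM : Coh.IsQCoh M := by
      haveI := K.property c
      exact QCohLib.isQCoh_of_iso ((DerivedCategory.homologyFunctor W.Modules c).mapIso e ≪≫
        (DerivedCategory.singleFunctorCompHomologyFunctorIso W.Modules c).app M)
    exact (isIso_tauH_modQ Φ b hle τ hO M hM (-c) i).of_iso ((DCoh.IsQCohD (X := W)).ι.preimageIso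
      ((((DCoh.IsQCohD (X := W)).ι.commShiftIso (-c)).app
        (⟨DCoh.inD W M, PerfBaseLib.isQCohD_inD M hM⟩ : DCoh.DQCoh W)) ≪≫ e'.symm))
  | succ d ih =>
    intro K c h₁ h₂ i
    obtain ⟨T, hT, e₂, a, a', hge', hle'⟩ := exists_truncQ K c
    subst e₂
    haveI := a
    haveI := a'
    haveI := hge' c h₁
    haveI := hle' _ h₂
    have b₁ : Dual3.IsBddBelowQ W T.obj₁ := ⟨c, inferInstanceAs (T.obj₁.obj.IsGE c)⟩
    have b₃ : Dual3.IsBddBelowQ W T.obj₃ := ⟨c + 1, inferInstanceAs (T.obj₃.obj.IsGE (c + 1))⟩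
    haveI := isGE_shiftQ T.obj₁ c 1 (c - 1) (by omega)
    haveI := isLE_shiftQ T.obj₁ c 1 (c - 1) (by omega)
    haveI := isGE_shiftQ T.obj₃ (c + 1) (-1) (c + 2) (by omega)
    haveI := isLE_shiftQ T.obj₃ (c + (d + 1 : ℕ)) (-1) (c + 2 + d) (by push_cast; omega)
    refine isoAt_mid Φ τ i T hT b₁ b₃ (ih _ c inferInstance ?_ i) (ih _ (c - 1) inferInstance ?_ i)
      (ih _ (c + 1) inferInstance ?_ i) (ih _ (c + 2) inferInstance inferInstance i)
    · exact DerivedCategory.TStructure.t.isLE_of_le _ c _ (by omega)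
    · exact DerivedCategory.TStructure.t.isLE_of_le _ (c - 1) _ (by omega)
    · exact DerivedCategory.TStructure.t.isLE_of_le _ (c + (d + 1 : ℕ)) _ (by push_cast; omega)

include hle hge hO in
/-- An endomorphism of a way-out functor which is invertible at the shifts of the structure sheaf is invertible on
all bounded below quasi-coherent complexes. -/
theorem isIso_tau : IsIso τ := by
  haveI : ∀ K : (Dual3.IsBddBelowQ W).FullSubcategory, IsIso (τ.app K) := fun ⟨K, m, hm⟩ => by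
    haveI : K.obj.IsGE m := hm
    refine (DerivedCategory.isIso_iff V.Modules _).2 fun i => ?_
    let k : ℤ := max (i + N) m
    obtain ⟨T, hT, e₂, a, a', hge', -⟩ := exists_truncQ K k
    subst e₂
    haveI := a
    haveI := a'
    haveI := hge' m inferInstance
    have b₁ : Dual3.IsBddBelowQ W T.obj₁ := ⟨m, inferInstanceAs (T.obj₁.obj.IsGE m)⟩
    have b₃ : Dual3.IsBddBelowQ W T.obj₃ := ⟨k + 1, inferInstanceAs (T.obj₃.obj.IsGE (k + 1))⟩
    haveI := isGE_shiftQ T.obj₁ m 1 (m - 1) (by omega)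
    haveI := isLE_shiftQ T.obj₁ k 1 (k - 1) (by omega)
    haveI := isGE_shiftQ T.obj₃ (k + 1) (-1) (k + 2) (by omega)
    haveI : T.obj₁.obj.IsLE (m + ((k - m).toNat : ℕ))  := DerivedCategory.TStructure.t.isLE_of_le _ k _ (by omega)
    haveI : (T.obj₁⟦(1 : ℤ)⟧).obj.IsLE (m - 1 + ((k - m).toNat : ℕ)) :=
      DerivedCategory.TStructure.t.isLE_of_le _ (k - 1) _ (by omega)
    exact isoAt_mid Φ τ i T hT b₁ b₃
      (isIso_tauH_bounded Φ b hle τ hO (k - m).toNat _ m inferInstance inferInstance i)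
      (isIso_tauH_bounded Φ b hle τ hO (k - m).toNat _ (m - 1) inferInstance inferInstance i)
      (isIso_tauH_low Φ N hge τ (k + 1) i (by omega))
      (isIso_tauH_low Φ N hge τ (k + 2) i (by omega)) ⟨m, hm⟩
  exact NatIso.isIso_of_isIso_app τ

end Main

end ShriekLib
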