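import Groth.Agent.ShriekLib.Smooth
import Groth.Agent.ShriekLib.WayOut
import Groth.Agent.ShriekLib.Factor
import Groth.Agent.FinDualFunLib.Main
import Groth.Agent.Dual3Lib.RelPC
import Groth.Agent.Dual3Lib.Chart
import Groth.Agent.Dual3Lib.PerfPush
import Groth.Agent.Dual3Lib.LpullTensorNat
import Groth.Agent.RelFlatLib.Absolute
import Groth.Agent.KiehlLib.PC
import Groth.Agent.CohCmpLib.OmegaRank
import Groth.Agent.ExtPowLib.Sheaf
import Groth.Agent.KoszOrthLib.AmpleGen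
import Groth.Agent.OmegaPnLib.Main
import Groth.Agent.TensorPCLib.External
import Groth.Agent.NagataCompLib.Nagata
import Groth.Agent.Dual3Lib.PnCoh

/-!
# The upper shriek of a perfect morphism, locally
-/

set_option autoImplicit false
set_option linter.style.haveILetI false
set_option linter.unusedSectionVars false
set_option backward.isDefEq.respectTransparency false
set_option backward.isDefEq.respectTransparency.types false
set_option maxHeartbeats 1000000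
set_option synthInstance.maxHeartbeats 200000

universe u

open CategoryTheory CategoryTheory.Limits AlgebraicGeometry
open Groth.Agent Groth.Agent.FMTransLib Groth.Agent.PerfDualLib Groth.Agent.FMKLib

attribute [local instance] HasDerivedCategory.standard

noncomputable section

namespace ShriekLib

/-- `- ⊗^L E` shifts upper bounds by an upper bound of `E`. -/
theorem isLE_lTensor_of_isLE {X : Scheme.{u}} (E : Cx X) [DCoh.HasLTensorCx E] (K : DCoh.D X) (b c : ℤ)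
    [(DerivedCategory.Q.obj E).IsLE b] [K.IsLE c] : ((DCoh.LTensorCx E).obj K).IsLE (c + b) := by
  obtain ⟨t⟩ := Dual3Lib.ten_lTensor (A := K) E (Iso.refl (DerivedCategory.Q.obj E))
  haveI : DerivedCategory.TStructure.t.IsLE (Dual3Lib.ten K (DerivedCategory.Q.obj E)) (c + b) :=
    TensorPCLib.isLE_ten K (DerivedCategory.Q.obj E) c b
  exact DerivedCategory.TStructure.t.isLE_of_iso t.symm (c + b)

/-- The upper shriek of a smooth morphism is a twist of the pullback. -/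
theorem exists_shriek_smooth {X Y Xb : Scheme.{u}} [IsNoetherian Y] (n : ℕ) (f : X ⟶ Y)
    [SmoothOfRelativeDimension n f] (j : X ⟶ Xb) (p : Xb ⟶ Y) [IsOpenImmersion j] [IsProper p] (hf : j ≫ p = f)
    [DCoh.HasRpush p] (hp : DCoh.RpushPreservesQCoh p) (a : DCoh.DQCoh Y ⥤ DCoh.DQCoh Xb)
    (adj : DCoh.RpushQ p hp ⊣ a) [DCoh.HasLpull f] :
    ∃ (E : Cx X) (_ : DCoh.HasLTensorCx E), (∃ b : ℤ, (DerivedCategory.Q.obj E).IsLE b) ∧
      Nonempty (Dual3.bddι Y ⋙ a ⋙ ObjectProperty.ι _ ⋙ DCoh.restrictD j ≅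
        Dual3.bddι Y ⋙ ObjectProperty.ι _ ⋙ DCoh.Lpull f ⋙ DCoh.LTensorCx E) := by
  haveI : Smooth f := SmoothOfRelativeDimension.smooth n f
  haveI := isNoetherian_of_proper p
  haveI : CompactSpace X := QuasiCompact.compactSpace_of_compactSpace j
  haveI : IsLocallyNoetherian X := isLocallyNoetherian_of_isOpenImmersion j
  haveI : IsNoetherian X := ⟨⟩
  haveI : IsSeparated f := by rw [← hf]; infer_instance
  haveI : QuasiCompact f := quasiCompact_of_compactSpace f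
  haveI : IsLocallyNoetherian (pullback f f) := LocallyOfFiniteType.isLocallyNoetherian (pullback.snd f f ≫ f)
  haveI : CompactSpace ↥(pullback f f) := QuasiCompact.compactSpace_of_compactSpace (pullback.snd f f ≫ f)
  haveI : IsNoetherian (pullback f f) := ⟨⟩
  haveI : SmoothOfRelativeDimension n (pullback.snd f f) :=
    haveI := smoothOfRelativeDimension_isStableUnderBaseChange.{u} n
    MorphismProperty.pullback_snd (P := @SmoothOfRelativeDimension n) _ _ inferInstance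
  haveI : Smooth (pullback.snd f f) := SmoothOfRelativeDimension.smooth n _
  let Δ := pullback.diagonal f
  haveI : IsClosedImmersion Δ := inferInstance
  have hΔ : Δ ≫ pullback.snd f f = 𝟙 X := pullback.diagonal_snd f
  haveI : IsIso (Δ ≫ pullback.snd f f) := by rw [hΔ]; infer_instance
  have hreg : RegImm.IsRegularImmersionOfCodim RegImm.Kind.regular n Δ :=
    QSecLib.regularOfCodim_of_smooth (pullback.snd f f) Δ n
      fun z => FibDimLib.fibreDimAt_smoothOfRelativeDimension n (pullback.snd f f) (Δ z)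
  have hperf : MoreMor.IsPerfectMor Δ :=
    PerfModLib.perfectMor_cancel_smooth Δ (pullback.snd f f) (PerfModLib.perfectMor_of_flat _)
  have hO : FlatMod.IsFinLocFree (Omega.sheaf f) := fun x => by
    obtain ⟨U, hx, h⟩ := CohCmpLib.rank_omega f n x
    exact ⟨U, n, hx, h⟩
  obtain ⟨L, -, hL⟩ := ExtPowLib.exists_isExtPow_vb hO n
  have hLi : PicF.IsInvertible L := FLI.isInvertible_det (ι := Δ) hL (FLI.exists_chart hreg)
  obtain ⟨e⟩ := MiscFlat6.nonempty_dualIso hLi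
  let M := MiscFlat6.dual L
  let eM : CohCmpLib.homMod L (Coh.structureModule X) ≅ M :=
    FLI.homModIso e _ ≪≫ KFlatLib.tensSwap (Coh.structureModule X) M ≪≫ KFlatLib.tensUnitIso _
  haveI := KFlatLib.hasLpull (Δ ≫ pullback.snd f f)
  haveI := KFlatLib.hasLTensorCx (oneCx M)
  haveI := KFlatLib.hasLTensorCx (oneCx L)
  let EM : Cx X := (oneCx M)⟦(-(n : ℤ))⟧
  haveI := KFlatLib.hasLTensorCx EM
  let qE : DerivedCategory.Q.obj EM ≅ (DerivedCategory.Q.obj (oneCx M))⟦(-(n : ℤ))⟧ :=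
    (DerivedCategory.Q.commShiftIso (-(n : ℤ))).app _
  obtain ⟨key⟩ := nonempty_shriek_sect_key f j p hf hp a adj Δ
    ((pullback.diagonal_fst f).trans hΔ.symm) hperf EM
    (fun {_} h ai hai O' hO' => (nonempty_shriek_regular Δ hreg L hL h ai hai O' hO').map fun x =>
      x ≪≫ (shiftFunctor _ (-(n : ℤ))).mapIso
        ((DerivedCategory.singleFunctor X.Modules 0).mapIso eM ≪≫ (oneCxIso M).symm) ≪≫ qE.symm)
  obtain ⟨es⟩ := nonempty_ltCx_shift EM (oneCx M) (-(n : ℤ)) qE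
  obtain ⟨cc⟩ := nonempty_twist_cancel M L hLi (KFlatLib.tensSwap L M ≪≫ e)
  obtain ⟨id₁⟩ := Dual3Lib.nonempty_lpull_id (Δ ≫ pullback.snd f f) hΔ
  let Eu : Cx X := (unitCx X)⟦(n : ℤ)⟧
  haveI := KFlatLib.hasLTensorCx Eu
  haveI := KFlatLib.hasLTensorCx (unitCx X)
  let qu : DerivedCategory.Q.obj Eu ≅ (DerivedCategory.Q.obj (unitCx X))⟦(n : ℤ)⟧ :=
    (DerivedCategory.Q.commShiftIso (n : ℤ)).app _
  obtain ⟨su⟩ := nonempty_ltCx_shift Eu (unitCx X) (n : ℤ) qu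
  obtain ⟨uu⟩ := nonempty_ltCx_unit (X := X)
  let E := ((DCoh.tensorCx (X := X)).obj Eu).obj (oneCx L)
  haveI := KFlatLib.hasLTensorCx E
  have hkL := FMTransLib.isKFlat_oneCx hLi
  have hku : DCoh.IsKFlat Eu := Dual3Lib.isKFlat_shiftN (KFlatLib.isKFlat_of_isStrictlyPerfect (isStrictlyPerfect_unitCx X)) _
  obtain ⟨cE⟩ := TensorAssocLib.nonempty_lTensor_comp Eu (oneCx L) hkL
  refine ⟨E, inferInstance, ⟨-(n : ℤ) + 0, ?_⟩, ⟨?_⟩⟩
  · obtain ⟨e₁⟩ := KFlatLib.exists_lTensorCxObjIso (oneCx L) Eu hku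
    haveI : DerivedCategory.TStructure.t.IsLE (DerivedCategory.Q.obj (unitCx X)) 0 :=
      DerivedCategory.TStructure.t.isLE_of_iso (DualFMLib.inDUnit X) 0
    haveI : DerivedCategory.TStructure.t.IsLE ((DerivedCategory.Q.obj (unitCx X))⟦(n : ℤ)⟧) (-(n : ℤ)) :=
      DerivedCategory.TStructure.t.isLE_shift _ 0 (n : ℤ) _ (by omega)
    haveI : (DerivedCategory.Q.obj Eu).IsLE (-(n : ℤ)) :=
      DerivedCategory.TStructure.t.isLE_of_iso qu.symm _
    haveI : (DerivedCategory.Q.obj (oneCx L)).IsLE 0 :=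
      DerivedCategory.TStructure.t.isLE_of_iso (oneCxIso L).symm 0
    haveI := isLE_lTensor_of_isLE (oneCx L) (DerivedCategory.Q.obj Eu) 0 (-(n : ℤ))
    exact DerivedCategory.TStructure.t.isLE_of_iso e₁ _
  · let A := Dual3.bddι Y ⋙ a ⋙ ObjectProperty.ι _ ⋙ DCoh.restrictD j
    let B := Dual3.bddι Y ⋙ ObjectProperty.ι _ ⋙ DCoh.Lpull f
    let k₁ : A ⋙ DCoh.LTensorCx (oneCx M) ⋙ shiftFunctor (DCoh.D X) (-(n : ℤ)) ≅ B :=
      Functor.isoWhiskerLeft A es.symm ≪≫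
        Functor.isoWhiskerLeft A (Functor.isoWhiskerRight id₁.symm (DCoh.LTensorCx EM)) ≪≫ key ≪≫
        Functor.isoWhiskerLeft B id₁ ≪≫ Functor.rightUnitor _
    let S : shiftFunctor (DCoh.D X) (-(n : ℤ)) ⋙ shiftFunctor (DCoh.D X) (n : ℤ) ≅ 𝟭 _ :=
      shiftFunctorCompIsoId (DCoh.D X) (-(n : ℤ)) (n : ℤ) (neg_add_cancel _)
    let k₂ : A ⋙ DCoh.LTensorCx (oneCx M) ≅ B ⋙ DCoh.LTensorCx Eu :=
      (Functor.rightUnitor _).symm ≪≫ Functor.isoWhiskerLeft (A ⋙ DCoh.LTensorCx (oneCx M)) S.symm ≪≫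
        Functor.isoWhiskerRight k₁ (shiftFunctor (DCoh.D X) (n : ℤ)) ≪≫
        Functor.isoWhiskerLeft B ((Functor.leftUnitor _).symm ≪≫ Functor.isoWhiskerRight uu.symm _ ≪≫ su.symm)
    exact (Functor.rightUnitor _).symm ≪≫ Functor.isoWhiskerLeft A cc.symm ≪≫
      Functor.isoWhiskerRight k₂ (DCoh.LTensorCx (oneCx L)) ≪≫ Functor.isoWhiskerLeft B cE

/-- `a(O)` of a perfect closed immersion is bounded above. -/
theorem exists_isLE_rightAdjoint {V P : Scheme.{u}} [IsNoetherian P] (k : V ⟶ P) [IsClosedImmersion k]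
    (hk : MoreMor.IsPerfectMor k) [DCoh.HasRpush k] (hR : DCoh.RpushPreservesQCoh k)
    (a : DCoh.DQCoh P ⥤ DCoh.DQCoh V) (adj : DCoh.RpushQ k hR ⊣ a) (O : DCoh.DQCoh P)
    (hO : Nonempty (O.obj ≅ DCoh.inD P (Coh.structureModule P))) : ∃ b : ℤ, (a.obj O).obj.IsLE b := by
  haveI := isNoetherian_of_proper k
  obtain ⟨eO⟩ := hO
  have hOb : Dual3.IsBddBelowQ P O :=
    ⟨0, DerivedCategory.TStructure.t.isGE_of_iso eO.symm 0⟩
  let G := DCoh.inD P ((Scheme.Modules.pushforward k).obj (Coh.structureModule V))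
  obtain ⟨E, hE, ⟨eE⟩⟩ := exists_kFlat_model G
  haveI := KFlatLib.hasLTensorCx E
  haveI := BidualSchLib.hasRSheafHom E
  obtain ⟨er⟩ := FinDualFunLib.nonempty_rpush_rightAdjoint_iso k hR a adj E ⟨eE⟩
  obtain ⟨es⟩ := KiehlLib.nonempty_rpush_single k (Coh.structureModule V) QCohLib.isQCoh_unit 0
  have hu : DCoh.IsPerfect (DCoh.inD V (Coh.structureModule V)) :=
    KoszOrthLib.isPerfect_inD_unit V
  have hperf : DCoh.IsPerfect (DerivedCategory.Q.obj E) :=
    PerfLib.isPerfect_of_iso (es ≪≫ eE.symm) (Dual3Lib.isPerfect_rpush_of_perfectMor k hk hu)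
  have h1 : DCoh.IsPerfect ((DCoh.Rpush k).obj (a.obj O).obj) :=
    PerfLib.isPerfect_of_iso ((DCoh.RSheafHom E).mapIso (eO ≪≫ DualFMLib.inDUnit P).symm ≪≫
      (er.app ⟨O, hOb⟩).symm) (PerfDualLib.isPerfect_dual E hperf)
  obtain ⟨b, hb⟩ := KiehlLib.exists_isLE_of_isPC (RelFlatLib.isPC_of_isPerfect h1 0)
  haveI := hb
  obtain ⟨ep⟩ := Dual3Lib.nonempty_rpush_pushD k (a.obj O).obj
  refine ⟨b, (DerivedCategory.isLE_iff _ _).2 fun i hi => (ImmPCLib.isZero_HD_push_iff k _ i).1 ?_⟩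
  exact (DerivedCategory.isZero_of_isLE _ b i hi).of_iso
    ((DerivedCategory.homologyFunctor P.Modules i).mapIso ep.symm)

/-- Locally the upper shriek of a perfect morphism is a twist of the pullback. -/
theorem exists_local_model {X Y Xb : Scheme.{u}} [IsNoetherian Y] (f : X ⟶ Y) (hperf : MoreMor.IsPerfectMor f)
    (j : X ⟶ Xb) (p : Xb ⟶ Y) [IsOpenImmersion j] [IsProper p] (hf : j ≫ p = f)
    [DCoh.HasRpush p] (hp : DCoh.RpushPreservesQCoh p) (a : DCoh.DQCoh Y ⥤ DCoh.DQCoh Xb)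
    (adj : DCoh.RpushQ p hp ⊣ a) (W : Y.Opens) (hW : IsAffineOpen W) (V : X.Opens) (hV : IsAffineOpen V)
    (hVW : V ≤ f ⁻¹ᵁ W) (hne : Nonempty (V : Scheme.{u})) :
    ∃ (E : Cx (V : Scheme.{u})) (_ : DCoh.HasLTensorCx E) (_ : DCoh.HasLpull (f.resLE W V hVW))
      (b : ℤ), (DerivedCategory.Q.obj E).IsLE b ∧
      Nonempty (Dual3.bddι Y ⋙ a ⋙ ObjectProperty.ι _ ⋙ DCoh.restrictD j ⋙ DCoh.restrictD V.ι ≅
        Dual3.bddι Y ⋙ restrictQ W.ι ⋙ ObjectProperty.ι _ ⋙ DCoh.Lpull (f.resLE W V hVW) ⋙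
          DCoh.LTensorCx E) := by
  haveI := isNoetherian_of_proper p
  haveI : CompactSpace X := QuasiCompact.compactSpace_of_compactSpace j
  haveI : IsLocallyNoetherian X := isLocallyNoetherian_of_isOpenImmersion j
  haveI : IsNoetherian X := ⟨⟩
  haveI : LocallyOfFiniteType f := by rw [← hf]; infer_instance
  haveI : IsAffine (W : Scheme.{u}) := hW
  haveI : IsAffine (V : Scheme.{u}) := hV
  haveI : IsLocallyNoetherian (W : Scheme.{u}) := isLocallyNoetherian_of_isOpenImmersion W.ι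
  haveI : IsNoetherian (W : Scheme.{u}) := ⟨⟩
  haveI : IsLocallyNoetherian (V : Scheme.{u}) := isLocallyNoetherian_of_isOpenImmersion V.ι
  haveI : IsNoetherian (V : Scheme.{u}) := ⟨⟩
  let g := f.resLE W V hVW
  have hgι : g ≫ W.ι = V.ι ≫ f := Scheme.Hom.resLE_comp_ι f hVW
  haveI : LocallyOfFiniteType g := by
    haveI : LocallyOfFiniteType (g ≫ W.ι) := by rw [hgι]; infer_instance
    exact locallyOfFiniteType_of_comp g W.ι
  have hgp : MoreMor.IsPerfectMor g := by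
    refine PerfModLib.perfectMor_cancel_smooth g W.ι ?_
    rw [hgι]
    exact PerfModLib.perfectMor_comp _ _ (PerfModLib.perfectMor_of_flat V.ι) hperf
  -- a chart
  haveI : Nontrivial Γ((W : Scheme.{u}), ⊤) := by
    obtain ⟨v⟩ := hne
    exact ((W : Scheme.{u}).presheaf.germ ⊤ (g v) trivial).hom.domain_nontrivial
  haveI : LocallyOfFiniteType (g ≫ (W : Scheme.{u}).isoSpec.hom) := inferInstance
  obtain ⟨n, U, k, hU, _, hk⟩ := Dual3Lib.exists_chart (A := Γ((W : Scheme.{u}), ⊤)) (g ≫ (W : Scheme.{u}).isoSpec.hom)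
  haveI := hU
  let π := CohB1.ProjSpace.toSpec n Γ((W : Scheme.{u}), ⊤) ≫ (W : Scheme.{u}).isoSpec.inv
  haveI : SmoothOfRelativeDimension n (CohB1.ProjSpace.toSpec n Γ((W : Scheme.{u}), ⊤)) :=
    OmegaPnLib.smoothRel_projSpace _ n
  haveI : IsProper (CohB1.ProjSpace.toSpec n Γ((W : Scheme.{u}), ⊤)) := (KoszOrthLib.projSpace_hyps n _).1
  haveI : IsProper π := inferInstance
  let h := U.ι ≫ π
  haveI : SmoothOfRelativeDimension n h := by
    have : SmoothOfRelativeDimension (0 + (n + 0)) (U.ι ≫ CohB1.ProjSpace.toSpec n Γ((W : Scheme.{u}), ⊤) ≫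
        (W : Scheme.{u}).isoSpec.inv) := inferInstance
    simpa using this
  haveI : Smooth h := SmoothOfRelativeDimension.smooth n h
  have hkh : k ≫ h = g := by
    simp only [h, π]
    rw [reassoc_of% hk, Iso.hom_inv_id, Category.comp_id]
  have hkp : MoreMor.IsPerfectMor k := PerfModLib.perfectMor_cancel_smooth k h (by rw [hkh]; exact hgp)
  haveI := isNoetherian_of_proper π
  haveI : CompactSpace (U : Scheme.{u}) := inferInstance
  haveI : IsLocallyNoetherian (U : Scheme.{u}) := isLocallyNoetherian_of_isOpenImmersion U.ι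
  haveI : IsNoetherian (U : Scheme.{u}) := ⟨⟩
  haveI := DCohRestrLib.hasRpush π
  haveI := DCohRestrLib.hasRpush k
  haveI := KFlatLib.hasLpull g
  haveI := KFlatLib.hasLpull h
  haveI := KFlatLib.hasLpull k
  haveI := KFlatLib.hasLpull (k ≫ h)
  obtain ⟨aπ, ⟨adjπ⟩⟩ := exists_rightAdjoint π (hpush π)
  obtain ⟨ak, ⟨adjk⟩⟩ := exists_rightAdjoint k (hpush k)
  obtain ⟨cF⟩ := nonempty_shriek_factor f j p hf hp a adj V.ι W.ι k U.ι π
    ((congrArg (· ≫ W.ι) hkh).trans hgι |> fun e => by simpa only [h, Category.assoc] using e)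
    (hpush k) ak adjk (hpush π) aπ adjπ
  obtain ⟨Eh, _, ⟨bh, hbh⟩, ⟨eh⟩⟩ := exists_shriek_smooth n h U.ι π rfl (hpush π) aπ adjπ
  let O : DCoh.DQCoh (U : Scheme.{u}) :=
    ⟨DCoh.inD _ (Coh.structureModule _), PerfBaseLib.isQCohD_inD _ QCohLib.isQCoh_unit⟩
  obtain ⟨bk, hbk⟩ := exists_isLE_rightAdjoint k hkp (hpush k) ak adjk O ⟨Iso.refl _⟩
  obtain ⟨Ek, hEk, ⟨eEk⟩⟩ := exists_kFlat_model (ak.obj O).obj
  haveI := KFlatLib.hasLTensorCx Ek
  obtain ⟨hcop⟩ : PLift (∀ J : Type u, PreservesColimitsOfShape (Discrete J) ak) :=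
    ⟨KoszOrthLib.preservesCoproducts_rightAdjoint k (hpush k)
      (fun K hK => Dual3Lib.isPerfect_rpush_of_perfectMor k hkp hK) ak adjk⟩
  obtain ⟨ek⟩ := Dual3Lib.nonempty_rightAdjoint_iso_tensor k (hpush k) ak adjk hcop O ⟨Iso.refl _⟩ Ek ⟨eEk⟩
  obtain ⟨Eh', hEh', ⟨eEh'⟩⟩ := exists_kFlat_model (DerivedCategory.Q.obj Eh)
  haveI := KFlatLib.hasLTensorCx Eh'
  obtain ⟨ch⟩ := ProjFormLib.nonempty_lTensor_congr_iso (M := Eh) (N := Eh') eEh'.symm
  let Eh'' := (KFlatLib.pullCx k).obj Eh'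
  haveI := KFlatLib.hasLTensorCx Eh''
  obtain ⟨tk⟩ := Dual3Lib.nonempty_lTensor_lpull k Eh' hEh'
  let E := ((DCoh.tensorCx (X := (V : Scheme.{u}))).obj Eh'').obj Ek
  haveI := KFlatLib.hasLTensorCx E
  obtain ⟨cE⟩ := TensorAssocLib.nonempty_lTensor_comp Eh'' Ek hEk
  obtain ⟨cL⟩ := KFlatLib.lpull_comp k h
  obtain ⟨gL⟩ := nonempty_lpull_congrNat (f := k ≫ h) (f' := g) hkh
  haveI := KFlatLib.hasLpull (𝟙 (V : Scheme.{u}))
  haveI := DCohRestrLib.hasRpush (𝟙 (V : Scheme.{u}))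
  obtain ⟨i₁⟩ := Dual3Lib.nonempty_lpull_id (𝟙 (V : Scheme.{u})) rfl
  refine ⟨E, inferInstance, inferInstance, bh + bk, ?_, ⟨?_⟩⟩
  · haveI : (DerivedCategory.Q.obj Eh').IsLE bh := DerivedCategory.TStructure.t.isLE_of_iso eEh'.symm bh
    haveI : (DerivedCategory.Q.obj Ek).IsLE bk := DerivedCategory.TStructure.t.isLE_of_iso eEk.symm bk
    let p₁ := KFlatLib.lpullObjIso k Eh' hEh'
    haveI : ((DCoh.Lpull k).obj (DerivedCategory.Q.obj Eh')).IsLE bh := TensorPCLib.isLE_lpull k _ bh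
    haveI : (DerivedCategory.Q.obj Eh'').IsLE bh := DerivedCategory.TStructure.t.isLE_of_iso p₁ bh
    haveI := isLE_lTensor_of_isLE Ek (DerivedCategory.Q.obj Eh'') bk bh
    obtain ⟨e₁⟩ := KFlatLib.exists_lTensorCxObjIso Ek Eh'' (KFlatLib.isKFlat_pull k hEh')
    exact DerivedCategory.TStructure.t.isLE_of_iso e₁ _
  · let v : DCoh.restrictD (𝟙 (V : Scheme.{u})) ≅ 𝟭 _ := (DualFMLib.lpullRestrIso (𝟙 _)).symm ≪≫ i₁
    let tI : ak ⋙ restrictQ (𝟙 _) ⋙ ObjectProperty.ι _ ≅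
        ObjectProperty.ι _ ⋙ DCoh.Lpull k ⋙ DCoh.LTensorCx Ek :=
      Functor.isoWhiskerLeft (ak ⋙ ObjectProperty.ι _) v ≪≫ Functor.rightUnitor _ ≪≫ ek
    let b : (Dual3.IsBddBelowQ Y).FullSubcategory ⥤ (Dual3.IsBddBelowQ (W : Scheme.{u})).FullSubcategory :=
      ObjectProperty.lift _ (Dual3.bddι Y ⋙ restrictQ W.ι) fun K => isBddBelow_restrictQ W.ι K.obj K.property
    exact Functor.isoWhiskerRight cF (ObjectProperty.ι _) ≪≫
      Functor.isoWhiskerLeft b (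
        Functor.isoWhiskerLeft (Dual3.bddι _ ⋙ aπ ⋙ restrictQ U.ι) tI ≪≫
        Functor.isoWhiskerRight eh (DCoh.Lpull k ⋙ DCoh.LTensorCx Ek) ≪≫
        Functor.isoWhiskerLeft (Dual3.bddι _ ⋙ ObjectProperty.ι _ ⋙ DCoh.Lpull h)
          (Functor.isoWhiskerRight ch (DCoh.Lpull k ⋙ DCoh.LTensorCx Ek) ≪≫
            Functor.isoWhiskerRight tk (DCoh.LTensorCx Ek) ≪≫ Functor.isoWhiskerLeft (DCoh.Lpull k) cE) ≪≫
        Functor.isoWhiskerLeft (Dual3.bddι _ ⋙ ObjectProperty.ι _)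
          (Functor.isoWhiskerRight (cL ≪≫ gL) (DCoh.LTensorCx E)))

end ShriekLib
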