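import Groth.Agent.Dual3Lib.SerreMain
import Groth.Agent.DCohRestrLib.RHomRestr
import Groth.Agent.DCohRestrLib.Support
import Groth.Agent.PerfCompLib.ExtZero
import Groth.Agent.Formal2VBLib.Basic
import Groth.Agent.CohCmpLib.SectionPair
import Groth.Agent.PnCohLib.Split
import Groth.Agent.IntMultLib.Dim0
import Groth.Agent.QCohLib.AffineFinite
import Groth.Agent.DepthLib.RegAB
import Groth.Agent.KFlatLib.PullTensor
import Groth.Agent.KFlatLib.DerivedTensor
import Groth.Agent.BidualSchLib.Exists
import Groth.Agent.MiscFlat6.QALocus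
import Groth.Agent.StratLib.Light
import Groth.Prelude.Def_KLin
import Mathlib.RingTheory.Nakayama

/-!
# When the canonical map `O ⟶ RHom(E, E)` is invertible
-/

set_option autoImplicit false
set_option linter.style.haveILetI false
set_option linter.unusedSectionVars false
set_option backward.isDefEq.respectTransparency false
set_option backward.isDefEq.respectTransparency.types false
set_option maxHeartbeats 1000000
set_option synthInstance.maxHeartbeats 200000

universe u

open CategoryTheory CategoryTheory.Limits AlgebraicGeometry Opposite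
open Groth.Agent

attribute [local instance] HasDerivedCategory.standard

noncomputable section

namespace ShriekLib.SelfAdj

section Scalars

variable {U : Scheme.{u}} {k : Type u} [CommRing k] [U.Over (Spec (CommRingCat.of k))]

/-- Cohomology sheaves respect scalars. -/
theorem homology_smul_id (A : DCoh.D U) (r : k) (i : ℤ) :
    (DerivedCategory.homologyFunctor U.Modules i).map (r • 𝟙 A) = r • 𝟙 _ := by
  let H := DerivedCategory.homologyFunctor U.Modules i
  let e := DerivedCategory.Q.objObjPreimageIso A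
  let P := DerivedCategory.Q.objPreimage A
  have h0 : H.map (r • 𝟙 (DerivedCategory.Q.obj P)) = r • 𝟙 _ := by
    rw [← CategoryTheory.Functor.map_id DerivedCategory.Q P, ← Functor.map_smul,
      ← cancel_mono ((DerivedCategory.homologyFunctorFactors U.Modules i).hom.app P)]
    refine ((DerivedCategory.homologyFunctorFactors U.Modules i).hom.naturality (r • 𝟙 P)).trans ?_
    show _ ≫ HomologicalComplex.homologyMap (r • 𝟙 P) i = _
    have h1 : HomologicalComplex.homologyMap (r • 𝟙 P) i = r • 𝟙 (P.homology i) := by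
      rw [← cancel_epi (P.homologyπ i), HomologicalComplex.homologyπ_naturality]
      have h2 : HomologicalComplex.cyclesMap (r • 𝟙 P) i = r • 𝟙 (P.cycles i) := by
        rw [← cancel_mono (P.iCycles i), HomologicalComplex.cyclesMap_i, HomologicalComplex.smul_f_apply,
          HomologicalComplex.id_f, Linear.comp_smul, Category.comp_id, Linear.smul_comp, Category.id_comp]
      rw [h2, Linear.smul_comp, Category.id_comp, Linear.comp_smul, Category.comp_id]
    rw [h1]
    exact (Linear.comp_smul _ _ _ _ _ _).trans ((congrArg (r • ·) ((Category.comp_id _).trans (Category.id_comp _).symm)).trans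
      (Linear.smul_comp _ _ _ _ _ _).symm)
  change H.map (r • 𝟙 A) = r • 𝟙 (H.obj A)
  rw [show r • 𝟙 A = e.inv ≫ (r • 𝟙 (DerivedCategory.Q.obj P)) ≫ e.hom by simp [e, P],
    Functor.map_comp, Functor.map_comp, h0, Linear.smul_comp, Category.id_comp, Linear.comp_smul,
    ← Functor.map_comp, e.inv_hom_id, CategoryTheory.Functor.map_id]

/-- A multiple of a scalar vanishing at `y` is surjective on stalks at `y` only for zero stalks. -/
theorem subsingleton_stalk_of_smul {M N : U.Modules} (β : M ⟶ N) (r : k) (y : U)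
    (hr : ¬ IsUnit (U.presheaf.germ ⊤ y trivial (Coh.toGlobal (U ↘ Spec (CommRingCat.of k)) r)))
    [IsIso (r • β)] (hN : Coh.IsCoh N) : Subsingleton (N.presheaf.stalk y) := by
  let t := U.presheaf.germ ⊤ y trivial (Coh.toGlobal (U ↘ Spec (CommRingCat.of k)) r)
  haveI := hN.1
  haveI : Module.Finite (U.presheaf.stalk y) ((DerSch.stalkFunctor U y).obj N) :=
    DepthLib.finite_stalk N hN.2 y
  suffices (⊤ : Submodule (U.presheaf.stalk y) ((DerSch.stalkFunctor U y).obj N)) = ⊥ by
    have h := subsingleton_of_bot_eq_top this.symm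
    exact (Submodule.subsingleton_iff _).1 h
  refine Submodule.eq_bot_of_le_smul_of_le_jacobson_bot (IsLocalRing.maximalIdeal _) ⊤ Module.Finite.fg_top ?_
    (IsLocalRing.maximalIdeal_le_jacobson _)
  intro b _
  haveI : IsIso ((DerSch.stalkFunctor U y).map (r • β)) := inferInstance
  obtain ⟨a, ha⟩ := ((ConcreteCategory.isIso_iff_bijective _).1 this).2 b
  have e : b = t • ((DerSch.stalkFunctor U y).map β).hom a := by
    rw [← ha]
    show ((DerSch.stalkFunctor U y).map (Formal.smulMod k M r ≫ β)).hom a = _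
    rw [Functor.map_comp, ModuleCat.hom_comp, LinearMap.comp_apply]
    show ((DerSch.stalkFunctor U y).map β).hom (((DerSch.stalkFunctor U y).map (Formal.smulModΓ M _)).hom a) = _
    rw [Formal2VBLib.stalk_smulModΓ, map_smul]
  rw [e]
  exact Submodule.smul_mem_smul ((IsLocalRing.mem_maximalIdeal _).2 hr) Submodule.mem_top

end Scalars

/-- The local criterion. -/
theorem isIso_of_local {U : Scheme.{u}} (E : CochainComplex U.Modules ℤ) [DCoh.HasLTensorCx E] {R : DCoh.D U}
    (φ : DCoh.inD U (Coh.structureModule U) ⟶ R) (ψ : R ≅ DCoh.inD U (Coh.structureModule U))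
    (g : (DCoh.LTensorCx E).obj R ⟶ DerivedCategory.Q.obj E) [IsIso ((DCoh.LTensorCx E).map φ ≫ g)]
    (hc : ∀ i : ℤ, Coh.IsCoh (DCoh.HD (DerivedCategory.Q.obj E) i))
    (hne : ∀ y : U, ∃ i : ℤ, y ∈ CohB1.support (DCoh.HD (DerivedCategory.Q.obj E) i)) : IsIso φ := by
  let k := Γ(U, ⊤)
  letI : U.Over (Spec (CommRingCat.of k)) := ⟨U.toSpecΓ⟩
  have hk : ∀ r : k, Coh.toGlobal (U ↘ Spec (CommRingCat.of k)) r = r := fun r => by
    show (U.toSpecΓ.appTop).hom ((Scheme.ΓSpecIso Γ(U, ⊤)).inv.hom r) = r
    rw [Scheme.toSpecΓ_appTop, ← CommRingCat.comp_apply, Iso.inv_hom_id]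
    rfl
  obtain ⟨h, hh⟩ := (DerivedCategory.singleFunctor U.Modules 0).map_surjective (φ ≫ ψ.hom)
  let c : k := h.app ⊤ (1 : Γ(U, ⊤))
  have hs : h = c • 𝟙 (Coh.structureModule U) := by
    rw [KLin.smul_id]
    refine CohCmpLib.endVal.injective ?_
    show h.app ⊤ (1 : Γ(U, ⊤)) = (Formal.smulModΓ (Coh.structureModule U) _).app ⊤ (1 : Γ(U, ⊤))
    rw [Formal2VBLib.app_smulModΓ_top, hk]
    exact (mul_one c).symm
  have hφ : φ = c • ψ.inv := by
    rw [← cancel_mono ψ.hom, Linear.smul_comp, ψ.inv_hom_id, ← hh, hs, Functor.map_smul,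
      CategoryTheory.Functor.map_id]
  have hu : IsUnit (c : Γ(U, ⊤)) := by
    refine U.toLocallyRingedSpace.toRingedSpace.isUnit_of_isUnit_germ ⊤ c fun y _ => ?_
    by_contra hr
    obtain ⟨i, hi⟩ := hne y
    let β := (DCoh.LTensorCx E).map ψ.inv ≫ g
    let H := DerivedCategory.homologyFunctor U.Modules i
    have e : H.map ((DCoh.LTensorCx E).map φ ≫ g) = c • H.map β := by
      rw [hφ, Dual3Lib.Serre.lTensor_map_smul, Linear.smul_comp,
        show c • ((DCoh.LTensorCx E).map ψ.inv ≫ g) = (c • 𝟙 _) ≫ β by simp [β], Functor.map_comp,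
        homology_smul_id, Linear.smul_comp, Category.id_comp]
    haveI : IsIso (c • H.map β) := by rw [← e]; infer_instance
    refine hi (subsingleton_stalk_of_smul (H.map β) c y ?_ (hc i))
    rw [hk]
    exact hr
  haveI : IsIso h := PnCohLib.isIso_endUnit h hu
  haveI : IsIso (φ ≫ ψ.hom) := by rw [← hh]; infer_instance
  exact IsIso.of_isIso_comp_right φ ψ.hom

/-- `O ⟶ RHom(E, E)` is invertible if `RHom(E, E)` is locally `O`. -/
theorem isIso_homEquiv_self {X : Scheme.{u}} (E : CochainComplex X.Modules ℤ) [DCoh.HasLTensorCx E]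
    [DCoh.HasRSheafHom E] (lo hi : ℤ)
    (hb : ∀ i : ℤ, i < lo ∨ hi < i → IsZero (DCoh.HD (DerivedCategory.Q.obj E) i))
    (hc : ∀ i : ℤ, Coh.IsCoh (DCoh.HD (DerivedCategory.Q.obj E) i))
    (hloc : ∀ x : X, ∃ U : X.Opens, x ∈ U ∧ Nonempty ((DCoh.restrictD U.ι).obj
      ((DCoh.RSheafHom E).obj (DerivedCategory.Q.obj E)) ≅ DCoh.inD _ (Coh.structureModule (U : Scheme.{u}))))
    (υ : (DCoh.LTensorCx E).obj (DCoh.inD X (Coh.structureModule X)) ≅ DCoh.toD X E) :
    IsIso (((DCoh.RSheafHomAdj E).homEquiv (DCoh.inD X (Coh.structureModule X)) (DCoh.toD X E)) υ.hom) := by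
  let adj := DCoh.RSheafHomAdj E
  let φ := adj.homEquiv (DCoh.inD X (Coh.structureModule X)) (DCoh.toD X E) υ.hom
  have hυ : (DCoh.LTensorCx E).map φ ≫ adj.counit.app _ = υ.hom := by
    exact (Adjunction.homEquiv_counit (adj := adj) (g := φ)).symm.trans (Equiv.symm_apply_apply _ _)
  change IsIso φ
  rw [DerivedCategory.isIso_iff]
  intro n
  refine KFlatLib.isIso_of_stalks _ fun x => ?_
  obtain ⟨U, hx, ⟨ψ⟩⟩ := hloc x
  haveI : IsIso ((DCoh.restrictD U.ι).map φ) := by
    let R := DCoh.restrictD U.ι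
    obtain ⟨oU⟩ := MiscFlat6.nonempty_restrict_structureModule U.ι
    let o : DCoh.inD _ (Coh.structureModule (U : Scheme.{u})) ≅ R.obj (DCoh.inD X (Coh.structureModule X)) :=
      (((Scheme.Modules.restrictFunctor U.ι).mapDerivedCategorySingleFunctor 0).app _ ≪≫
        (DerivedCategory.singleFunctor _ 0).mapIso oU).symm
    let EU := (DCohRestrLib.resCx U).obj E
    haveI := KFlatLib.hasLTensorCx EU
    obtain ⟨ω⟩ := DCohRestrLib.nonempty_restrict_LTensor U E
    let f : R.obj (DerivedCategory.Q.obj E) ≅ DerivedCategory.Q.obj EU :=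
      (Scheme.Modules.restrictFunctor U.ι).mapDerivedCategoryFactors.app E
    let g : (DCoh.LTensorCx EU).obj (R.obj ((DCoh.RSheafHom E).obj (DerivedCategory.Q.obj E))) ⟶
        DerivedCategory.Q.obj EU :=
      ω.hom.app _ ≫ R.map (adj.counit.app (DerivedCategory.Q.obj E)) ≫ f.hom
    haveI : IsIso ((DCoh.LTensorCx EU).map (o.hom ≫ R.map φ) ≫ g) := by
      have e : (DCoh.LTensorCx EU).map (o.hom ≫ R.map φ) ≫ g =
          (DCoh.LTensorCx EU).map o.hom ≫ ω.hom.app _ ≫ R.map υ.hom ≫ f.hom := by
        rw [← hυ]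
        simp only [g, Functor.map_comp, Category.assoc]
        congr 1
        exact ω.hom.naturality_assoc φ _
      rw [e]
      infer_instance
    haveI : IsIso (o.hom ≫ R.map φ) := by
      refine isIso_of_local EU (o.hom ≫ R.map φ) ψ g (fun i => ?_) fun y => ?_
      · exact QCohLib.isCoh_of_iso
          ((DCohRestrLib.restrictHDIso U.ι (DerivedCategory.Q.obj E) i).symm ≪≫
            (DerivedCategory.homologyFunctor _ i).mapIso f) (StratLib.isCoh_restrict U.ι (hc i))
      · by_contra hy
        push_neg at hy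
        have hy' : ∀ i : ℤ, U.ι y ∉ CohB1.support (DCoh.HD (DerivedCategory.Q.obj E) i) := fun i h => hy i (by
          have := (Set.ext_iff.1 (DCohRestrLib.support_HD_restrictD U.ι (DerivedCategory.Q.obj E) i) y).2 h
          exact fun hs => this ((DCohRestrLib.subsingleton_stalk_of_iso
            ((DerivedCategory.homologyFunctor _ i).mapIso f) y).2 hs))
        let T : X.Opens := ⟨⋂ i ∈ Finset.Icc lo hi, (CohB1.support (DCoh.HD (DerivedCategory.Q.obj E) i))ᶜ,
          isOpen_biInter_finset fun i _ => (QCohLib.isClosed_support _ (hc i).2).isOpen_compl⟩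
        have hyT : U.ι y ∈ T := Set.mem_iInter₂.2 fun i _ => hy' i
        have zE : IsZero ((DCoh.restrictD T.ι).obj (DerivedCategory.Q.obj E)) :=
          (DCohRestrLib.isZero_restrictD_iff T _).2 fun i z hz hzs => by
            by_cases hi' : i < lo ∨ hi < i
            · exact hzs ((DCohRestrLib.isZero_iff_subsingleton_stalks _).1 (hb i hi') z)
            · exact Set.mem_iInter₂.1 hz i (Finset.mem_Icc.2 (by omega)) hzs
        haveI := KFlatLib.hasLTensorCx ((DCohRestrLib.resCx T).obj E)
        haveI := BidualSchLib.hasRSheafHom ((DCohRestrLib.resCx T).obj E)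
        obtain ⟨ρ⟩ := DCohRestrLib.nonempty_restrict_RSheafHom T E
        have zR : IsZero ((DCoh.restrictD T.ι).obj ((DCoh.RSheafHom E).obj (DerivedCategory.Q.obj E))) := by
          refine IsZero.of_iso ?_ (ρ.app _)
          rw [IsZero.iff_id_eq_zero]
          exact ((DCoh.RSheafHomAdj ((DCohRestrLib.resCx T).obj E)).homEquiv _ _).symm.injective
            (zE.eq_of_tgt _ _)
        have h0 := (DCohRestrLib.isZero_restrictD_iff T _).1 zR 0 (U.ι y) hyT
        refine h0 ?_
        show y ∈ (fun w => U.ι w) ⁻¹' CohB1.support (DCoh.HD ((DCoh.RSheafHom E).obj (DerivedCategory.Q.obj E)) 0)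
        rw [← DCohRestrLib.support_HD_restrictD]
        intro hs
        have h1 := (DCohRestrLib.subsingleton_stalk_of_iso ((DerivedCategory.homologyFunctor _ 0).mapIso ψ ≪≫
          (DerivedCategory.singleFunctorCompHomologyFunctorIso (U : Scheme.{u}).Modules 0).app _) y).1 hs
        exact (show y ∈ CohB1.support (Coh.structureModule (U : Scheme.{u})) by
          rw [IntMultLib.support_structureModule']; trivial) h1
    exact IsIso.of_isIso_comp_left o.hom _
  haveI := DCohRestrLib.isIso_restrict_HD U.ι φ n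
  exact DCohRestrLib.isIso_stalk_of_restrict U.ι ((DerivedCategory.homologyFunctor X.Modules n).map φ) ⟨x, hx⟩

end ShriekLib.SelfAdj
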