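import Groth.Agent.ShriekLib.Sect
import Groth.Agent.ShriekLib.Perfect
import Groth.Agent.RHomOLib.Adjoint
import Groth.Agent.CohCmpLib.Eps
import Groth.Agent.S3630
import Groth.Prelude.Def_Dual3

/-!
# Rigidity of the upper shriek of the structure sheaf along a flat morphism
-/

set_option autoImplicit false
set_option linter.style.haveILetI false
set_option linter.unusedSectionVars false
set_option backward.isDefEq.respectTransparency false
set_option backward.isDefEq.respectTransparency.types false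
set_option maxHeartbeats 1000000
set_option synthInstance.maxHeartbeats 200000

universe u v v' w w'

open CategoryTheory CategoryTheory.Limits AlgebraicGeometry
open Groth.Agent Groth.Agent.FMTransLib Groth.Agent.PerfDualLib

attribute [local instance] HasDerivedCategory.standard

noncomputable section

namespace ShriekLib

/-- A couniversal map is couniversal in every degree. -/
theorem bijective_shift_counit {C : Type w} [Category.{v} C] {D : Type w'} [Category.{v'} D] [HasShift C ℤ]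
    [HasShift D ℤ] (F : C ⥤ D) [F.CommShift ℤ] (O : C) {K : D} (ξ : F.obj O ⟶ K)
    (h : ∀ M : C, Function.Bijective fun φ : M ⟶ O => F.map φ ≫ ξ) (M : C) (j : ℤ) :
    Function.Bijective fun φ : M ⟶ O⟦j⟧ =>
      F.map φ ≫ (F.commShiftIso j).hom.app O ≫ (shiftFunctor D j).map ξ := by
  let ψ : (M⟦-j⟧)⟦j⟧ ≅ M := (shiftFunctorCompIsoId C (-j) j (neg_add_cancel j)).app M
  let pre : ((M⟦-j⟧) ⟶ O) → (M ⟶ O⟦j⟧) := fun φ => ψ.inv ≫ (shiftFunctor C j).map φ
  let post : (F.obj (M⟦-j⟧) ⟶ K) → (F.obj M ⟶ K⟦j⟧) := fun g =>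
    F.map ψ.inv ≫ (F.commShiftIso j).hom.app (M⟦-j⟧) ≫ (shiftFunctor D j).map g
  have hpre : Function.Bijective pre :=
    ⟨fun a b hab => (shiftFunctor C j).map_injective ((cancel_epi ψ.inv).1 hab), fun g => by
      obtain ⟨φ, hφ⟩ := (shiftFunctor C j).map_surjective (ψ.hom ≫ g)
      exact ⟨φ, by simp only [pre, hφ, Iso.inv_hom_id_assoc]⟩⟩
  have hpost : Function.Bijective post :=
    ⟨fun a b hab => (shiftFunctor D j).map_injective
      ((cancel_epi ((F.commShiftIso j).hom.app (M⟦-j⟧))).1 ((cancel_epi (F.map ψ.inv)).1 hab)), fun g => by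
      obtain ⟨φ, hφ⟩ := (shiftFunctor D j).map_surjective
        ((F.commShiftIso j).inv.app (M⟦-j⟧) ≫ F.map ψ.hom ≫ g)
      refine ⟨φ, ?_⟩
      simp only [post, hφ, Iso.hom_inv_id_app_assoc, ← F.map_comp_assoc, Iso.inv_hom_id]
      simp⟩
  refine (Function.Bijective.of_comp_iff _ hpre).1 ?_
  have key : ((fun φ : M ⟶ O⟦j⟧ => F.map φ ≫ (F.commShiftIso j).hom.app O ≫ (shiftFunctor D j).map ξ) ∘ pre) =
      post ∘ fun φ : M⟦-j⟧ ⟶ O => F.map φ ≫ ξ := by
    funext φ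
    simp only [Function.comp_apply, pre, post, Functor.map_comp, Category.assoc]
    congr 1
    exact (reassoc_of% ((F.commShiftIso j).hom.naturality φ)) _
  rw [key]
  exact hpost.comp (h _)

/-- The rigidity map of `f^!O` for flat `f`. -/
theorem exists_rigid {X Y Xb : Scheme.{u}} [IsNoetherian Y] (f : X ⟶ Y) [Flat f] [IsSeparated f]
    [DCoh.HasLpull (pullback.fst f f)]
    [PreservesFiniteLimits (Scheme.Modules.pushforward (pullback.diagonal f))]
    [PreservesFiniteColimits (Scheme.Modules.pushforward (pullback.diagonal f))]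
    (j : X ⟶ Xb) (p : Xb ⟶ Y) [IsOpenImmersion j] [IsProper p] (hf : j ≫ p = f)
    [DCoh.HasRpush p] (hp : DCoh.RpushPreservesQCoh p) (a : DCoh.DQCoh Y ⥤ DCoh.DQCoh Xb)
    (adj : DCoh.RpushQ p hp ⊣ a) (O : DCoh.DQCoh Y) (hO : Nonempty (O.obj ≅ DCoh.inD Y (Coh.structureModule Y))) :
    ∃ ξ : (Dual3.pushD (pullback.diagonal f)).obj (DCoh.inD X (Coh.structureModule X)) ⟶
        (DCoh.Lpull (pullback.fst f f)).obj ((DCoh.restrictD j).obj (a.obj O).obj),
      ∀ (M : DCoh.D X) (k : ℤ), Function.Bijective fun φ : M ⟶ (DCoh.inD X (Coh.structureModule X))⟦k⟧ =>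
        (Dual3.pushD (pullback.diagonal f)).map φ ≫
          ((Dual3.pushD (pullback.diagonal f)).commShiftIso k).hom.app (DCoh.inD X (Coh.structureModule X)) ≫
            (shiftFunctor (DCoh.D (pullback f f)) k).map ξ := by
  haveI := isNoetherian_of_proper p
  haveI : CompactSpace X := QuasiCompact.compactSpace_of_compactSpace j
  haveI : IsLocallyNoetherian X := isLocallyNoetherian_of_isOpenImmersion j
  haveI : IsNoetherian X := ⟨⟩
  let pr1 := pullback.fst f f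
  let pr2 := pullback.snd f f
  let Δ := pullback.diagonal f
  haveI : IsClosedImmersion Δ := inferInstance
  have hΔ : Δ ≫ pr2 = 𝟙 X := pullback.diagonal_snd f
  let pP := pullback.snd p f
  haveI := isNoetherian_of_proper pP
  let jP : pullback f f ⟶ pullback p f :=
    pullback.lift (pr1 ≫ j) pr2 (by rw [Category.assoc, hf, pullback.condition])
  have hj₂ : jP ≫ pP = pr2 := pullback.lift_snd _ _ _
  haveI : IsOpenImmersion jP := by
    have hpb : IsPullback jP pr1 (pullback.fst p f) j := by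
      refine (IsPullback.of_bot ?_ (pullback.lift_fst _ _ _).symm (IsPullback.of_hasPullback p f)).flip
      rw [hj₂, hf]
      exact IsPullback.of_hasPullback f f
    exact MorphismProperty.of_isPullback (P := @IsOpenImmersion) hpb.flip inferInstance
  haveI : CompactSpace ↥(pullback f f) := QuasiCompact.compactSpace_of_compactSpace jP
  haveI : IsLocallyNoetherian (pullback f f) := isLocallyNoetherian_of_isOpenImmersion jP
  haveI : IsNoetherian (pullback f f) := ⟨⟩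
  haveI := KFlatLib.hasLpull f
  haveI := DCohRestrLib.hasRpush pP
  haveI := DCohRestrLib.hasRpush Δ
  haveI := DCohRestrLib.hasRpush (𝟙 X)
  haveI := KFlatLib.hasLpull (𝟙 X)
  have hLf : Dual3.LpullPreservesQCoh f := KFlatLib.isQCohD_lpull f
  obtain ⟨aP, ⟨adjP⟩⟩ := exists_rightAdjoint pP (hpush pP)
  obtain ⟨ai, ⟨adji⟩⟩ := exists_rightAdjoint Δ (hpush Δ)
  obtain ⟨c, ⟨adjc⟩⟩ := exists_rightAdjoint (𝟙 X) (hpush (𝟙 X))
  obtain ⟨e⟩ := nonempty_shriek_flatBC f f pr2 pr1 (IsPullback.of_hasPullback f f) j p hf jP pP hj₂ hp (hpush pP)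
    a aP adj adjP hLf
  obtain ⟨eo⟩ := nonempty_shriek_openImmersion (𝟙 X) (hpush (𝟙 X)) c adjc (𝟙 X) (𝟙 X) (Category.comp_id _)
  obtain ⟨ec⟩ := nonempty_shriek_comp Δ pr2 (𝟙 X) Δ (Category.id_comp Δ) jP pP hj₂ (𝟙 X) (𝟙 X)
    ((Category.comp_id _).trans hΔ.symm) (hpush Δ) (hpush pP) (hpush (𝟙 X)) ai aP c adji adjP adjc
  obtain ⟨i₁⟩ := Dual3Lib.nonempty_lpull_id (𝟙 X) rfl
  obtain ⟨eO⟩ := hO
  have hOge : O.obj.IsGE 0 := DerivedCategory.TStructure.t.isGE_of_iso eO.symm 0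
  have hOb : Dual3.IsBddBelowQ Y O := ⟨0, hOge⟩
  have hLb : Dual3.IsBddBelowQ X ((Dual3.LpullQ f hLf).obj O) := by
    haveI := hOge
    exact ⟨0, DualFMLib.isGE_lpull_flat f O.obj 0⟩
  let v : DCoh.restrictD (𝟙 X) ≅ 𝟭 _ := (DualFMLib.lpullRestrIso (𝟙 X)).symm ≪≫ i₁
  let K' : DCoh.DQCoh (pullback f f) := (restrictQ jP).obj (aP.obj ((Dual3.LpullQ f hLf).obj O))
  let eI : (ai.obj K').obj ≅ DCoh.inD X (Coh.structureModule X) :=
    (v.app _).symm ≪≫ (ObjectProperty.ι _).mapIso (ec.symm.app ⟨_, hLb⟩ ≪≫ eo.app ⟨_, hLb⟩) ≪≫ v.app _ ≪≫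
      (DCoh.Lpull f).mapIso (eO ≪≫ DualFMLib.inDUnit Y) ≪≫ KiehlLib.lpullUnitIso f ≪≫ (DualFMLib.inDUnit X).symm
  let eK : (DCoh.Lpull pr1).obj ((DCoh.restrictD j).obj (a.obj O).obj) ≅ K'.obj := e.app ⟨O, hOb⟩
  have hKb : Dual3.IsBddBelowQ _ K' := by
    obtain ⟨n, hn⟩ := isBddBelow_restrictQ j (a.obj O)
      (isBddBelow_rightAdjoint p hp a adj O hOb)
    haveI := hn
    haveI : DerivedCategory.TStructure.t.IsGE ((DCoh.Lpull pr1).obj ((DCoh.restrictD j).obj (a.obj O).obj)) n :=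
      DualFMLib.isGE_lpull_flat pr1 ((restrictQ j).obj (a.obj O)).obj n
    exact ⟨n, DerivedCategory.TStructure.t.isGE_of_iso eK n⟩
  haveI : Dual3.HasHomO Δ := Groth.Agent.S3630.result _ _ _
  obtain ⟨r⟩ := RHomOLib.nonempty_rightAdjoint_iso Δ (RHomOLib.pcPushUnit Δ) (hpush Δ) ai adji
  obtain ⟨ε, hε⟩ := RHomOLib.exists_counit Δ
  let KP := (Dual3.bddToPlus _).obj ⟨K', hKb⟩
  let u : DCoh.inD X (Coh.structureModule X) ≅ ((Dual3.RHomOPlus Δ).obj KP).obj := eI.symm ≪≫ r.app ⟨K', hKb⟩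
  let ξ : (Dual3.pushD Δ).obj (DCoh.inD X (Coh.structureModule X)) ⟶
      (DCoh.Lpull pr1).obj ((DCoh.restrictD j).obj (a.obj O).obj) :=
    (Dual3.pushD Δ).map u.hom ≫ ε.app KP ≫ eK.inv
  refine ⟨ξ, fun M k => bijective_shift_counit (Dual3.pushD Δ) _ ξ (fun M => ?_) M k⟩
  have h1 : (fun φ : M ⟶ DCoh.inD X (Coh.structureModule X) => (Dual3.pushD Δ).map φ ≫ ξ) =
      (fun g => g ≫ eK.inv) ∘ (fun g => (Dual3.pushD Δ).map g ≫ ε.app KP) ∘ fun φ => φ ≫ u.hom := by
    funext φ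
    simp [ξ]
  rw [h1]
  exact Function.Bijective.comp ⟨fun a b h => (cancel_mono eK.inv).1 h, fun g => ⟨g ≫ eK.hom, by simp⟩⟩
    ((hε M KP).comp ⟨fun a b h => (cancel_mono u.hom).1 h, fun g => ⟨g ≫ u.inv, by simp⟩⟩)

end ShriekLib
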