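import Groth.Agent.ShriekLib.Open

/-!
# Independence of the compactification, composition
-/

set_option autoImplicit false
set_option linter.style.haveILetI false
set_option linter.unusedSectionVars false
set_option backward.isDefEq.respectTransparency false
set_option backward.isDefEq.respectTransparency.types false
set_option maxHeartbeats 1000000
set_option synthInstance.maxHeartbeats 200000

universe u

open CategoryTheory CategoryTheory.Limits AlgebraicGeometry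
open Groth.Agent

attribute [local instance] HasDerivedCategory.standard

namespace ShriekLib

variable {X Y : Scheme.{u}} [IsNoetherian Y]

theorem isNoetherian_of_proper {Xb : Scheme.{u}} (p : Xb ⟶ Y) [IsProper p] : IsNoetherian Xb := by
  haveI : IsLocallyNoetherian Xb := LocallyOfFiniteType.isLocallyNoetherian p
  haveI : CompactSpace Xb := QuasiCompact.compactSpace_of_compactSpace p
  exact ⟨⟩

theorem isBddBelow_rightAdjoint {Xb : Scheme.{u}} (p : Xb ⟶ Y) [IsProper p] [DCoh.HasRpush p]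
    (hp : DCoh.RpushPreservesQCoh p) (a : DCoh.DQCoh Y ⥤ DCoh.DQCoh Xb) (adj : DCoh.RpushQ p hp ⊣ a)
    (K : DCoh.DQCoh Y) (hK : Dual3.IsBddBelowQ Y K) : Dual3.IsBddBelowQ Xb (a.obj K) := by
  haveI := isNoetherian_of_proper p
  obtain ⟨N, hN⟩ := Groth.Agent.S1767.result Xb Y p hp a adj
  obtain ⟨n, hn⟩ := hK
  haveI := hn
  exact ⟨n - N, (DerivedCategory.isGE_iff _ _).2 fun i hi =>
    hN K (n - 1) (fun j hj => DerivedCategory.isZero_of_isGE K.obj n j (by omega)) i (by omega)⟩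

theorem exists_rightAdjoint {Xb : Scheme.{u}} (p : Xb ⟶ Y) [IsProper p] [DCoh.HasRpush p]
    (hp : DCoh.RpushPreservesQCoh p) :
    ∃ a : DCoh.DQCoh Y ⥤ DCoh.DQCoh Xb, Nonempty (DCoh.RpushQ p hp ⊣ a) := by
  haveI := isNoetherian_of_proper p
  haveI : (DCoh.RpushQ p hp).IsLeftAdjoint := KoszOrthLib.isLeftAdjoint_rpushQ p hp
  exact ⟨_, ⟨Adjunction.ofIsLeftAdjoint _⟩⟩

/-- A compactification dominating another gives the same functor. -/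
theorem nonempty_shriek_dominate {Xb X₃ : Scheme.{u}} (p : Xb ⟶ Y) [IsProper p] [DCoh.HasRpush p]
    (hp : DCoh.RpushPreservesQCoh p) (a : DCoh.DQCoh Y ⥤ DCoh.DQCoh Xb) (adj : DCoh.RpushQ p hp ⊣ a)
    (j : X ⟶ Xb) [IsOpenImmersion j] (q : X₃ ⟶ Xb) [IsProper q] (p₃ : X₃ ⟶ Y) [IsProper p₃]
    [DCoh.HasRpush p₃] (hq : q ≫ p = p₃) (h₃ : DCoh.RpushPreservesQCoh p₃)
    (a₃ : DCoh.DQCoh Y ⥤ DCoh.DQCoh X₃) (adj₃ : DCoh.RpushQ p₃ h₃ ⊣ a₃)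
    (j₃ : X ⟶ X₃) [IsOpenImmersion j₃] (hj : j₃ ≫ q = j) :
    Nonempty (Dual3.bddι Y ⋙ a₃ ⋙ restrictQ j₃ ≅ Dual3.bddι Y ⋙ a ⋙ restrictQ j) := by
  haveI := isNoetherian_of_proper p
  haveI := isNoetherian_of_proper p₃
  haveI := DCohRestrLib.hasRpush q
  obtain ⟨aq, ⟨adjq⟩⟩ := exists_rightAdjoint q (hpush q)
  obtain ⟨c⟩ := nonempty_rpushQ_comp q p p₃ hq (hpush q) hp h₃
  let u : a₃ ≅ a ⋙ aq := adj₃.rightAdjointUniq ((adjq.comp adj).ofNatIsoLeft c)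
  obtain ⟨e⟩ := nonempty_shriek_openImmersion q (hpush q) aq adjq j j₃ hj
  let a' : (Dual3.IsBddBelowQ Y).FullSubcategory ⥤ (Dual3.IsBddBelowQ Xb).FullSubcategory :=
    ObjectProperty.lift _ (Dual3.bddι Y ⋙ a) fun K => isBddBelow_rightAdjoint p hp a adj K.obj K.property
  exact ⟨Functor.isoWhiskerLeft (Dual3.bddι Y) (Functor.isoWhiskerRight u (restrictQ j₃)) ≪≫
    Functor.isoWhiskerLeft a' e⟩

/-- Any two compactifications are dominated by a third. -/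
theorem exists_dominating {X₁ X₂ S : Scheme.{u}} [IsNoetherian S] (p₁ : X₁ ⟶ S) (p₂ : X₂ ⟶ S) [IsProper p₁]
    [IsProper p₂] (j₁ : X ⟶ X₁) [IsOpenImmersion j₁] (i₂ : X ⟶ X₂) (h : j₁ ≫ p₁ = i₂ ≫ p₂) :
    ∃ (X₃ : Scheme.{u}) (j₃ : X ⟶ X₃) (q₁ : X₃ ⟶ X₁) (q₂ : X₃ ⟶ X₂), IsOpenImmersion j₃ ∧ IsProper q₁ ∧
      IsProper q₂ ∧ j₃ ≫ q₁ = j₁ ∧ j₃ ≫ q₂ = i₂ ∧ q₁ ≫ p₁ = q₂ ≫ p₂ := by
  haveI := isNoetherian_of_proper p₁
  haveI : CompactSpace X := QuasiCompact.compactSpace_of_compactSpace j₁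
  let σ := pullback.lift j₁ i₂ h
  haveI : IsImmersion σ := by
    haveI : IsImmersion (σ ≫ pullback.fst p₁ p₂) := by rw [pullback.lift_fst]; infer_instance
    exact IsImmersion.of_comp σ (pullback.fst p₁ p₂)
  haveI : QuasiCompact σ := by
    haveI : QuasiCompact (σ ≫ pullback.fst p₁ p₂) := by rw [pullback.lift_fst]; infer_instance
    exact QuasiCompact.of_comp σ (pullback.fst p₁ p₂)
  refine ⟨σ.image, σ.toImage, σ.imageι ≫ pullback.fst p₁ p₂, σ.imageι ≫ pullback.snd p₁ p₂, inferInstance,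
    inferInstance, inferInstance, ?_, ?_, ?_⟩
  · rw [Scheme.Hom.toImage_imageι_assoc, pullback.lift_fst]
  · rw [Scheme.Hom.toImage_imageι_assoc, pullback.lift_snd]
  · rw [Category.assoc, Category.assoc, pullback.condition]

/-- Independence of the compactification. -/
theorem nonempty_shriek_indep {X₁ X₂ : Scheme.{u}} (p₁ : X₁ ⟶ Y) (p₂ : X₂ ⟶ Y) [IsProper p₁] [IsProper p₂]
    [DCoh.HasRpush p₁] [DCoh.HasRpush p₂] (h₁ : DCoh.RpushPreservesQCoh p₁) (h₂ : DCoh.RpushPreservesQCoh p₂)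
    (a₁ : DCoh.DQCoh Y ⥤ DCoh.DQCoh X₁) (a₂ : DCoh.DQCoh Y ⥤ DCoh.DQCoh X₂)
    (adj₁ : DCoh.RpushQ p₁ h₁ ⊣ a₁) (adj₂ : DCoh.RpushQ p₂ h₂ ⊣ a₂)
    (j₁ : X ⟶ X₁) (j₂ : X ⟶ X₂) [IsOpenImmersion j₁] [IsOpenImmersion j₂] (h : j₁ ≫ p₁ = j₂ ≫ p₂) :
    Nonempty (Dual3.bddι Y ⋙ a₁ ⋙ restrictQ j₁ ≅ Dual3.bddι Y ⋙ a₂ ⋙ restrictQ j₂) := by
  obtain ⟨X₃, j₃, q₁, q₂, _, _, _, w₁, w₂, w⟩ := exists_dominating p₁ p₂ j₁ j₂ h
  haveI := isNoetherian_of_proper (q₁ ≫ p₁)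
  haveI := DCohRestrLib.hasRpush (q₁ ≫ p₁)
  obtain ⟨a₃, ⟨adj₃⟩⟩ := exists_rightAdjoint (q₁ ≫ p₁) (hpush _)
  obtain ⟨e₁⟩ := nonempty_shriek_dominate p₁ h₁ a₁ adj₁ j₁ q₁ (q₁ ≫ p₁) rfl (hpush _) a₃ adj₃ j₃ w₁
  obtain ⟨e₂⟩ := nonempty_shriek_dominate p₂ h₂ a₂ adj₂ j₂ q₂ (q₁ ≫ p₁) w.symm (hpush _) a₃ adj₃ j₃ w₂
  exact ⟨e₁.symm ≪≫ e₂⟩

/-- `(g f)^! = f^! g^!`. -/
theorem nonempty_shriek_comp {Z Xf Yg Xgf : Scheme.{u}} [IsNoetherian Z] (f : X ⟶ Y) (g : Y ⟶ Z)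
    (jf : X ⟶ Xf) (pf : Xf ⟶ Y) [IsOpenImmersion jf] [IsProper pf] (hf : jf ≫ pf = f)
    (jg : Y ⟶ Yg) (pg : Yg ⟶ Z) [IsOpenImmersion jg] [IsProper pg] (hg : jg ≫ pg = g)
    (jgf : X ⟶ Xgf) (pgf : Xgf ⟶ Z) [IsOpenImmersion jgf] [IsProper pgf] (hgf : jgf ≫ pgf = f ≫ g)
    [DCoh.HasRpush pf] [DCoh.HasRpush pg] [DCoh.HasRpush pgf] (Hf : DCoh.RpushPreservesQCoh pf)
    (Hg : DCoh.RpushPreservesQCoh pg) (Hgf : DCoh.RpushPreservesQCoh pgf)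
    (a : DCoh.DQCoh Y ⥤ DCoh.DQCoh Xf) (b : DCoh.DQCoh Z ⥤ DCoh.DQCoh Yg) (c : DCoh.DQCoh Z ⥤ DCoh.DQCoh Xgf)
    (adjf : DCoh.RpushQ pf Hf ⊣ a) (adjg : DCoh.RpushQ pg Hg ⊣ b) (adjgf : DCoh.RpushQ pgf Hgf ⊣ c) :
    Nonempty (Dual3.bddι Z ⋙ c ⋙ restrictQ jgf ≅ Dual3.bddι Z ⋙ b ⋙ restrictQ jg ⋙ a ⋙ restrictQ jf) := by
  haveI := isNoetherian_of_proper pg
  haveI := isNoetherian_of_proper pgf
  haveI := isNoetherian_of_proper pf
  obtain ⟨X₃, j₃, q, π, _, _, _, wj, wπ, w⟩ :=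
    exists_dominating pgf pg jgf (f ≫ jg) (by rw [hgf, Category.assoc, hg])
  haveI := isNoetherian_of_proper π
  haveI := DCohRestrLib.hasRpush π
  obtain ⟨aπ, ⟨adjπ⟩⟩ := exists_rightAdjoint π (hpush π)
  haveI := DCohRestrLib.hasRpush (q ≫ pgf)
  let a₃ := b ⋙ aπ
  obtain ⟨cc⟩ := nonempty_rpushQ_comp π pg (q ≫ pgf) w.symm (hpush π) Hg (hpush (q ≫ pgf))
  let adj₃ : DCoh.RpushQ (q ≫ pgf) (hpush _) ⊣ a₃ := (adjπ.comp adjg).ofNatIsoLeft cc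
  obtain ⟨e₁⟩ := nonempty_shriek_dominate pgf Hgf c adjgf jgf q (q ≫ pgf) rfl (hpush _) a₃ adj₃ j₃ wj
  -- the part of `X₃` over `Y`
  let V := jg.opensRange
  let W := π ⁻¹ᵁ V
  haveI : CompactSpace (V : Scheme.{u}) := isCompact_iff_compactSpace.mp (TopologicalSpace.NoetherianSpace.isCompact _)
  haveI : CompactSpace (W : Scheme.{u}) := isCompact_iff_compactSpace.mp (TopologicalSpace.NoetherianSpace.isCompact _)
  haveI : IsLocallyNoetherian (V : Scheme.{u}) := isLocallyNoetherian_of_isOpenImmersion V.ι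
  haveI : IsLocallyNoetherian (W : Scheme.{u}) := isLocallyNoetherian_of_isOpenImmersion W.ι
  haveI : IsNoetherian (V : Scheme.{u}) := ⟨⟩
  haveI : IsNoetherian (W : Scheme.{u}) := ⟨⟩
  haveI : CompactSpace X := QuasiCompact.compactSpace_of_compactSpace jf
  haveI : IsLocallyNoetherian X := isLocallyNoetherian_of_isOpenImmersion jf
  haveI : IsNoetherian X := ⟨⟩
  have hkW : Set.range j₃.base ⊆ Set.range W.ι.base := by
    rw [Scheme.Opens.range_ι]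
    rintro _ ⟨x, rfl⟩
    exact ⟨f x, by
      rw [show π (j₃ x) = (j₃ ≫ π) x from rfl, wπ]; rfl⟩
  let k : X ⟶ (W : Scheme.{u}) := IsOpenImmersion.lift W.ι j₃ hkW
  have hk : k ≫ W.ι = j₃ := IsOpenImmersion.lift_fac _ _ _
  haveI : IsOpenImmersion k := by
    haveI : IsOpenImmersion (k ≫ W.ι) := by rw [hk]; infer_instance
    exact IsOpenImmersion.of_comp k W.ι
  let E := jg.isoOpensRange
  let pW := π ∣_ V ≫ E.inv
  have hkf : k ≫ pW = f := by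
    rw [← cancel_mono E.hom, Category.assoc, Category.assoc, Iso.inv_hom_id, Category.comp_id, ← cancel_mono V.ι,
      Category.assoc, morphismRestrict_ι, ← Category.assoc, hk, wπ, Category.assoc, Scheme.Hom.isoOpensRange_hom_ι]
  haveI := DCohRestrLib.hasRpush (π ∣_ V)
  haveI := DCohRestrLib.hasRpush E.inv
  haveI := DCohRestrLib.hasRpush pW
  obtain ⟨aV, ⟨adjV⟩⟩ := exists_rightAdjoint (π ∣_ V) (hpush _)
  have hclE : IsClosed (Set.range E.inv.base) := E.inv.isClosedEmbedding.isClosed_range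
  obtain ⟨cW⟩ := nonempty_rpushQ_comp (π ∣_ V) E.inv pW rfl (hpush _) (hpush _) (hpush pW)
  let adjW : DCoh.RpushQ pW (hpush _) ⊣ restrictQ E.inv ⋙ aV :=
    (adjV.comp (clopenAdjQ E.inv (hpush _) hclE)).ofNatIsoLeft cW
  obtain ⟨e₂⟩ := nonempty_shriek_indep pf pW Hf (hpush _) a _ adjf adjW jf k (hf.trans hkf.symm)
  obtain ⟨e₃⟩ := nonempty_openBaseChange π (hpush π) aπ adjπ V (hpush _) aV adjV
  obtain ⟨ck⟩ := nonempty_restrictQ_comp k W.ι j₃ hk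
  obtain ⟨cE⟩ := nonempty_restrictQ_comp E.inv jg V.ι (Scheme.Hom.isoOpensRange_inv_comp _)
  let b' : (Dual3.IsBddBelowQ Z).FullSubcategory ⥤ (Dual3.IsBddBelowQ Yg).FullSubcategory :=
    ObjectProperty.lift _ (Dual3.bddι Z ⋙ b) fun K => isBddBelow_rightAdjoint pg Hg b adjg K.obj K.property
  let b'' : (Dual3.IsBddBelowQ Z).FullSubcategory ⥤ (Dual3.IsBddBelowQ Y).FullSubcategory :=
    ObjectProperty.lift _ (Dual3.bddι Z ⋙ b ⋙ restrictQ jg) fun K => by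
      obtain ⟨n, hn⟩ := isBddBelow_rightAdjoint pg Hg b adjg K.obj K.property
      haveI := hn
      exact ⟨n, (DerivedCategory.isGE_iff _ n).2 fun i hi =>
        ((Scheme.Modules.restrictFunctor jg).map_isZero (DerivedCategory.isZero_of_isGE _ n i hi)).of_iso
          (DCohRestrLib.restrictHDIso jg (b.obj K.obj).obj i)⟩
  refine ⟨e₁.symm ≪≫ Functor.isoWhiskerLeft (Dual3.bddι Z ⋙ b ⋙ aπ) ck.symm ≪≫
    Functor.isoWhiskerLeft b' (Functor.isoWhiskerRight e₃ (restrictQ k)) ≪≫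
    Functor.isoWhiskerLeft (Dual3.bddι Z ⋙ b) (Functor.isoWhiskerRight cE.symm (aV ⋙ restrictQ k)) ≪≫ ?_⟩
  exact Functor.isoWhiskerLeft b'' e₂.symm

end ShriekLib
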