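import Groth.Agent.ShriekLib.BCBdd

/-!
# Flat base change of the upper shriek
-/

set_option autoImplicit false
set_option linter.style.haveILetI false
set_option linter.unusedSectionVars false
set_option backward.isDefEq.respectTransparency false
set_option backward.isDefEq.respectTransparency.types false
set_option maxHeartbeats 1000000
set_option synthInstance.maxHeartbeats 200000

universe u

open CategoryTheory CategoryTheory.Limits AlgebraicGeometry
open Groth.Agent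

attribute [local instance] HasDerivedCategory.standard

namespace ShriekLib

theorem nonempty_lpull_congrNat {X Y : Scheme.{u}} {f f' : X ⟶ Y} (h : f = f') [DCoh.HasLpull f]
    [DCoh.HasLpull f'] : Nonempty (DCoh.Lpull f ≅ DCoh.Lpull f') := by
  subst h
  exact ⟨Iso.refl _⟩

theorem nonempty_restrict_lpull_square {X X' Xb Xb' : Scheme.{u}} (j : X ⟶ Xb) (j' : X' ⟶ Xb') (g : X' ⟶ X)
    (gb : Xb' ⟶ Xb) [IsOpenImmersion j] [IsOpenImmersion j'] [DCoh.HasLpull g] [DCoh.HasLpull gb]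
    [IsNoetherian X] [IsNoetherian X'] (h : g ≫ j = j' ≫ gb) :
    Nonempty (DCoh.restrictD j ⋙ DCoh.Lpull g ≅ DCoh.Lpull gb ⋙ DCoh.restrictD j') := by
  haveI := KFlatLib.hasLpull j
  haveI := KFlatLib.hasLpull j'
  haveI := DCohRestrLib.hasRpush j
  haveI := DCohRestrLib.hasRpush j'
  haveI := KFlatLib.hasLpull (g ≫ j)
  haveI := KFlatLib.hasLpull (j' ≫ gb)
  obtain ⟨c₁⟩ := KFlatLib.lpull_comp g j
  obtain ⟨c⟩ := nonempty_lpull_congrNat h
  obtain ⟨c₂⟩ := KFlatLib.lpull_comp j' gb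
  exact ⟨Functor.isoWhiskerRight (DualFMLib.lpullRestrIso j).symm (DCoh.Lpull g) ≪≫ c₁ ≪≫ c ≪≫ c₂.symm ≪≫
    Functor.isoWhiskerLeft (DCoh.Lpull gb) (DualFMLib.lpullRestrIso j')⟩

theorem nonempty_bcMap_natIso {X Y X' Y' : Scheme.{u}} {f : X ⟶ Y} {g : Y' ⟶ Y} {f' : X' ⟶ Y'} {g' : X' ⟶ X}
    [IsNoetherian Y] [IsNoetherian Y'] (hsq : IsPullback g' f' f g) [IsProper f] [Flat g]
    [DCoh.HasRpush f] [DCoh.HasRpush f'] [DCoh.HasRpush g] [DCoh.HasRpush g'] [DCoh.HasLpull g] [DCoh.HasLpull g']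
    {hf : DCoh.RpushPreservesQCoh f} {hf' : DCoh.RpushPreservesQCoh f'}
    {hg : DCoh.RpushPreservesQCoh g} {hg' : DCoh.RpushPreservesQCoh g'}
    {hLg : Dual3.LpullPreservesQCoh g} {hLg' : Dual3.LpullPreservesQCoh g'}
    {a : DCoh.DQCoh Y ⥤ DCoh.DQCoh X} {a' : DCoh.DQCoh Y' ⥤ DCoh.DQCoh X'}
    (adj : DCoh.RpushQ f hf ⊣ a) (adj' : DCoh.RpushQ f' hf' ⊣ a')
    (adjg : Dual3.LpullQ g hLg ⊣ DCoh.RpushQ g hg) (adjg' : Dual3.LpullQ g' hLg' ⊣ DCoh.RpushQ g' hg') :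
    Nonempty (Dual3.bddι Y ⋙ a ⋙ Dual3.LpullQ g' hLg' ≅ Dual3.bddι Y ⋙ Dual3.LpullQ g hLg ⋙ a') := by
  let e := DualFMLib.sqQ hsq.w hf hf' hg hg'
  have hξ : ∀ M, IsIso (Dual3.xi adj adj' e M) := fun M => DualFMLib.isIso_xi_sqQ hsq adj adj' adjg adjg' M
  have hbc : ∀ K : (Dual3.IsBddBelowQ Y).FullSubcategory,
      IsIso (Dual3.bcMap adj adj' e adjg adjg' K.obj (hξ _)) := fun K => by
    obtain ⟨c, hc⟩ := K.property
    haveI := hc
    exact isIso_bcMap_bdd hsq adj adj' adjg adjg' K.obj c _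
  have hnat : ∀ {M N : DCoh.DQCoh Y'} (v : M ⟶ N),
      (DCoh.RpushQ g' hg').map (a'.map v) ≫ Dual3.xi adj adj' e N =
        Dual3.xi adj adj' e M ≫ a.map ((DCoh.RpushQ g hg).map v) := fun {M N} v => by
    simp only [Dual3.xi]
    rw [← adj.homEquiv_naturality_left, ← adj.homEquiv_naturality_right]
    refine congrArg _ ?_
    refine ((reassoc_of% (e.hom.naturality (a'.map v))) _).trans ?_
    rw [Category.assoc]
    refine congrArg (_ ≫ ·) ?_
    exact (((DCoh.RpushQ g hg).map_comp _ _).symm.trans ((congrArg (DCoh.RpushQ g hg).map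
      (adj'.counit.naturality v)).trans ((DCoh.RpushQ g hg).map_comp _ _)))
  refine ⟨NatIso.ofComponents (fun K => @asIso _ _ _ _ _ (hbc K)) fun {K K'} φ => ?_⟩
  haveI := hξ ((Dual3.LpullQ g hLg).obj K.obj)
  haveI := hξ ((Dual3.LpullQ g hLg).obj K'.obj)
  change (Dual3.LpullQ g' hLg').map (a.map φ.hom) ≫ Dual3.bcMap adj adj' e adjg adjg' K'.obj _ =
    Dual3.bcMap adj adj' e adjg adjg' K.obj _ ≫ a'.map ((Dual3.LpullQ g hLg).map φ.hom)
  simp only [Dual3.bcMap, Category.assoc]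
  refine Eq.trans ?_ (congrArg (fun z => (Dual3.LpullQ g' hLg').map (a.map (adjg.unit.app K.obj)) ≫
    (Dual3.LpullQ g' hLg').map (inv (Dual3.xi adj adj' e ((Dual3.LpullQ g hLg).obj K.obj))) ≫ z)
    (adjg'.counit.naturality (a'.map ((Dual3.LpullQ g hLg).map φ.hom))))
  simp only [Functor.comp_map, ← Functor.map_comp_assoc]
  refine congrArg (fun z => (Dual3.LpullQ g' hLg').map z ≫ _) ?_
  have h2 : a.map ((DCoh.RpushQ g hg).map ((Dual3.LpullQ g hLg).map φ.hom)) ≫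
      inv (Dual3.xi adj adj' e ((Dual3.LpullQ g hLg).obj K'.obj)) =
      inv (Dual3.xi adj adj' e ((Dual3.LpullQ g hLg).obj K.obj)) ≫
        (DCoh.RpushQ g' hg').map (a'.map ((Dual3.LpullQ g hLg).map φ.hom)) := by
    rw [IsIso.comp_inv_eq, Category.assoc, hnat, IsIso.inv_hom_id_assoc]
  have h1 : φ.hom ≫ adjg.unit.app K'.obj =
      adjg.unit.app K.obj ≫ (DCoh.RpushQ g hg).map ((Dual3.LpullQ g hLg).map φ.hom) := adjg.unit.naturality φ.hom
  refine (congrArg (· ≫ inv (Dual3.xi adj adj' e ((Dual3.LpullQ g hLg).obj K'.obj)))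
    ((congrArg a.map h1).trans (a.map_comp _ _))).trans ?_
  rw [Category.assoc, h2]

/-- Flat base change of the upper shriek. -/
theorem nonempty_shriek_flatBC {X Y X' Y' Xb Xb' : Scheme.{u}} [IsNoetherian Y] [IsNoetherian Y']
    (f : X ⟶ Y) (g : Y' ⟶ Y) (f' : X' ⟶ Y') (g' : X' ⟶ X) (hsq : IsPullback g' f' f g) [Flat g]
    (j : X ⟶ Xb) (p : Xb ⟶ Y) [IsOpenImmersion j] [IsProper p] (hf : j ≫ p = f)
    (j' : X' ⟶ Xb') (p' : Xb' ⟶ Y') [IsOpenImmersion j'] [IsProper p'] (hf' : j' ≫ p' = f')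
    [DCoh.HasRpush p] [DCoh.HasRpush p'] (hp : DCoh.RpushPreservesQCoh p) (hp' : DCoh.RpushPreservesQCoh p')
    (a : DCoh.DQCoh Y ⥤ DCoh.DQCoh Xb) (a' : DCoh.DQCoh Y' ⥤ DCoh.DQCoh Xb')
    (adj : DCoh.RpushQ p hp ⊣ a) (adj' : DCoh.RpushQ p' hp' ⊣ a')
    [DCoh.HasLpull g] [DCoh.HasLpull g'] (hLg : Dual3.LpullPreservesQCoh g) :
    Nonempty (Dual3.bddι Y ⋙ a ⋙ ObjectProperty.ι _ ⋙ DCoh.restrictD j ⋙ DCoh.Lpull g' ≅
      Dual3.bddι Y ⋙ Dual3.LpullQ g hLg ⋙ a' ⋙ ObjectProperty.ι _ ⋙ DCoh.restrictD j') := by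
  haveI := isNoetherian_of_proper p
  haveI := isNoetherian_of_proper p'
  haveI : CompactSpace X := QuasiCompact.compactSpace_of_compactSpace j
  haveI : IsLocallyNoetherian X := isLocallyNoetherian_of_isOpenImmersion j
  haveI : IsNoetherian X := ⟨⟩
  haveI : CompactSpace X' := QuasiCompact.compactSpace_of_compactSpace j'
  haveI : IsLocallyNoetherian X' := isLocallyNoetherian_of_isOpenImmersion j'
  haveI : IsNoetherian X' := ⟨⟩
  haveI : QuasiCompact g := quasiCompact_of_compactSpace g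
  let gb := pullback.fst p g
  let pP := pullback.snd p g
  haveI := isNoetherian_of_proper pP
  haveI : QuasiCompact gb := quasiCompact_of_compactSpace gb
  let jP : X' ⟶ pullback p g := pullback.lift (g' ≫ j) f' (by rw [Category.assoc, hf, hsq.w])
  have hj₁ : jP ≫ gb = g' ≫ j := pullback.lift_fst _ _ _
  have hj₂ : jP ≫ pP = f' := pullback.lift_snd _ _ _
  have hpb : IsPullback jP g' gb j := by
    refine (IsPullback.of_bot ?_ hj₁.symm (IsPullback.of_hasPullback p g)).flip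
    rw [hj₂, hf]
    exact hsq
  haveI : IsOpenImmersion jP := MorphismProperty.of_isPullback (P := @IsOpenImmersion) hpb.flip inferInstance
  haveI := DCohRestrLib.hasRpush pP
  haveI := DCohRestrLib.hasRpush gb
  haveI := DCohRestrLib.hasRpush g
  haveI := KFlatLib.hasLpull gb
  haveI : QuasiSeparated g := inferInstance
  obtain ⟨aP, ⟨adjP⟩⟩ := exists_rightAdjoint pP (hpush pP)
  have hLgb : Dual3.LpullPreservesQCoh gb := KFlatLib.isQCohD_lpull gb
  obtain ⟨e₁⟩ := nonempty_bcMap_natIso (IsPullback.of_hasPullback p g) adj adjP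
    (DualFMLib.adjQ (g := g) hLg (hpush g)) (DualFMLib.adjQ (g := gb) hLgb (hpush gb))
  obtain ⟨s⟩ := nonempty_restrict_lpull_square j jP g' gb hj₁.symm
  obtain ⟨e₂⟩ := nonempty_shriek_indep pP p' (hpush pP) hp' aP a' adjP adj' jP j' (hj₂.trans hf'.symm)
  let L : (Dual3.IsBddBelowQ Y).FullSubcategory ⥤ (Dual3.IsBddBelowQ Y').FullSubcategory :=
    ObjectProperty.lift _ (Dual3.bddι Y ⋙ Dual3.LpullQ g hLg) fun K => by
      obtain ⟨n, hn⟩ := K.property
      haveI := hn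
      exact ⟨n, DualFMLib.isGE_lpull_flat g K.obj.obj n⟩
  exact ⟨Functor.isoWhiskerLeft (Dual3.bddι Y ⋙ a ⋙ ObjectProperty.ι _) s ≪≫
    Functor.isoWhiskerRight e₁ (ObjectProperty.ι _ ⋙ DCoh.restrictD jP) ≪≫
    Functor.isoWhiskerRight (Functor.isoWhiskerLeft L e₂) (ObjectProperty.ι _)⟩

end ShriekLib
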