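import Groth.Agent.Dual3Lib.AmplitudeField
import Groth.Agent.Dual3Lib.RelTopDual
import Groth.Agent.DualCxLib.S2
import Groth.Agent.DualCxLib.Chart
import Groth.Agent.DualCxLib.Depth
import Groth.Agent.MiscFlat6.ClosedPts

/-!
# Dualizing complexes of proper schemes over a local ring: the degree at closed points
-/

set_option autoImplicit false
set_option linter.style.haveILetI false
set_option linter.unusedSectionVars false
set_option backward.isDefEq.respectTransparency false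
set_option backward.isDefEq.respectTransparency.types false
set_option maxHeartbeats 1000000
set_option synthInstance.maxHeartbeats 200000

universe u

open CategoryTheory CategoryTheory.Limits AlgebraicGeometry
open Groth.Agent.DualCxLib
open DTenLib.Point (hH sg)

attribute [local instance] HasDerivedCategory.standard

noncomputable section

namespace Groth.Agent.Dual3Lib

/-- `Ext` out of one cyclic module localizes. -/
theorem ext_bound_loc_one {A S : Type u} [CommRing A] [IsNoetherianRing A] [CommRing S] [Algebra A S]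
    (M : Submonoid A) [IsLocalization M S] {ω : Dual.D A} (hω : Dual.IsDualizing A ω) {a b : ℤ}
    {Z : Dual.D S} {η : ω ⟶ (DRing.restrictD (algebraMap A S)).obj Z}
    (hL : IsLocH (algebraMap A S) M η) (J : Ideal S)
    (hab : ∀ i : ℤ, (i < a ∨ b < i) → Subsingleton (Dual.inD A (A ⧸ J.comap (algebraMap A S)) ⟶ ω⟦i⟧))
    (i : ℤ) (hi : i < a ∨ b < i) :
    Subsingleton (Dual.inD S (S ⧸ J) ⟶ Z⟦i⟧) := by
  obtain ⟨h⟩ := nonempty_extend_quot M J
  obtain ⟨ηN, hN, -⟩ := exists_loc_single M (ModuleCat.of A (A ⧸ J.comap (algebraMap A S))) h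
  obtain ⟨a', ha'⟩ := isGE_dualizing hω
  refine subsingleton_hom_loc M hN hL ha' (c := 0) (k := 1) (fun l hl => ?_) (fun l => ?_) i (hab i hi)
  · exact DTenLib.Point.isZero_sg (show l ≠ 0 by omega)
  · rcases eq_or_ne l 0 with rfl | hl
    · exact Module.Finite.equiv (DTenLib.Point.sgH (ModuleCat.of A (A ⧸ J.comap (algebraMap A S))) 0).toLinearEquiv.symm
    · haveI := ModuleCat.subsingleton_of_isZero
        (DTenLib.Point.isZero_sg (N := ModuleCat.of A (A ⧸ J.comap (algebraMap A S))) hl)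
      infer_instance

variable [∀ (U V : Scheme.{u}) (j : U ⟶ V) [IsOpenImmersion j], PreservesFiniteLimits (Scheme.Modules.restrictFunctor j)]
  [∀ (R : CommRingCat.{u}), PreservesFiniteLimits (tilde.functor R)]

theorem exists_specChain {Z : Type u} [TopologicalSpace Z] [T0Space Z] [QuasiSober Z] (n : ℕ)
    (h : (n : WithBot ℕ∞) ≤ topologicalKrullDim Z) : ∃ c : Fin (n + 1) → Z, FibDimLib.IsSpecChain c := by
  letI := specializationOrder Z
  rw [FibDimLib.topologicalKrullDim_eq_krullDim'] at h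
  obtain ⟨l, hl⟩ := Order.le_krullDim_iff.1 h
  subst hl
  exact ⟨fun b => l b.rev, l.strictMono.injective.comp Fin.rev_injective,
    fun b b' hbb => show l b.rev ⤳ l b'.rev from l.monotone (Fin.rev_le_rev.2 hbb)⟩

section Main

variable {X Y : Scheme.{u}} [IsNoetherian Y] (f : X ⟶ Y) [IsProper f] [DCoh.HasRpush f]
  (hf : DCoh.RpushPreservesQCoh f) (a : DCoh.DQCoh Y ⥤ DCoh.DQCoh X) (adj : DCoh.RpushQ f hf ⊣ a)
  (K : DCoh.DQCoh Y) (hK : Dual2.IsDualizingSch Y K.obj)

include adj hK in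
/-- `Ext` of closed points of a chart into `a K`. -/
theorem exists_ext_chart_one {V₀ : Y.Opens} (hV₀ : IsAffineOpen V₀) {U : X.Opens} (hU : IsAffineOpen U)
    (hUV : U ≤ f ⁻¹ᵁ V₀) {ω₀ : Dual.D Γ(Y, V₀)} (hω₀ : Dual.IsDualizing Γ(Y, V₀) ω₀)
    (e₀ : (DCoh.restrictD hV₀.fromSpec).obj K.obj ≅ (DCoh.tildeD Γ(Y, V₀)).obj ω₀) {a₀ b₀ : ℤ}
    {ω : Dual.D Γ(X, U)}
    (eω : (DCoh.restrictD hU.fromSpec).obj (a.obj K).obj ≅ (DCoh.tildeD Γ(X, U)).obj ω) {c' : ℤ}
    (hge : ω.IsGE c') (m : Ideal Γ(X, U)) [m.IsMaximal]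
    (hab : ∀ i : ℤ, (i < a₀ ∨ b₀ < i) →
      Subsingleton (Dual.inD Γ(Y, V₀) (Γ(Y, V₀) ⧸ m.comap (f.appLE V₀ U hUV).hom) ⟶ ω₀⟦i⟧)) :
    ∃ d : ℤ, a₀ ≤ d ∧ d ≤ b₀ ∧ (∀ i : ℤ, i ≠ d → Subsingleton (Dual.inD Γ(X, U) (Γ(X, U) ⧸ m) ⟶ ω⟦i⟧)) ∧
      Nonempty ((Dual.inD Γ(X, U) (Γ(X, U) ⧸ m) ⟶ ω⟦d⟧) ≃ₗ[Γ(X, U)] (Γ(X, U) ⧸ m)) := by
  haveI : IsLocallyNoetherian X := LocallyOfFiniteType.isLocallyNoetherian f
  haveI : IsNoetherianRing Γ(X, U) := IsLocallyNoetherian.component_noetherian ⟨U, hU⟩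
  haveI : IsNoetherianRing Γ(Y, V₀) := IsLocallyNoetherian.component_noetherian ⟨V₀, hV₀⟩
  let φ₀ := (f.appLE V₀ U hUV).hom
  have hft : φ₀.FiniteType := f.finiteType_appLE hV₀ hU hUV
  obtain ⟨g, hg, huniq⟩ := exists_locClosed_generator φ₀ hft m
  -- the smaller charts
  let V := Y.basicOpen g
  have hV : IsAffineOpen V := hV₀.basicOpen g
  let U' := X.basicOpen (φ₀ g)
  have hU' : IsAffineOpen U' := hU.basicOpen _
  have hU'U : U' ≤ U := X.basicOpen_le _
  have hU'V : U' ≤ f ⁻¹ᵁ V := by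
    rw [Scheme.preimage_basicOpen]
    show X.basicOpen ((X.presheaf.map (homOfLE hUV).op) (f.app V₀ g)) ≤ _
    rw [X.basicOpen_res]
    exact inf_le_right
  haveI : IsNoetherianRing Γ(X, U') := IsLocallyNoetherian.component_noetherian ⟨U', hU'⟩
  haveI : IsNoetherianRing Γ(Y, V) := IsLocallyNoetherian.component_noetherian ⟨V, hV⟩
  letI : Algebra Γ(X, U) Γ(X, U') := (X.presheaf.map (homOfLE hU'U).op).hom.toAlgebra
  haveI : IsLocalization.Away (φ₀ g) Γ(X, U') := hU.isLocalization_basicOpen _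
  letI : Algebra Γ(Y, V₀) Γ(Y, V) := (Y.presheaf.map (homOfLE (Y.basicOpen_le g)).op).hom.toAlgebra
  haveI : IsLocalization.Away g Γ(Y, V) := hV₀.isLocalization_basicOpen _
  let φ' := (f.appLE V U' hU'V).hom
  have hcompat : φ'.comp (algebraMap Γ(Y, V₀) Γ(Y, V)) = (algebraMap Γ(X, U) Γ(X, U')).comp φ₀ := by
    show (Y.presheaf.map _ ≫ f.appLE V U' hU'V).hom = (f.appLE V₀ U hUV ≫ X.presheaf.map _).hom
    rw [Scheme.Hom.map_appLE, Scheme.Hom.appLE_map]
  -- the point
  let m' : Ideal Γ(X, U') := m.map (algebraMap Γ(X, U) Γ(X, U'))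
  have hgm : φ₀ g ∉ m := hg
  have hdisj : Disjoint (Submonoid.powers (φ₀ g) : Set Γ(X, U)) (m : Set Γ(X, U)) :=
    Set.disjoint_left.2 fun x hx hxm => by
      obtain ⟨n, rfl⟩ := hx
      exact hgm (Ideal.IsPrime.mem_of_pow_mem inferInstance n hxm)
  have hm'p : m'.IsPrime := IsLocalization.isPrime_of_isPrime_disjoint (Submonoid.powers (φ₀ g)) _ m inferInstance hdisj
  have hcm : m'.comap (algebraMap Γ(X, U) Γ(X, U')) = m :=
    IsLocalization.comap_map_of_isPrime_disjoint (Submonoid.powers (φ₀ g)) _ inferInstance hdisj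
  haveI hm'max : m'.IsMaximal := Ideal.isMaximal_def.2 ⟨hm'p.ne_top, fun J hJ => by
    by_contra hJt
    have h1 : m ≤ J.comap (algebraMap Γ(X, U) Γ(X, U')) := hcm ▸ Ideal.comap_mono hJ.le
    rcases (Ideal.IsMaximal.eq_of_le ‹m.IsMaximal› (fun h => hJt (Ideal.comap_eq_top_iff.1 h)) h1) with h
    refine hJ.ne ?_
    rw [← IsLocalization.map_comap (Submonoid.powers (φ₀ g)) Γ(X, U') J, Ideal.under_def, ← h]⟩
  let p' := m'.comap φ'
  have hp'c : p'.comap (algebraMap Γ(Y, V₀) Γ(Y, V)) = m.comap φ₀ := by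
    show (m'.comap φ').comap _ = _
    rw [Ideal.comap_comap, hcompat, ← Ideal.comap_comap, hcm]
  haveI : p'.IsPrime := Ideal.IsPrime.comap φ'
  haveI hp'max : p'.IsMaximal := by
    obtain ⟨Q, hQ, hle⟩ := Ideal.exists_le_maximal p' Ideal.IsPrime.ne_top'
    suffices Q = p' from this ▸ hQ
    haveI := hQ.isPrime
    have h1 : Q.comap (algebraMap Γ(Y, V₀) Γ(Y, V)) = m.comap φ₀ :=
      huniq _ (Ideal.IsPrime.comap _) (hp'c ▸ Ideal.comap_mono hle) fun h =>
        hQ.ne_top (Ideal.eq_top_of_isUnit_mem _ h (IsLocalization.Away.algebraMap_isUnit g))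
    rw [← IsLocalization.map_comap (Submonoid.powers g) Γ(Y, V) Q,
      ← IsLocalization.map_comap (Submonoid.powers g) Γ(Y, V) p', Ideal.under_def, Ideal.under_def, h1, hp'c]
  have hfin : ((Ideal.Quotient.mk m').comp φ').Finite := by
    letI : Field (Γ(Y, V) ⧸ p') := Ideal.Quotient.field p'
    letI : Field (Γ(X, U') ⧸ m') := Ideal.Quotient.field m'
    let ψ : Γ(Y, V) ⧸ p' →+* Γ(X, U') ⧸ m' := Ideal.quotientMap m' φ' le_rfl
    have h : ψ.comp (Ideal.Quotient.mk p') = (Ideal.Quotient.mk m').comp φ' := RingHom.ext fun _ => rfl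
    have hψ : ψ.FiniteType := by
      refine RingHom.FiniteType.of_comp_finiteType (f := Ideal.Quotient.mk p') (g := ψ) ?_
      rw [h]
      exact (RingHom.FiniteType.of_surjective _ Ideal.Quotient.mk_surjective).comp (f.finiteType_appLE hV hU' hU'V)
    letI : Algebra (Γ(Y, V) ⧸ p') (Γ(X, U') ⧸ m') := ψ.toAlgebra
    haveI : Algebra.FiniteType (Γ(Y, V) ⧸ p') (Γ(X, U') ⧸ m') := hψ
    rw [← h]
    exact RingHom.Finite.comp (show ψ.Finite from finite_of_finite_type_of_isJacobsonRing _ _)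
      (RingHom.Finite.of_surjective _ Ideal.Quotient.mk_surjective)
  -- localized complexes
  have heV : Spec.map (CommRingCat.ofHom (algebraMap Γ(Y, V₀) Γ(Y, V))) ≫ hV₀.fromSpec = hV.fromSpec :=
    hV₀.map_fromSpec hV (homOfLE (Y.basicOpen_le g)).op
  have heU : Spec.map (CommRingCat.ofHom (algebraMap Γ(X, U) Γ(X, U'))) ≫ hU.fromSpec = hU'.fromSpec :=
    hU.map_fromSpec hU' (homOfLE hU'U).op
  haveI : IsOpenImmersion (Spec.map (CommRingCat.ofHom (algebraMap Γ(Y, V₀) Γ(Y, V)))) :=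
    IsOpenImmersion.of_isLocalization g
  haveI : IsOpenImmersion (Spec.map (CommRingCat.ofHom (algebraMap Γ(X, U) Γ(X, U')))) :=
    IsOpenImmersion.of_isLocalization (φ₀ g)
  obtain ⟨ωB, ηB, huB, hLB, ⟨iB⟩⟩ := exists_chart_loc (S := Γ(Y, V)) (Submonoid.powers g) hV₀.fromSpec e₀
  obtain ⟨ωA, ηA, huA, hLA, ⟨iA⟩⟩ := exists_chart_loc (S := Γ(X, U')) (Submonoid.powers (φ₀ g)) hU.fromSpec eω
  have hωB : Dual.IsDualizing Γ(Y, V) ωB := isDualizing_loc (Submonoid.powers g) hω₀ huB hLB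
  let eB : (DCoh.restrictD hV.fromSpec).obj K.obj ≅ (DCoh.tildeD Γ(Y, V)).obj ωB :=
    (restrictCongrIso heV K.obj).symm ≪≫ iB
  let W := f ⁻¹ᵁ V
  let j : Spec Γ(X, U') ⟶ (W : Scheme.{u}) := IsOpenImmersion.lift W.ι hU'.fromSpec (by
    rw [hU'.range_fromSpec, Scheme.Opens.range_ι]
    exact hU'V)
  have hj : j ≫ W.ι = hU'.fromSpec := IsOpenImmersion.lift_fac _ _ _
  haveI : IsOpenImmersion (j ≫ W.ι) := hj ▸ inferInstance
  haveI : IsOpenImmersion j := IsOpenImmersion.of_comp j W.ι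
  have hφ' : j ≫ RpushLib.overW f hV = Spec.map (CommRingCat.ofHom φ') := by
    rw [← cancel_mono hV.fromSpec]
    show (j ≫ (f ∣_ V) ≫ hV.isoSpec.hom) ≫ hV.fromSpec = Spec.map (f.appLE V U' hU'V) ≫ hV.fromSpec
    rw [IsAffineOpen.SpecMap_appLE_fromSpec, Category.assoc, Category.assoc, hV.isoSpec_hom_fromSpec,
      morphismRestrict_ι, ← Category.assoc, hj]
  haveI : IsSeparated (RpushLib.overW f hV) := by
    haveI : IsProper (f ∣_ V) := MorphismProperty.of_isPullback
      (isPullback_morphismRestrict f V).flip inferInstance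
    exact inferInstanceAs (IsSeparated ((f ∣_ V) ≫ hV.isoSpec.hom))
  have hT : IsClosed ({j ⟨m', hm'max.isPrime⟩} : Set W) :=
    isClosed_singleton_of_finite j (RpushLib.overW f hV) (CommRingCat.ofHom φ') hφ' m' hfin
  obtain ⟨c, hc⟩ := exists_isGE_of_isDualizingSch hK
  obtain ⟨_, _⟩ := QRlimLib.exists_isTriangulated_rpush f
  haveI : (DCoh.RpushQ f hf).IsTriangulated :=
    ObjectProperty.isTriangulated_lift _ ((DCoh.IsQCohD (X := X)).ι ⋙ DCoh.Rpush f) _
  letI := adj.rightAdjointCommShift ℤ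
  let eA₁ : (DCoh.restrictD j).obj ((DCoh.restrictD W.ι).obj (a.obj K).obj) ≅
      (DCoh.tildeD Γ(X, U')).obj ωA :=
    (restrictCompIso j W.ι _).symm ≪≫ restrictCongrIso (hj.trans heU.symm) _ ≪≫ iA
  have hgeA : ωA.IsGE c' := isGE_loc (Submonoid.powers (φ₀ g)) hge hLA
  obtain ⟨d, hda, hdb, hvan, hline⟩ := exists_ext_point φ' m' hfin hωB (ωA := ωA)
    (fun i hi => ext_bound_loc_one (Submonoid.powers g) hω₀ hLB _ (fun i' hi' => hp'c.symm ▸ hab i' hi') i hi) fun n => by
    haveI : (K⟦n⟧).obj.IsGE (c - n) :=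
      @Triangulated.TStructure.isGE_of_iso _ _ _ _ _ _ _ DerivedCategory.TStructure.t _ _
        (((DCoh.IsQCohD (X := Y)).ι.commShiftIso n).app K).symm (c - n)
        (DerivedCategory.TStructure.t.isGE_shift K.obj c n (c - n) (by omega))
    let s : (a.obj (K⟦n⟧)).obj ≅ (a.obj K).obj⟦n⟧ :=
      (DCoh.IsQCohD (X := X)).ι.mapIso ((a.commShiftIso n).app K) ≪≫
        ((DCoh.IsQCohD (X := X)).ι.commShiftIso n).app _
    refine exists_homB f hf a adj (K⟦n⟧) (c - n) hV j φ' hφ'
      ((DCoh.restrictD j).mapIso ((DCoh.restrictD W.ι).mapIso s ≪≫ ((DCoh.restrictD W.ι).commShiftIso n).app _) ≪≫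
        ((DCoh.restrictD j).commShiftIso n).app _ ≪≫ (shiftFunctor _ n).mapIso eA₁ ≪≫
        (((DCoh.tildeD Γ(X, U')).commShiftIso n).app ωA).symm)
      ((DCoh.restrictD hV.fromSpec).mapIso (((DCoh.IsQCohD (X := Y)).ι.commShiftIso n).app K) ≪≫
        ((DCoh.restrictD hV.fromSpec).commShiftIso n).app _ ≪≫ (shiftFunctor _ n).mapIso eB ≪≫
        (((DCoh.tildeD Γ(Y, V)).commShiftIso n).app ωB).symm)
      _ hT (by rintro _ rfl; exact ⟨_, rfl⟩) fun i q hq => ?_
    show j q ∈ ({j ⟨m', hm'max.isPrime⟩} : Set W)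
    rw [show q = ⟨m', hm'max.isPrime⟩ from PrimeSpectrum.ext (support_tildeD_quot m' i q hq)]
    rfl
  obtain ⟨h1, h2⟩ := (transfer_point (A := Γ(X, U)) (B := Γ(X, U')) (Submonoid.powers (φ₀ g)) m' m hcm
    (fun s ⟨k, hk⟩ hs => hgm (Ideal.IsPrime.mem_of_pow_mem inferInstance k (show φ₀ g ^ k ∈ m from (show φ₀ g ^ k = s from hk) ▸ hs))) hge hLA d).2 ⟨hvan, hline⟩
  exact ⟨d, hda, hdb, h1, h2⟩

end Main

section LocalBase

variable {A : Type u} [CommRing A] [IsLocalRing A] [IsNoetherianRing A] {ωA : Dual.D A}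
  (hωA : Dual.IsDualizing A ωA) (hnA : Dual.IsNormalized A ωA) {X : Scheme.{u}}
  (f : X ⟶ Spec (CommRingCat.of A)) [IsProper f] [DCoh.HasRpush f] (hf : DCoh.RpushPreservesQCoh f)
  (a : DCoh.DQCoh (Spec (CommRingCat.of A)) ⥤ DCoh.DQCoh X) (adj : DCoh.RpushQ f hf ⊣ a)
  (W : DCoh.DQCoh (Spec (CommRingCat.of A))) (eW : W.obj ≅ (DCoh.tildeD (CommRingCat.of A)).obj ωA)

include hωA adj eW in
theorem isDualizingSch_local : Dual2.IsDualizingSch X (a.obj W).obj :=
  isDualizingSch_rightAdjoint f hf a adj W (isDualizingSch_tildeD hωA eW)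

include hωA hnA adj eW in
/-- The degree vanishes at closed points. -/
theorem deg_closedPoint_eq_zero [IsLocallyNoetherian X] {U : X.Opens} (hU : IsAffineOpen U)
    {ω : Dual.D Γ(X, U)} (hω : Dual.IsDualizing Γ(X, U) ω)
    (e : (DCoh.restrictD hU.fromSpec).obj (a.obj W).obj ≅ (DCoh.tildeD Γ(X, U)).obj ω)
    (q : PrimeSpectrum Γ(X, U)) (hq : IsClosed ({hU.fromSpec q} : Set X)) :
    haveI := IsLocallyNoetherian.component_noetherian ⟨U, hU⟩
    deg hω q = 0 := by
  haveI := IsLocallyNoetherian.component_noetherian ⟨U, hU⟩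
  let S := Spec (CommRingCat.of A)
  have hK := isDualizingSch_tildeD hωA eW
  haveI hqm : q.asIdeal.IsMaximal := by
    refine (PrimeSpectrum.isClosed_singleton_iff_isMaximal q).1 ?_
    have h := hq.preimage hU.fromSpec.continuous
    have h' : hU.fromSpec ⁻¹' {hU.fromSpec q} = {q} :=
      (congrArg _ Set.image_singleton.symm).trans (hU.fromSpec.isOpenEmbedding.injective.preimage_image {q})
    rw [h'] at h
    exact h
  let hV := isAffineOpen_top S
  let φ₀ := (f.appLE ⊤ U le_top).hom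
  let i := (Scheme.ΓSpecIso (CommRingCat.of A)).inv
  letI : Algebra A Γ(S, ⊤) := i.hom.toAlgebra
  have hbij : Function.Bijective (algebraMap A Γ(S, ⊤)) := ConcreteCategory.bijective_of_isIso i
  haveI : IsLocalization (⊥ : Submonoid A) A := IsLocalization.self fun x hx => by
    obtain rfl := Submonoid.mem_bot.1 hx
    exact isUnit_one
  haveI : IsIso (CommRingCat.ofHom (algebraMap A Γ(S, ⊤))) := (ConcreteCategory.isIso_iff_bijective _).2 hbij
  haveI : IsOpenImmersion (Spec.map (CommRingCat.ofHom (algebraMap A Γ(S, ⊤)))) := inferInstance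
  haveI : IsLocalization (⊥ : Submonoid A) Γ(S, ⊤) :=
    IsLocalization.isLocalization_of_algEquiv _ (AlgEquiv.ofBijective (Algebra.ofId A Γ(S, ⊤)) hbij)
  haveI : IsNoetherianRing Γ(S, ⊤) := IsLocallyNoetherian.component_noetherian ⟨⊤, hV⟩
  have hfs : Spec.map (CommRingCat.ofHom (algebraMap A Γ(S, ⊤))) ≫ 𝟙 S = hV.fromSpec := by
    rw [Category.comp_id, IsAffineOpen.fromSpec_top, Scheme.isoSpec_Spec_inv]
    rfl
  obtain ⟨i₀⟩ := nonempty_restrictD_id W.obj
  obtain ⟨Z, η, hu, hL, ⟨eZ⟩⟩ := exists_chart_loc (S := Γ(S, ⊤)) (⊥ : Submonoid A) (𝟙 S) (i₀ ≪≫ eW)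
  have hZ := isDualizing_loc (⊥ : Submonoid A) hωA hu hL
  let e₀ := (restrictCongrIso hfs W.obj).symm ≪≫ eZ
  have hclosed : IsClosed ({f (hU.fromSpec q)} : Set S) := by
    rw [← Set.image_singleton]
    exact f.isClosedMap _ hq
  have hfz : f (hU.fromSpec q) = IsLocalRing.closedPoint A :=
    ((IsLocalRing.specializes_closedPoint (R := A) (f (hU.fromSpec q))).mem_closed hclosed rfl).symm
  have hcomap : (q.asIdeal.comap φ₀).comap (algebraMap A Γ(S, ⊤)) = IsLocalRing.maximalIdeal A := by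
    have h1 : hV.fromSpec (Spec.map (f.appLE ⊤ U le_top) q) = IsLocalRing.closedPoint A := by
      rw [← hfz, ← Scheme.Hom.comp_apply, hV.SpecMap_appLE_fromSpec f hU le_top]
      rfl
    have h2 : (Spec.map (CommRingCat.ofHom (algebraMap A Γ(S, ⊤)))) (Spec.map (f.appLE ⊤ U le_top) q) =
        IsLocalRing.closedPoint A := by
      rw [← h1, ← hfs, Category.comp_id]
      rfl
    exact congrArg PrimeSpectrum.asIdeal h2
  obtain ⟨c', hge⟩ := exists_isGE_chart f hf a adj W hK hU e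
  obtain ⟨d, hd0, hd1, hvan, -⟩ := exists_ext_chart_one f hf a adj W hK hV hU le_top hZ e₀
    (a₀ := 0) (b₀ := 0) e hge q.asIdeal (fun i hi => by
      have h := ext_bound_loc_one (⊥ : Submonoid A) hωA (a := 0) (b := 0) hL (q.asIdeal.comap φ₀)
        (fun i' hi' => hcomap.symm ▸ hnA i' (by omega)) i hi
      exact h)
  obtain rfl : d = 0 := le_antisymm hd1 hd0
  by_contra hne
  exact (isDeg_deg hω q).2 (@van_of_subsingleton _ _ q.asIdeal _ _ _ _ (hvan _ hne))

include hωA hnA adj eW in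
/-- Around every point there is a chart containing a closed point below it, of degree zero. -/
theorem exists_chart_closed [IsLocallyNoetherian X] (x : X) :
    ∃ (U : X.Opens) (hU : IsAffineOpen U) (ω : Dual.D Γ(X, U)) (hω : Dual.IsDualizing Γ(X, U) ω)
      (_ : (DCoh.restrictD hU.fromSpec).obj (a.obj W).obj ≅ (DCoh.tildeD Γ(X, U)).obj ω)
      (p q : PrimeSpectrum Γ(X, U)),
      haveI := IsLocallyNoetherian.component_noetherian ⟨U, hU⟩
      hU.fromSpec p = x ∧ p ≤ q ∧ deg hω q = 0 := by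
  obtain ⟨z, hz, hxz⟩ := MiscFlat6.exists_closed_specializes x
  obtain ⟨U, hU, hzU, -⟩ := exists_isAffineOpen_mem_and_subset (x := z) (U := ⊤) trivial
  obtain ⟨ω, hω, ⟨e⟩⟩ := isDualizingSch_local hωA f hf a adj W eW Γ(X, U) hU.fromSpec
  have hxU : x ∈ U := hxz.mem_open U.2 hzU
  obtain ⟨q, rfl⟩ : z ∈ Set.range hU.fromSpec := by rwa [hU.range_fromSpec]
  obtain ⟨p, rfl⟩ : x ∈ Set.range hU.fromSpec := by rwa [hU.range_fromSpec]
  refine ⟨U, hU, ω, hω, e, p, q, rfl, ?_, deg_closedPoint_eq_zero hωA hnA f hf a adj W eW hU hω e q hz⟩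
  rw [PrimeSpectrum.le_iff_specializes]
  exact hU.fromSpec.isOpenEmbedding.isInducing.specializes_iff.1 hxz

include hωA hnA adj eW in
/-- Amplitude, dimensions of supports, top support and `(S₂)` over a local base. -/
theorem amplitude_local [IsLocallyNoetherian X] (n : ℕ) (hdim : topologicalKrullDim X = (n : WithBot ℕ∞)) :
    (∀ i : ℤ, (i < -(n : ℤ) ∨ 0 < i) → IsZero (DCoh.HD (a.obj W).obj i)) ∧
    (∀ (i : ℤ) (m : ℕ), (m : ℤ) = -i →
      topologicalKrullDim {x : X | Nontrivial ((DCoh.HD (a.obj W).obj i).presheaf.stalk x)} ≤ (m : WithBot ℕ∞)) ∧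
    ({x : X | Nontrivial ((DCoh.HD (a.obj W).obj (-(n : ℤ))).presheaf.stalk x)} =
      ⋃ Z ∈ {Z : Set X | Z ∈ irreducibleComponents X ∧ topologicalKrullDim ↥Z = (n : WithBot ℕ∞)}, Z) ∧
    ∀ x : X, LocCoh.HasSk 2 (X.presheaf.stalk x) ((DCoh.HD (a.obj W).obj (-(n : ℤ))).presheaf.stalk x) := by
  haveI : CompactSpace X := QuasiCompact.compactSpace_of_compactSpace f
  haveI : IsNoetherian X := ⟨⟩
  have hKd := isDualizingSch_local hωA f hf a adj W eW
  have hbound : ∀ (U : X.Opens) (hU : IsAffineOpen U) (ω : Dual.D Γ(X, U)) (hω : Dual.IsDualizing Γ(X, U) ω)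
      (p q : PrimeSpectrum Γ(X, U)),
      haveI := IsLocallyNoetherian.component_noetherian ⟨U, hU⟩
      p ≤ q → deg hω q = 0 → deg hω p ≤ 0 ∧ -(n : ℤ) ≤ deg hω p := by
    intro U hU ω hω p q hpq hq
    haveI := IsLocallyNoetherian.component_noetherian ⟨U, hU⟩
    obtain ⟨l, -, -, hlen⟩ := exists_series_to hω p q hpq
    have h1 : (l.length : WithBot ℕ∞) ≤ (n : WithBot ℕ∞) := by
      refine (Order.LTSeries.length_le_krullDim l).trans ?_
      show ringKrullDim Γ(X, U) ≤ _
      rw [← PrimeSpectrum.topologicalKrullDim_eq_ringKrullDim]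
      exact (Topology.IsInducing.topologicalKrullDim_le hU.fromSpec.isOpenEmbedding.isInducing).trans hdim.le
    have h2 : l.length ≤ n := by exact_mod_cast h1
    omega
  have hamp : ∀ i : ℤ, (i < -(n : ℤ) ∨ 0 < i) → IsZero (DCoh.HD (a.obj W).obj i) := fun i hi => by
    refine (DCohRestrLib.isZero_iff_subsingleton_stalks _).2 fun x => ?_
    obtain ⟨U, hU, ω, hω, e, p, q, rfl, hpq, hq⟩ := exists_chart_closed hωA hnA f hf a adj W eW x
    haveI := IsLocallyNoetherian.component_noetherian ⟨U, hU⟩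
    by_contra hs
    have hnt : Nontrivial (LocalizedModule p.asIdeal.primeCompl (Dual.HD Γ(X, U) ω i)) :=
      not_subsingleton_iff_nontrivial.1 fun h => hs (stalkHD hU.fromSpec e p i).subsingleton
    refine (nontrivial_localized_iff (extHL ω i)).1 hnt ?_
    rcases hi with hi | hi
    · exact van_of_lt hω p i fun r _ hr => by
        have := (hbound U hU ω hω r q (le_trans hr hpq) hq).2
        omega
    · exact van_of_gt hω p i (by have := (hbound U hU ω hω p q hpq hq).1; omega)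
  have hlow : ∀ (U : X.Opens) (hU : IsAffineOpen U) (ω : Dual.D Γ(X, U)) (hω : Dual.IsDualizing Γ(X, U) ω)
      (_ : (DCoh.restrictD hU.fromSpec).obj (a.obj W).obj ≅ (DCoh.tildeD Γ(X, U)).obj ω),
      haveI := IsLocallyNoetherian.component_noetherian ⟨U, hU⟩
      ∀ q, -(n : ℤ) ≤ deg hω q := fun U hU ω hω e =>
    le_deg_of_isZero hU hω e _ fun i hi => hamp i (Or.inl hi)
  refine ⟨hamp, fun i m hm => ?_, Set.ext fun x => ?_, fun x => ?_⟩
  · let S : Set X := {x : X | Nontrivial ((DCoh.HD (a.obj W).obj i).presheaf.stalk x)}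
    have hS : S = CohB1.support (DCoh.HD (a.obj W).obj i) :=
      Set.ext fun x => (not_subsingleton_iff_nontrivial).symm
    have hcl : IsClosed S := hS ▸ QCohLib.isClosed_support _ (isCohD_of_isDualizingSch hKd i).2
    haveI : QuasiSober S := hcl.isClosedEmbedding_subtypeVal.quasiSober
    refine topologicalKrullDim_le_of_chains m fun l c hc => ?_
    obtain ⟨U, hU, ω, hω, e, pl, qz, hpl, hle, hq0⟩ :=
      exists_chart_closed hωA hnA f hf a adj W eW (c (Fin.last l)).1
    haveI := IsLocallyNoetherian.component_noetherian ⟨U, hU⟩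
    have hlU : (c (Fin.last l)).1 ∈ U := hpl ▸ (hU.range_fromSpec ▸ Set.mem_range_self pl : hU.fromSpec pl ∈ (U : Set X))
    have hmem : ∀ j, ∃ p : PrimeSpectrum Γ(X, U), hU.fromSpec p = (c j).1 := fun j => by
      show (c j).1 ∈ Set.range hU.fromSpec
      rw [hU.range_fromSpec]
      exact Specializes.mem_open (Specializes.map (hc.2 j _ (Fin.le_last j)) continuous_subtype_val) U.2 hlU
    choose r hr using hmem
    have hord : ∀ b b', b < b' → r b < r b' := fun b b' hbb => by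
      refine lt_of_le_of_ne ?_ fun he => hbb.ne (hc.1 (Subtype.ext ((hr b).symm.trans ((congrArg (fun p => hU.fromSpec p) he).trans (hr b')))))
      rw [PrimeSpectrum.le_iff_specializes]
      refine hU.fromSpec.isOpenEmbedding.isInducing.specializes_iff.1 ?_
      rw [hr b, hr b']
      exact Specializes.map (hc.2 b b' hbb.le) continuous_subtype_val
    let L : LTSeries (PrimeSpectrum Γ(X, U)) := LTSeries.mk l r fun b b' hbb => hord b b' hbb
    have hnt : Nontrivial (LocalizedModule L.head.asIdeal.primeCompl (Dual.HD Γ(X, U) ω i)) :=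
      not_subsingleton_iff_nontrivial.1 fun h => not_subsingleton_iff_nontrivial.2
        (show hU.fromSpec L.head ∈ S from (hr _).symm ▸ (c _).2)
        (stalkHD hU.fromSpec e L.head i).subsingleton
    have h1 : i ≤ deg hω L.head := not_lt.1 fun h =>
      (nontrivial_localized_iff (extHL ω i)).1 hnt (van_of_gt hω L.head i h)
    have hlast : L.last = pl := hU.fromSpec.isOpenEmbedding.injective ((hr _).trans hpl.symm)
    have h4 := length_le_deg_sub hω L
    have h5 := (hbound U hU ω hω L.last qz (hlast ▸ hle) hq0).1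
    have h6 : L.length = l := rfl
    omega
  · simp only [Set.mem_iUnion, exists_prop]
    obtain ⟨U, hU, ω, hω, e, p, qz, rfl, hpq, hq0⟩ := exists_chart_closed hωA hnA f hf a adj W eW x
    haveI := IsLocallyNoetherian.component_noetherian ⟨U, hU⟩
    have hsupp : ∀ r : PrimeSpectrum Γ(X, U), Nontrivial ((DCoh.HD (a.obj W).obj (-(n : ℤ))).presheaf.stalk (hU.fromSpec r)) ↔
        r ∈ Module.support Γ(X, U) (Dual.HD Γ(X, U) ω (-(n : ℤ))) := fun r =>
      (stalkHD hU.fromSpec e r _).nontrivial_congr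
    constructor
    · intro hx
      obtain ⟨q, hqp, hqn⟩ := (mem_support_lowest hω _ (hlow U hU ω hω e) p).1 ((hsupp p).1 hx)
      obtain ⟨Z, hZ, hsub⟩ := exists_mem_irreducibleComponents_subset_of_isIrreducible
        (closure {hU.fromSpec q}) isIrreducible_singleton.closure
      refine ⟨Z, ⟨hZ, le_antisymm ((Topology.IsInducing.subtypeVal.topologicalKrullDim_le).trans hdim.le) ?_⟩, hsub ?_⟩
      · obtain ⟨l, hlh, hll, hlen⟩ := exists_series_to hω q qz (le_trans hqp hpq)
        haveI : QuasiSober Z := (isClosed_of_mem_irreducibleComponents Z hZ).isClosedEmbedding_subtypeVal.quasiSober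
        have hc : FibDimLib.IsSpecChain (fun b => (⟨hU.fromSpec (l b), hsub (specializes_iff_mem_closure.1
            ((PrimeSpectrum.le_iff_specializes _ _).1 (hlh ▸ l.head_le b) |>.map hU.fromSpec.continuous))⟩ : Z)) := by
          refine ⟨fun b b' hbb => ?_,
            fun b b' hbb => ?_⟩
          · have h := congrArg Subtype.val hbb
            exact l.strictMono.injective (hU.fromSpec.isOpenEmbedding.injective h)
          refine Topology.IsInducing.subtypeVal.specializes_iff.1 ?_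
          exact ((PrimeSpectrum.le_iff_specializes _ _).1 (l.monotone hbb)).map hU.fromSpec.continuous
        have h := hc.le_topologicalKrullDim
        rw [show l.length = n by omega] at h
        exact h
      · exact specializes_iff_mem_closure.1 (((PrimeSpectrum.le_iff_specializes _ _).1 hqp).map hU.fromSpec.continuous)
    · rintro ⟨Z, ⟨hZ, hZd⟩, hxZ⟩
      refine (hsupp p).2 ?_
      have hZc := isClosed_of_mem_irreducibleComponents Z hZ
      haveI : QuasiSober Z := hZc.isClosedEmbedding_subtypeVal.quasiSober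
      obtain ⟨η, hη⟩ := QuasiSober.sober hZ.1 hZc
      have hηx : η ⤳ hU.fromSpec p := specializes_iff_mem_closure.2 (hη.symm ▸ hxZ)
      obtain ⟨pη, hpη⟩ : ∃ pη : PrimeSpectrum Γ(X, U), hU.fromSpec pη = η := by
        show η ∈ Set.range hU.fromSpec
        rw [hU.range_fromSpec]
        exact hηx.mem_open U.2 (hU.range_fromSpec ▸ Set.mem_range_self p : hU.fromSpec p ∈ (U : Set X))
      have hle : pη ≤ p := by
        rw [PrimeSpectrum.le_iff_specializes]
        exact hU.fromSpec.isOpenEmbedding.isInducing.specializes_iff.1 (hpη.symm ▸ hηx)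
      refine (mem_support_lowest hω _ (hlow U hU ω hω e) p).2 ?_
      have hnt : Nontrivial ((DCoh.HD (a.obj W).obj (-(n : ℤ))).presheaf.stalk η) := by
        obtain ⟨c, hc⟩ : ∃ c : Fin (n + 1) → Z, FibDimLib.IsSpecChain c := exists_specChain n hZd.ge
        obtain ⟨V, hV, ω', hω', e', pl, qz', hpl, hle', hq0'⟩ :=
          exists_chart_closed hωA hnA f hf a adj W eW (c (Fin.last n)).1
        haveI := IsLocallyNoetherian.component_noetherian ⟨V, hV⟩
        have hcη : ∀ b, η ⤳ (c b).1 := fun b => specializes_iff_mem_closure.2 (hη.symm ▸ (c b).2)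
        have hin : (c (Fin.last n)).1 ∈ V := hpl ▸ (hV.range_fromSpec ▸ Set.mem_range_self pl : hV.fromSpec pl ∈ (V : Set X))
        have hmem : ∀ b, ∃ r : PrimeSpectrum Γ(X, V), hV.fromSpec r = (c b).1 := fun b => by
          show (c b).1 ∈ Set.range hV.fromSpec
          rw [hV.range_fromSpec]
          exact Specializes.mem_open (Specializes.map (hc.2 b _ (Fin.le_last b)) continuous_subtype_val) V.2 hin
        choose r hr using hmem
        obtain ⟨rη, hrη⟩ : η ∈ Set.range hV.fromSpec := by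
          rw [hV.range_fromSpec]
          exact (hcη _).mem_open V.2 hin
        have hspec : ∀ {u v : PrimeSpectrum Γ(X, V)}, hV.fromSpec u ⤳ hV.fromSpec v → u ≤ v := fun h => by
          rw [PrimeSpectrum.le_iff_specializes]
          exact hV.fromSpec.isOpenEmbedding.isInducing.specializes_iff.1 h
        let L : LTSeries (PrimeSpectrum Γ(X, V)) := LTSeries.mk n r fun b b' hbb =>
          lt_of_le_of_ne (hspec (by rw [hr b, hr b']; exact Specializes.map (hc.2 b b' hbb.le) continuous_subtype_val))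
            fun he => hbb.ne (hc.1 (Subtype.ext ((hr b).symm.trans ((congrArg (fun p => hV.fromSpec p) he).trans (hr b')))))
        have hlast : L.last = pl := hV.fromSpec.isOpenEmbedding.injective ((hr _).trans hpl.symm)
        have h1 := length_le_deg_sub hω' L
        have h2 := (hbound V hV ω' hω' L.last qz' (hlast ▸ hle') hq0').1
        have h3 : deg hω' rη ≤ deg hω' L.head :=
          (deg_strictMono hω').monotone (hspec (by rw [hrη]; exact (hr 0).symm ▸ hcη 0))
        have h4 := hlow V hV ω' hω' e' rη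
        have h5 : L.length = n := rfl
        rw [← hrη]
        exact (stalkHD hV.fromSpec e' rη _).nontrivial_congr.2
          ((mem_support_lowest hω' _ (hlow V hV ω' hω' e') rη).2 ⟨rη, le_rfl, by omega⟩)
      obtain ⟨q, hqη, hqn⟩ := (mem_support_lowest hω _ (hlow U hU ω hω e) pη).1 ((hsupp pη).1 (hpη.symm ▸ hnt))
      exact ⟨q, le_trans hqη hle, hqn⟩
  · obtain ⟨U, hU, hxU, -⟩ := exists_isAffineOpen_mem_and_subset (x := x) (U := ⊤) trivial
    haveI := IsLocallyNoetherian.component_noetherian ⟨U, hU⟩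
    obtain ⟨ω, hω, ⟨e⟩⟩ := hKd Γ(X, U) hU.fromSpec
    haveI := hω.finite_cohomology (-(n : ℤ))
    haveI := isQCoh_HD hKd (-(n : ℤ))
    letI := Module.compHom ((DCoh.HD (a.obj W).obj (-(n : ℤ))).presheaf.stalk x) (X.presheaf.germ U x hxU).hom
    letI : Algebra Γ(X, U) (X.presheaf.stalk x) := (X.presheaf.germ U x hxU).hom.toAlgebra
    haveI : IsScalarTower Γ(X, U) (X.presheaf.stalk x) ((DCoh.HD (a.obj W).obj (-(n : ℤ))).presheaf.stalk x) :=
      IsScalarTower.of_algebraMap_smul fun _ _ => rfl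
    haveI : IsLocalization.AtPrime (X.presheaf.stalk x) (hU.primeIdealOf ⟨x, hxU⟩).asIdeal :=
      hU.isLocalization_stalk ⟨x, hxU⟩
    haveI := FlatLib.isLocalizedModule_germLin (DCoh.HD (a.obj W).obj (-(n : ℤ))) hU hxU
    let g := (FlatLib.germLin (DCoh.HD (a.obj W).obj (-(n : ℤ))) hxU).comp (sectionsHD hU e (-(n : ℤ))).toLinearMap
    haveI : IsLocalizedModule (hU.primeIdealOf ⟨x, hxU⟩).asIdeal.primeCompl g :=
      IsLocalizedModule.of_linearEquiv_right _ _ _
    exact hasSk_two_of_localized (hU.primeIdealOf ⟨x, hxU⟩).asIdeal g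
      (min_two_le_depth_lowest hω _ (hlow U hU ω hω e))

end LocalBase

end Groth.Agent.Dual3Lib
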