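import Groth.Agent.DualCxLib.S2
import Groth.Agent.DualCxLib.Chart
import Groth.Agent.ReflexLib.Normal

/-!
# Torsion-freeness and reflexivity of the lowest cohomology of a dualizing complex
-/

set_option autoImplicit false
set_option linter.style.haveILetI false
set_option linter.unusedSectionVars false

universe u

open CategoryTheory CategoryTheory.Limits
open Groth.Agent Groth.Agent.DualCxLib

attribute [local instance] HasDerivedCategory.standard

noncomputable section

namespace Groth.Agent.Dual3Lib

variable {A : Type u} [CommRing A] [IsNoetherianRing A] {ω : Dual.D A}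

/-- A regular element of the ring is regular on the lowest cohomology. -/
theorem isSMulRegular_lowest (hω : Dual.IsDualizing A ω) (n : ℤ) (hn : ∀ q, n ≤ deg hω q) (a : A)
    (ha : a ∈ nonZeroDivisors A) : IsSMulRegular (Dual.HD A ω n) a := by
  haveI := hω.finite_cohomology n
  by_contra hreg
  have hc : a ∈ {r : A | IsSMulRegular (Dual.HD A ω n) r}ᶜ := hreg
  rw [← biUnion_associatedPrimes_eq_compl_regular] at hc
  obtain ⟨Q, hQ, haQ⟩ := Set.mem_iUnion₂.1 hc
  let q : PrimeSpectrum A := ⟨Q, hQ.isPrime⟩
  by_cases hlt : n < deg hω q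
  · exact (CommAlgDim.hasSeqIn_one_iff q.asIdeal).1 ((hasSeqIn_lowest hω n hn q).1 hlt) _ hQ le_rfl
  · have hmin := mem_minimalPrimes_of_deg_eq hω n hn q (le_antisymm (not_lt.1 hlt) (hn q))
    exact Set.disjoint_left.1 (Ideal.disjoint_nonZeroDivisors_of_mem_minimalPrimes hmin) haQ ha

theorem torsion_lowest_eq_bot (hω : Dual.IsDualizing A ω) (n : ℤ) (hn : ∀ q, n ≤ deg hω q) {N : Type*}
    [AddCommGroup N] [Module A N] (e : Dual.HD A ω n ≃ₗ[A] N) : Submodule.torsion A N = ⊥ := by
  refine (Submodule.eq_bot_iff _).2 fun x hx => ?_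
  obtain ⟨⟨a, ha⟩, hax⟩ := hx
  have h : a • e.symm x = 0 := by
    rw [← map_smul]
    exact (congrArg e.symm hax).trans (map_zero _)
  exact e.symm.map_eq_zero_iff.1 ((isSMulRegular_lowest hω n hn a ha).right_eq_zero_of_smul h)

theorem hasSk_two_lowest_of_equiv (hω : Dual.IsDualizing A ω) (n : ℤ) (hn : ∀ q, n ≤ deg hω q) {N : Type u}
    [AddCommGroup N] [Module A N] (e : Dual.HD A ω n ≃ₗ[A] N) : LocCoh.HasSk 2 A N := fun p _ => by
  let e' := IsLocalizedModule.mapEquiv p.primeCompl (LocalizedModule.mkLinearMap p.primeCompl (Dual.HD A ω n))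
    (LocalizedModule.mkLinearMap p.primeCompl N) (Localization.AtPrime p) e
  rw [← Module.supportDim_eq_of_equiv e', ← CommAlgDim.depth_congr e']
  exact hasSk_two_lowest hω n hn p

/-- Over a locally normal ring the lowest cohomology is reflexive. -/
theorem isReflexive_lowest_of_normal (hω : Dual.IsDualizing A ω) (n : ℤ) (hn : ∀ q, n ≤ deg hω q)
    (hA : ∀ (m : Ideal A) [m.IsMaximal], IsDomain (Localization.AtPrime m) ∧ IsIntegrallyClosed (Localization.AtPrime m))
    {N : Type u} [AddCommGroup N] [Module A N] (e : Dual.HD A ω n ≃ₗ[A] N) : Module.IsReflexive A N := by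
  haveI := hω.finite_cohomology n
  suffices h : Module.IsReflexive A (Dual.HD A ω n) from Module.equiv e
  refine ReflexLib.isReflexive_of_reflOn_maximal fun m _ => (ReflexLib.reflOn_iff m).1 ?_
  obtain ⟨h1, h2⟩ := hA m
  haveI : IsNoetherianRing (Localization.AtPrime m) := IsLocalization.isNoetherianRing m.primeCompl _ ‹_›
  haveI : Module.Finite (Localization.AtPrime m) (LocalizedModule m.primeCompl (Dual.HD A ω n)) :=
    Module.Finite.of_isLocalizedModule m.primeCompl (LocalizedModule.mkLinearMap m.primeCompl _)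
  exact ReflexLib.isReflexive_of_min_two_le fun P _ =>
    min_two_le_of_localized m (LocalizedModule.mkLinearMap m.primeCompl (Dual.HD A ω n))
      (min_two_le_depth_lowest hω n hn) P

end Groth.Agent.Dual3Lib
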