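import Groth.Agent.ShriekLib.FlatBC
import Groth.Agent.ShriekLib.Indep
import Groth.Agent.Dual3Lib.AmplitudeField
import Groth.Agent.Dual3Lib.RelTopDual
import Groth.Agent.Dual3Lib.PnCoh
import Groth.Agent.HensSchLib.Flat
import Groth.Agent.DualFMLib.Twist.Kernel
import Groth.Agent.RefHullLib.Reflexive
import Groth.Agent.S1747

/-!
# Twisted inverse images and extensions of the base field
-/

set_option autoImplicit false
set_option linter.style.haveILetI false
set_option linter.unusedSectionVars false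
set_option backward.isDefEq.respectTransparency false
set_option backward.isDefEq.respectTransparency.types false
set_option maxHeartbeats 1000000
set_option synthInstance.maxHeartbeats 200000

universe u

open CategoryTheory CategoryTheory.Limits AlgebraicGeometry
open Groth.Agent

attribute [local instance] HasDerivedCategory.standard

noncomputable section

namespace ShriekLib

/-- Cohomology sheaves commute with flat derived pullback. -/
theorem nonempty_HD_lpull_flat {X Y : Scheme.{u}} (f : X ⟶ Y) [Flat f] [DCoh.HasLpull f] (K : DCoh.D Y)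
    (i : ℤ) : Nonempty (DCoh.HD ((DCoh.Lpull f).obj K) i ≅ (Scheme.Modules.pullback f).obj (DCoh.HD K i)) := by
  haveI := CohGenLib.preservesFiniteLimits_pullback_flat f
  haveI : (Scheme.Modules.pullback f).PreservesHomology := inferInstance
  let P := Dual3Lib.rep K
  exact ⟨(DerivedCategory.homologyFunctor X.Modules i).mapIso
      ((DCoh.Lpull f).mapIso (Dual3Lib.repIso K).symm ≪≫ KFlatLib.lpullObjIso f P (Dual3Lib.rep_kFlat K)) ≪≫
    (DerivedCategory.homologyFunctorFactors X.Modules i).app _ ≪≫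
    (P.sc i).mapHomologyIso (Scheme.Modules.pullback f) ≪≫
    (Scheme.Modules.pullback f).mapIso (((DerivedCategory.homologyFunctorFactors Y.Modules i).app P).symm ≪≫
      (DerivedCategory.homologyFunctor Y.Modules i).mapIso (Dual3Lib.repIso K))⟩

variable [∀ (U V : Scheme.{u}) (j : U ⟶ V) [IsOpenImmersion j], PreservesFiniteLimits (Scheme.Modules.restrictFunctor j)]

/-- For a finite extension of fields the twisted inverse image of the unit is the unit. -/
theorem nonempty_shriek_finite_field (k k' : Type u) [Field k] [Field k']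
    (g : Spec (CommRingCat.of k') ⟶ Spec (CommRingCat.of k)) [IsProper g] [DCoh.HasRpush g]
    (hg : DCoh.RpushPreservesQCoh g) (a : DCoh.DQCoh (Spec (CommRingCat.of k)) ⥤ DCoh.DQCoh (Spec (CommRingCat.of k')))
    (adj : DCoh.RpushQ g hg ⊣ a) (O : DCoh.DQCoh (Spec (CommRingCat.of k)))
    (eO : O.obj ≅ DCoh.inD (Spec (CommRingCat.of k)) (Coh.structureModule (Spec (CommRingCat.of k)))) :
    Nonempty ((a.obj O).obj ≅ DCoh.inD (Spec (CommRingCat.of k')) (Coh.structureModule (Spec (CommRingCat.of k')))) := by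
  haveI : ∀ (R : CommRingCat.{u}), PreservesFiniteLimits (tilde.functor R) := fun R =>
    HensSchLib.tilde_preservesFiniteLimits R
  have hdim : topologicalKrullDim (Spec (CommRingCat.of k')) ≤ ((0 : ℕ) : WithBot ℕ∞) := by
    show topologicalKrullDim (PrimeSpectrum k') ≤ _
    rw [PrimeSpectrum.topologicalKrullDim_eq_ringKrullDim, ringKrullDim_eq_zero_of_field]
    rfl
  obtain ⟨hK, hz, -⟩ := Dual3Lib.amplitude g hg a adj O eO 0 hdim
  obtain ⟨ω, hω, ⟨e⟩⟩ := hK k' (𝟙 (Spec (CommRingCat.of k')))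
  obtain ⟨i₀⟩ := Dual3Lib.nonempty_restrictD_id (a.obj O).obj
  obtain ⟨s, ⟨es⟩⟩ := Groth.Agent.S1747.result k' (Dual.inD k' k') ω
    (Dual3Lib.isDualizing_of_isField k' (Field.toIsField k')) hω
  haveI : (tilde.functor (CommRingCat.of k')).Additive :=
    instAdditiveModuleCatCarrierModulesSpecOfFunctor (R := CommRingCat.of k')
  let e' : (a.obj O).obj ≅
      (DCoh.inD (Spec (CommRingCat.of k')) (Coh.structureModule (Spec (CommRingCat.of k'))))⟦s⟧ :=
    i₀.symm ≪≫ e ≪≫ (DCoh.tildeD (CommRingCat.of k')).mapIso es ≪≫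
      ((DCoh.tildeD (CommRingCat.of k')).commShiftIso s).app _ ≪≫
      (shiftFunctor _ s).mapIso (DualCxLib.tildeInDSelf (CommRingCat.of k'))
  by_cases hs : s = 0
  · subst hs
    exact ⟨e' ≪≫ (shiftFunctorZero _ ℤ).app _⟩
  · exfalso
    let H := DerivedCategory.homologyFunctor (Spec (CommRingCat.of k')).Modules
    have h : IsZero (Coh.structureModule (Spec (CommRingCat.of k'))) := (hz (-s) (by omega)).of_iso
      ((H (-s)).mapIso e' ≪≫ ((H 0).shiftIso s (-s) 0 (by omega)).app _ ≪≫
        (DerivedCategory.singleFunctorCompHomologyFunctorIso (Spec (CommRingCat.of k')).Modules (0 : ℤ)).app _).symm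
    let x : Spec (CommRingCat.of k') := IsLocalRing.closedPoint k'
    obtain ⟨u⟩ := RefHullLib.nonempty_stalk_unit (Spec (CommRingCat.of k')) x
    haveI : Subsingleton ((Coh.structureModule (Spec (CommRingCat.of k'))).presheaf.stalk x) :=
      (DCohRestrLib.isZero_iff_subsingleton_stalks _).1 h x
    haveI : Subsingleton ((Spec (CommRingCat.of k')).presheaf.stalk x) := u.toEquiv.subsingleton
    exact false_of_nontrivial_of_subsingleton ((Spec (CommRingCat.of k')).presheaf.stalk x)

/-- A field through which a nonempty scheme of finite type over a field factors is a finite extension. -/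
theorem isFinite_of_factor (k k' : Type u) [Field k] [Field k'] [Algebra k k'] {X : Scheme.{u}} [Nonempty X]
    (f : X ⟶ Spec (CommRingCat.of k)) [LocallyOfFiniteType f] (f' : X ⟶ Spec (CommRingCat.of k'))
    (hff' : f' ≫ Spec.map (CommRingCat.ofHom (algebraMap k k')) = f) :
    IsFinite (Spec.map (CommRingCat.ofHom (algebraMap k k'))) := by
  obtain ⟨x⟩ := (inferInstance : Nonempty X)
  obtain ⟨U, hU, hxU, -⟩ := exists_isAffineOpen_mem_and_subset (x := x) (U := ⊤) trivial
  haveI : Nonempty (U : Scheme.{u}) := ⟨⟨x, hxU⟩⟩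
  haveI : Nontrivial Γ(X, U) := (X.presheaf.germ U x hxU).hom.domain_nontrivial
  obtain ⟨φ', hφ'⟩ := Spec.map_surjective (hU.fromSpec ≫ f')
  let φ := CommRingCat.ofHom (algebraMap k k') ≫ φ'
  have hφ : Spec.map φ = hU.fromSpec ≫ f := by rw [Spec.map_comp, hφ', Category.assoc, hff']
  haveI := hU.isOpenImmersion_fromSpec
  have hft : φ.hom.FiniteType := by
    rw [← HasRingHomProperty.Spec_iff (P := @LocallyOfFiniteType), hφ]
    infer_instance
  rw [IsFinite.SpecMap_iff]
  algebraize [φ.hom, φ'.hom]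
  obtain ⟨m, hm⟩ := Ideal.exists_maximal Γ(X, U)
  letI := Ideal.Quotient.field m
  haveI : Algebra.FiniteType k (Γ(X, U) ⧸ m) := Algebra.FiniteType.of_surjective (Ideal.Quotient.mkₐ k m)
    Ideal.Quotient.mk_surjective
  haveI : Module.Finite k (Γ(X, U) ⧸ m) := finite_of_finite_type_of_isJacobsonRing k _
  let ψ : k' →ₗ[k] (Γ(X, U) ⧸ m) :=
    { toFun := fun a => Ideal.Quotient.mk m (φ'.hom a)
      map_add' := fun a b => by rw [map_add, map_add]
      map_smul' := fun r a => by
        rw [Algebra.smul_def, map_mul, map_mul, Algebra.smul_def, RingHom.id_apply]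
        rfl }
  have hψ : Function.Injective ψ := ((Ideal.Quotient.mk m).comp φ'.hom).injective
  haveI : Module.Finite k k' := Module.Finite.of_injective ψ hψ
  exact RingHom.finite_algebraMap.2 inferInstance

/-- The dualizing complex does not depend on the base field. -/
theorem nonempty_shriek_indep_field (k k' : Type u) [Field k] [Field k'] [Algebra k k'] {X : Scheme.{u}}
    (f : X ⟶ Spec (CommRingCat.of k)) [IsProper f] (f' : X ⟶ Spec (CommRingCat.of k'))
    (hff' : f' ≫ Spec.map (CommRingCat.ofHom (algebraMap k k')) = f)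
    [DCoh.HasRpush f] (hf : DCoh.RpushPreservesQCoh f)
    (a : DCoh.DQCoh (Spec (CommRingCat.of k)) ⥤ DCoh.DQCoh X) (adj : DCoh.RpushQ f hf ⊣ a)
    [DCoh.HasRpush f'] (hf' : DCoh.RpushPreservesQCoh f')
    (a' : DCoh.DQCoh (Spec (CommRingCat.of k')) ⥤ DCoh.DQCoh X) (adj' : DCoh.RpushQ f' hf' ⊣ a')
    (O : DCoh.DQCoh (Spec (CommRingCat.of k)))
    (eO : O.obj ≅ DCoh.inD (Spec (CommRingCat.of k)) (Coh.structureModule (Spec (CommRingCat.of k))))
    (O' : DCoh.DQCoh (Spec (CommRingCat.of k')))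
    (eO' : O'.obj ≅ DCoh.inD (Spec (CommRingCat.of k')) (Coh.structureModule (Spec (CommRingCat.of k')))) :
    Nonempty ((a.obj O).obj ≅ (a'.obj O').obj) := by
  rcases isEmpty_or_nonempty X with hX | hX
  · have hz : ∀ M : DCoh.D X, IsZero M := fun M => (DCohRestrLib.isZero_iff_HD M).2 fun i =>
      (DCohRestrLib.isZero_iff_subsingleton_stalks _).2 fun x => (hX.false x).elim
    exact ⟨(hz _).iso (hz _)⟩
  · let g := Spec.map (CommRingCat.ofHom (algebraMap k k'))
    haveI : IsFinite g := isFinite_of_factor k k' f f' hff'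
    haveI := isNoetherian_of_proper f
    haveI := DCohRestrLib.hasRpush g
    obtain ⟨ag, ⟨adjg⟩⟩ := exists_rightAdjoint g (hpush g)
    obtain ⟨cc⟩ := nonempty_rpushQ_comp f' g f hff' hf' (hpush g) hf
    let ea : a.obj O ≅ a'.obj (ag.obj O) := (adj.rightAdjointUniq ((adj'.comp adjg).ofNatIsoLeft cc)).app O
    obtain ⟨eg⟩ := nonempty_shriek_finite_field k k' g (hpush g) ag adjg O eO
    exact ⟨(ObjectProperty.ι _).mapIso (ea ≪≫ a'.mapIso (ObjectProperty.isoMk _ (eg ≪≫ eO'.symm)))⟩

/-- The dualizing module commutes with extensions of the base field. -/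
theorem nonempty_HD_shriek_field_ext {X X' Y Y' : Scheme.{u}} [IsNoetherian Y] [IsNoetherian Y']
    (f : X ⟶ Y) [IsProper f] (g : Y' ⟶ Y) [Flat g] (f' : X' ⟶ Y') [IsProper f'] (g' : X' ⟶ X)
    (hsq : IsPullback g' f' f g) [DCoh.HasRpush f] (hf : DCoh.RpushPreservesQCoh f)
    (a : DCoh.DQCoh Y ⥤ DCoh.DQCoh X) (adj : DCoh.RpushQ f hf ⊣ a)
    [DCoh.HasRpush f'] (hf' : DCoh.RpushPreservesQCoh f')
    (a' : DCoh.DQCoh Y' ⥤ DCoh.DQCoh X') (adj' : DCoh.RpushQ f' hf' ⊣ a')
    (O : DCoh.DQCoh Y) (eO : O.obj ≅ DCoh.inD Y (Coh.structureModule Y))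
    (O' : DCoh.DQCoh Y') (eO' : O'.obj ≅ DCoh.inD Y' (Coh.structureModule Y')) (i : ℤ) :
    Nonempty ((Scheme.Modules.pullback g').obj (DCoh.HD (a.obj O).obj i) ≅ DCoh.HD (a'.obj O').obj i) := by
  haveI : Flat g' := MorphismProperty.of_isPullback (P := @Flat) hsq.flip inferInstance
  haveI := isNoetherian_of_proper f
  haveI := isNoetherian_of_proper f'
  haveI := KFlatLib.hasLpull g
  haveI := KFlatLib.hasLpull g'
  obtain ⟨e⟩ := nonempty_shriek_flatBC f g f' g' hsq (𝟙 X) f (Category.id_comp f) (𝟙 X') f'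
    (Category.id_comp f') hf hf' a a' adj adj' (KFlatLib.isQCohD_lpull g)
  have hb : Dual3.IsBddBelowQ Y O := ⟨0, DerivedCategory.TStructure.t.isGE_of_iso eO.symm 0⟩
  obtain ⟨v⟩ := Dual3Lib.nonempty_restrictD_id (a.obj O).obj
  let LO := (Dual3.LpullQ g (KFlatLib.isQCohD_lpull g)).obj O
  obtain ⟨v'⟩ := Dual3Lib.nonempty_restrictD_id (a'.obj LO).obj
  let eL : LO ≅ O' := ObjectProperty.isoMk _ ((DCoh.Lpull g).mapIso (eO ≪≫ DualFMLib.inDUnit Y) ≪≫
    KiehlLib.lpullUnitIso g ≪≫ (DualFMLib.inDUnit Y').symm ≪≫ eO'.symm)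
  obtain ⟨h⟩ := nonempty_HD_lpull_flat g' (a.obj O).obj i
  exact ⟨h.symm ≪≫ (DerivedCategory.homologyFunctor X'.Modules i).mapIso
    ((DCoh.Lpull g').mapIso v.symm ≪≫ e.app ⟨O, hb⟩ ≪≫ v' ≪≫ (ObjectProperty.ι _).mapIso (a'.mapIso eL))⟩

end ShriekLib

end
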