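import Groth.Agent.ShriekLib.Sect
import Groth.Agent.S3630
import Groth.Agent.S3634
import Groth.Agent.S3639
import Groth.Agent.S15990
import Groth.Agent.CohCmpLib.RankOne
import Groth.Agent.CohCmpLib.LineBundle
import Groth.Agent.CurvLib.Line
import Groth.Agent.DefClassLib.Basic
import Groth.Agent.StabLib.Simple
import Groth.Agent.GrassLib.Free
import Groth.Agent.PerfModLib.Smooth
import Groth.Agent.PerfModLib.Mor

/-!
# The diagonal of the affine line
-/

set_option autoImplicit false
set_option linter.style.haveILetI false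
set_option linter.unusedSectionVars false
set_option backward.isDefEq.respectTransparency false
set_option backward.isDefEq.respectTransparency.types false
set_option maxHeartbeats 1000000
set_option synthInstance.maxHeartbeats 200000

universe u

open CategoryTheory CategoryTheory.Limits AlgebraicGeometry Opposite
open Groth.Agent Groth.Agent.FMTransLib Groth.Agent.PerfDualLib

attribute [local instance] HasDerivedCategory.standard

noncomputable section

namespace ShriekLib

/-- The affine line is smooth of relative dimension one. -/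
theorem smoothRel_affineLine (Y : Scheme.{u}) :
    SmoothOfRelativeDimension 1 (AffineSpace (ULift.{u} (Fin 1)) Y ↘ Y) := by
  let n := ULift.{u} (Fin 1)
  let R : Type u := ULift.{u} ℤ
  haveI := GrassLib.isStandardSmooth_mvPolynomial R n 1 Equiv.ulift
  have hC : SmoothOfRelativeDimension 1
      (Spec.map (CommRingCat.ofHom (algebraMap R (MvPolynomial n R)))) := by
    rw [HasRingHomProperty.Spec_iff (P := @SmoothOfRelativeDimension 1)]
    exact RingHom.locally_of RingHom.isStandardSmoothOfRelativeDimension_respectsIso _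
      ((RingHom.isStandardSmoothOfRelativeDimension_algebraMap _).mpr inferInstance)
  have ht : SmoothOfRelativeDimension 1 (terminal.from (Spec (CommRingCat.of (MvPolynomial n R)))) := by
    let e : Spec (CommRingCat.of R) ≅ ⊤_ Scheme.{u} := specULiftZIsTerminal.uniqueUpToIso terminalIsTerminal
    rw [show terminal.from (Spec (CommRingCat.of (MvPolynomial n R))) =
      Spec.map (CommRingCat.ofHom (algebraMap R (MvPolynomial n R))) ≫ e.hom from terminalIsTerminal.hom_ext _ _]
    exact (MorphismProperty.cancel_right_of_respectsIso (P := @SmoothOfRelativeDimension 1) _ _).2 hC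
  haveI := smoothOfRelativeDimension_isStableUnderBaseChange.{u} 1
  exact MorphismProperty.pullback_fst (P := @SmoothOfRelativeDimension 1) _ _ ht

variable {Y : Scheme.{u}}

/-- The difference of the two coordinates. -/
def diagEq (Y : Scheme.{u}) :
    Γ(pullback (AffineSpace (ULift.{u} (Fin 1)) Y ↘ Y) (AffineSpace (ULift.{u} (Fin 1)) Y ↘ Y), ⊤) :=
  (pullback.fst (AffineSpace (ULift.{u} (Fin 1)) Y ↘ Y) (AffineSpace (ULift.{u} (Fin 1)) Y ↘ Y)).appTop
      (AffineSpace.coord Y ⟨0⟩) -
    (pullback.snd (AffineSpace (ULift.{u} (Fin 1)) Y ↘ Y) (AffineSpace (ULift.{u} (Fin 1)) Y ↘ Y)).appTop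
      (AffineSpace.coord Y ⟨0⟩)

/-- Its zero ideal is the diagonal's. -/
theorem ofIdealTop_diagEq :
    Scheme.IdealSheafData.ofIdealTop (Ideal.span {diagEq Y}) =
      (pullback.diagonal (AffineSpace (ULift.{u} (Fin 1)) Y ↘ Y)).ker := by
  let f := AffineSpace (ULift.{u} (Fin 1)) Y ↘ Y
  let Δ := pullback.diagonal f
  let J := Scheme.IdealSheafData.ofIdealTop (Ideal.span {diagEq Y})
  have hJ : ∀ U : (pullback f f).affineOpens, J.ideal U =
      Ideal.span {(pullback f f).presheaf.map (homOfLE (le_top : U.1 ≤ ⊤)).op (diagEq Y)} := fun U => by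
    rw [Scheme.IdealSheafData.ofIdealTop_ideal, Ideal.map_span, Set.image_singleton]
  refine le_antisymm ?_ ?_
  · refine Scheme.IdealSheafData.le_ofIdeals_iff.mpr fun U => ?_
    rw [hJ, Ideal.span_le, Set.singleton_subset_iff, SetLike.mem_coe, RingHom.mem_ker]
    have h0 : Δ.appTop (diagEq Y) = 0 := by
      rw [diagEq, map_sub, sub_eq_zero]
      exact ((congr($(Scheme.Hom.comp_appTop Δ (pullback.fst f f)) (AffineSpace.coord Y ⟨0⟩))).symm.trans
        (congr($(congrArg Scheme.Hom.appTop ((pullback.diagonal_fst f).trans (pullback.diagonal_snd f).symm))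
          (AffineSpace.coord Y ⟨0⟩)))).trans
        (congr($(Scheme.Hom.comp_appTop Δ (pullback.snd f f)) (AffineSpace.coord Y ⟨0⟩)))
    refine (ConcreteCategory.congr_hom (Scheme.Hom.naturality Δ (homOfLE (le_top : U.1 ≤ ⊤)).op) (diagEq Y)).trans ?_
    rw [CategoryTheory.comp_apply]
    exact (congrArg _ h0).trans (map_zero _)
  · have hz : J.subschemeι.appTop (diagEq Y) = 0 := by
      refine TopCat.Sheaf.eq_of_locally_eq' (F := J.subscheme.sheaf)
        (fun U : (pullback f f).affineOpens => J.subschemeι ⁻¹ᵁ U.1) ⊤ (fun U => homOfLE le_top) ?_ _ _ fun U => ?_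
      · intro x _
        obtain ⟨V, hV, hxV, -⟩ := exists_isAffineOpen_mem_and_subset
          (X := pullback f f) (x := J.subschemeι x) (U := ⊤) trivial
        exact TopologicalSpace.Opens.mem_iSup.mpr ⟨⟨V, hV⟩, hxV⟩
      · refine Eq.trans ?_ (map_zero _).symm
        refine ((ConcreteCategory.congr_hom
          (Scheme.Hom.naturality J.subschemeι (homOfLE (le_top : U.1 ≤ ⊤)).op) (diagEq Y)).symm.trans ?_)
        rw [CategoryTheory.comp_apply, ← RingHom.mem_ker, Scheme.IdealSheafData.ker_subschemeι_app, hJ]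
        exact Ideal.mem_span_singleton_self _
    have he : J.subschemeι ≫ pullback.fst f f = J.subschemeι ≫ pullback.snd f f := by
      refine AffineSpace.hom_ext (by rw [Category.assoc, Category.assoc]; exact congrArg _ pullback.condition)
        fun i => ?_
      obtain rfl : i = ⟨0⟩ := Subsingleton.elim _ _
      rw [Scheme.Hom.comp_appTop, Scheme.Hom.comp_appTop, CategoryTheory.comp_apply, CategoryTheory.comp_apply,
        ← sub_eq_zero, ← map_sub]
      exact hz
    have hfac : (J.subschemeι ≫ pullback.fst f f) ≫ Δ = J.subschemeι := by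
      apply pullback.hom_ext
      · rw [Category.assoc, pullback.diagonal_fst, Category.comp_id]
      · rw [Category.assoc, pullback.diagonal_snd, Category.comp_id, he]
    exact (Scheme.Hom.le_ker_comp _ Δ).trans (le_of_eq ((congrArg Scheme.Hom.ker hfac).trans J.ker_subschemeι))

/-- An effective Cartier divisor with a global equation has trivial ideal module. -/
theorem nonempty_idealMod_principal {P : Scheme.{u}} (t : Γ(P, ⊤))
    (hI : BlowUp.IsEffCartierIdeal (Scheme.IdealSheafData.ofIdealTop (Ideal.span {t}))) :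
    Nonempty (ClSub.idealMod (Scheme.IdealSheafData.ofIdealTop (Ideal.span {t})) ≅ Coh.structureModule P) := by
  let J := Scheme.IdealSheafData.ofIdealTop (Ideal.span {t})
  let O := Coh.structureModule P
  let m : O ⟶ O := StabLib.smulHom O t
  have hJ : ∀ U : P.affineOpens, J.ideal U =
      Ideal.span {P.presheaf.map (homOfLE (le_top : U.1 ≤ ⊤)).op t} := fun U => by
    rw [Scheme.IdealSheafData.ofIdealTop_ideal, Ideal.map_span, Set.image_singleton]
  have hm : m ≫ ClSub.toSubscheme J = 0 := by
    refine DefClassLib.hom_ext_affines fun V r => ?_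
    refine Eq.trans ?_ (Eq.refl (0 : Γ(ClSub.quotMod J, V.1)))
    exact (IntMultLib.toSubscheme_app_eq_zero_iff J V _).mpr
      (by rw [hJ]; exact Ideal.mem_span_singleton'.mpr ⟨r, (mul_comm _ _)⟩)
  let φ : O ⟶ ClSub.idealMod J := kernel.lift _ m hm
  haveI : Epi φ := by
    refine DefClassLib.epi_of_affines φ fun V σ => ?_
    have hσ : (show Γ(P, V.1) from (ClSub.idealModι J).app V.1 σ) ∈ J.ideal V :=
      (IntMultLib.toSubscheme_app_eq_zero_iff J V _).mp
        (ConcreteCategory.congr_hom (congrArg (fun ψ : ClSub.idealMod J ⟶ ClSub.quotMod J => ψ.app V.1)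
          (kernel.condition (ClSub.toSubscheme J))) σ)
    rw [hJ] at hσ
    obtain ⟨r, hr⟩ := Ideal.mem_span_singleton'.mp hσ
    refine ⟨r, IntMultLib.idealModι_app_injective J V.1 ?_⟩
    exact (congr(Scheme.Modules.Hom.app $(kernel.lift_ι _ m hm) V.1 r)).trans ((mul_comm _ _).trans hr)
  haveI : IsIso φ := CohCmpLib.isIso_of_epi_rank_one
    ((CohCmpLib.invertible_iff_rank_one _).1 (CurvLib.isInvertible_structureModule))
    ((CohCmpLib.invertible_iff_rank_one _).1 (IntMultLib.isInvertible_idealMod J hI)) φ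
  exact ⟨(asIso φ).symm⟩

/-- The shriek of `O` along the diagonal of the affine line. -/
theorem nonempty_shriek_affineLine_diag [IsNoetherian Y] :
    letI f := AffineSpace (ULift.{u} (Fin 1)) Y ↘ Y
    letI i := (pullback.diagonal f).ker.subschemeι
    ∀ [DCoh.HasRpush i] (h : DCoh.RpushPreservesQCoh i)
      (ai : DCoh.DQCoh (pullback f f) ⥤ DCoh.DQCoh _) (_ : DCoh.RpushQ i h ⊣ ai)
      (O : DCoh.DQCoh (pullback f f)), Nonempty (O.obj ≅ DCoh.inD _ (Coh.structureModule _)) →
      Nonempty ((ai.obj O).obj ≅ (DerivedCategory.Q.obj (unitCx _))⟦(-1 : ℤ)⟧) := by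
  intro _ h ai adj O hO
  let f := AffineSpace (ULift.{u} (Fin 1)) Y ↘ Y
  let I := (pullback.diagonal f).ker
  let P := pullback f f
  haveI : SmoothOfRelativeDimension 1 f := smoothRel_affineLine Y
  haveI : SmoothOfRelativeDimension 1 (pullback.snd f f) :=
    haveI := smoothOfRelativeDimension_isStableUnderBaseChange.{u} 1
    MorphismProperty.pullback_snd (P := @SmoothOfRelativeDimension 1) _ _ inferInstance
  haveI : LocallyOfFiniteType f := inferInstance
  haveI : Smooth f := SmoothOfRelativeDimension.smooth 1 f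
  haveI : IsLocallyNoetherian P := LocallyOfFiniteType.isLocallyNoetherian (pullback.snd f f ≫ f)
  haveI : CompactSpace P := QuasiCompact.compactSpace_of_compactSpace (pullback.snd f f ≫ f)
  haveI : IsNoetherian P := ⟨⟩
  have hI : BlowUp.IsEffCartierIdeal I :=
    (S15990.result (pullback.snd f f) (pullback.diagonal f) (pullback.diagonal_snd f)).1
  obtain ⟨eI⟩ := nonempty_idealMod_principal (diagEq Y) (by rw [ofIdealTop_diagEq]; exact hI)
  rw [ofIdealTop_diagEq] at eI
  haveI : EnoughInjectives P.Modules := IsGrothendieckAbelian.enoughInjectives.{u}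
  haveI : Dual3.HasHomO I.subschemeι := S3630.result _ _ _
  have hL : ClSub.IsInverseOf (Coh.structureModule P) (ClSub.idealMod I) :=
    ⟨HilbPolyLib.congrRight _ eI ≪≫ PicPnLib.unitRight _⟩
  obtain ⟨eO⟩ := hO
  have hb : Dual3.IsBddBelowQ P O := by
    haveI : (DCoh.inD P (Coh.structureModule P)).IsGE 0 := inferInstance
    exact ⟨0, DerivedCategory.TStructure.t.isGE_of_iso eO.symm 0⟩
  obtain ⟨ea⟩ := S3634.result _ _ I.subschemeι h ai adj
  obtain ⟨hne, ⟨e1⟩⟩ := S3639.result P I hI _ hL ((Dual3.bddToPlus P).obj ⟨O, hb⟩) ⟨eO⟩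
  let K := ((Dual3.RHomOPlus I.subschemeι).obj ((Dual3.bddToPlus P).obj ⟨O, hb⟩)).obj
  haveI : K.IsGE 1 := (DerivedCategory.isGE_iff K _).2 fun j hj => hne j (by omega)
  haveI : K.IsLE 1 := (DerivedCategory.isLE_iff K _).2 fun j hj => hne j (by omega)
  obtain ⟨es⟩ := DerLib.Devissage.nonempty_iso_single K 1
  exact ⟨ea.app ⟨O, hb⟩ ≪≫ es ≪≫
    (DerivedCategory.singleFunctor _ 1).mapIso (e1 ≪≫ KFlatLib.pullUnitIso I.subschemeι) ≪≫
    (((DerivedCategory.singleFunctors _).shiftIso (-1 : ℤ) 1 0 (by omega)).app _).symm ≪≫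
    (shiftFunctor _ (-1 : ℤ)).mapIso ((DerivedCategory.singleFunctorIsoCompQ _ 0).app _)⟩

end ShriekLib
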