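import Groth.Agent.ShriekLib.Perfect
import Groth.Agent.KoszAtLib.Basic
import Groth.Agent.RegImmKindLib.Mor
import Groth.Agent.RegImmKindLib.Near
import Groth.Agent.ExtTopLib.Top
import Groth.Agent.MiscFlat6.QALocus
import Groth.Agent.FittLib.OmegaFitt
import Groth.Prelude.Def_Dual3

/-!
# `f^!O` of a local complete intersection morphism is invertible
-/

set_option autoImplicit false
set_option linter.style.haveILetI false
set_option linter.unusedSectionVars false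
set_option backward.isDefEq.respectTransparency false
set_option backward.isDefEq.respectTransparency.types false
set_option maxHeartbeats 1000000
set_option synthInstance.maxHeartbeats 200000

universe u

open CategoryTheory CategoryTheory.Limits AlgebraicGeometry
open Groth.Agent Groth.Agent.FMTransLib Groth.Agent.PerfDualLib Groth.Agent.FMKLib

attribute [local instance] HasDerivedCategory.standard

noncomputable section

namespace ShriekLib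

theorem lciMor_of_isLCIMor {X Y : Scheme.{u}} (f : X ⟶ Y) (hf : Dual3.IsLCIMor f) : KoszAtLib.LCIMor f := by
  rw [HasRingHomProperty.iff_exists_appLE (P := KoszAtLib.LCIMor) KoszAtLib.lciHom_stableUnderCompositionSource]
  intro x
  obtain ⟨U, V, e, hx, h⟩ := hf x
  exact ⟨V, U, hx, e, h⟩

/-- Near a point, a Koszul-regular closed immersion into a Noetherian scheme is regular of constant codimension. -/
theorem exists_codim_restrict {Z X : Scheme.{u}} [IsLocallyNoetherian X] (i : Z ⟶ X) [IsClosedImmersion i]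
    (h : RegImm.IsRegularImmersion .koszul i) (z : Z) :
    ∃ (U : X.Opens) (c : ℕ), i z ∈ U ∧ IsAffineOpen U ∧
      RegImm.IsRegularImmersionOfCodim RegImm.Kind.regular c (i ∣_ U) := by
  obtain ⟨⟨U, hU⟩, hzU, -, rs, hrs, hker⟩ := (RegImmKindLib.isRegularImmersionAt_iff i .regular z).2
    ((RegImmKindLib.isRegularImmersionAt_iff i .koszul z).1 (h.2 z))
  haveI : IsClosedImmersion (i ∣_ U) :=
    MorphismProperty.of_isPullback (isPullback_morphismRestrict i U).flip inferInstance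
  refine ⟨U, rs.length, hzU, hU, inferInstance, fun w => ⟨⟨⊤, @isAffineOpen_top _ hU⟩, trivial,
    MorphismProperty.of_isPullback (isPullback_morphismRestrict _ _).flip inferInstance, ?_⟩⟩
  have key : ∀ U₁ : X.Opens, U₁ = U → ∃ rs' : List Γ(X, U₁), rs'.length = rs.length ∧
      RegImm.Kind.regular.Seq Γ(X, U₁) rs' ∧ RingHom.ker (i.app U₁).hom = Ideal.ofList rs' := by
    rintro _ rfl
    exact ⟨rs, rfl, hrs, hker⟩
  obtain ⟨rs', hl, hrs', hker'⟩ := key (U.ι ''ᵁ ⊤) U.ι_image_top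
  exact ⟨rs', hl, hrs', (RegImmKindLib.ker_app_restrict i U ⊤).trans hker'⟩

/-- An invertible module restricts to the structure sheaf on a small open. -/
theorem nonempty_restrictD_inD {X : Scheme.{u}} (L : X.Modules) (U : X.Opens)
    (e : L.restrict U.ι ≅ Coh.structureModule (U : Scheme.{u})) (n : ℤ) :
    Nonempty ((DCoh.restrictD U.ι).obj ((DCoh.inD X L)⟦n⟧) ≅
      (DCoh.inD (U : Scheme.{u}) (Coh.structureModule (U : Scheme.{u})))⟦n⟧) :=
  ⟨((DCoh.restrictD U.ι).commShiftIso n).app _ ≪≫ (shiftFunctor _ n).mapIso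
    (((Scheme.Modules.restrictFunctor U.ι).mapDerivedCategorySingleFunctor 0).app L ≪≫
      (DerivedCategory.singleFunctor _ 0).mapIso e)⟩

/-- A trivialisation restricts to smaller opens. -/
theorem nonempty_restrict_le {X : Scheme.{u}} (M : X.Modules) {S B : X.Opens} (h : S ≤ B)
    (e : M.restrict B.ι ≅ Coh.structureModule (B : Scheme.{u})) :
    Nonempty (M.restrict S.ι ≅ Coh.structureModule (S : Scheme.{u})) := by
  obtain ⟨o⟩ := MiscFlat6.nonempty_restrict_structureModule (X.homOfLE h)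
  exact ⟨((Scheme.Modules.restrictFunctorCongr (X.homOfLE_ι h).symm).app M ≪≫
    (Scheme.Modules.restrictFunctorComp (X.homOfLE h) B.ι).app M) ≪≫
    (Scheme.Modules.restrictFunctor (X.homOfLE h)).mapIso e ≪≫ o⟩

/-- `f^!O` of a local complete intersection morphism is invertible. -/
theorem isInvertibleD_shriek_lci {X Y Xb : Scheme.{u}} [IsNoetherian Y] (f : X ⟶ Y) (hf : Dual3.IsLCIMor f)
    (j : X ⟶ Xb) (p : Xb ⟶ Y) [IsOpenImmersion j] [IsProper p] (hjp : j ≫ p = f)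
    [DCoh.HasRpush p] (hp : DCoh.RpushPreservesQCoh p) (a : DCoh.DQCoh Y ⥤ DCoh.DQCoh Xb)
    (adj : DCoh.RpushQ p hp ⊣ a) (O : DCoh.DQCoh Y) (hO : Nonempty (O.obj ≅ DCoh.inD Y (Coh.structureModule Y))) :
    Dual3.IsInvertibleD ((DCoh.restrictD j).obj (a.obj O).obj) := by
  intro x
  haveI := isNoetherian_of_proper p
  haveI : CompactSpace X := QuasiCompact.compactSpace_of_compactSpace j
  haveI : IsLocallyNoetherian X := isLocallyNoetherian_of_isOpenImmersion j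
  haveI : IsNoetherian X := ⟨⟩
  haveI : LocallyOfFiniteType f := by rw [← hjp]; infer_instance
  obtain ⟨W, hW, hxW, -⟩ := exists_isAffineOpen_mem_and_subset (x := f x) (U := ⊤) trivial
  obtain ⟨V, hV, hxV, hVW⟩ := exists_isAffineOpen_mem_and_subset (x := x) (U := f ⁻¹ᵁ W) hxW
  have hVW' : V ≤ f ⁻¹ᵁ W := hVW
  haveI : IsAffine (W : Scheme.{u}) := hW
  haveI : IsAffine (V : Scheme.{u}) := hV
  haveI : IsLocallyNoetherian (W : Scheme.{u}) := isLocallyNoetherian_of_isOpenImmersion W.ι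
  haveI : IsNoetherian (W : Scheme.{u}) := ⟨⟩
  let g := f.resLE W V hVW'
  have hgι : g ≫ W.ι = V.ι ≫ f := Scheme.Hom.resLE_comp_ι f hVW'
  haveI : LocallyOfFiniteType g := by
    haveI : LocallyOfFiniteType (g ≫ W.ι) := by rw [hgι]; infer_instance
    exact locallyOfFiniteType_of_comp g W.ι
  haveI : Nontrivial Γ((W : Scheme.{u}), ⊤) :=
    ((W : Scheme.{u}).presheaf.germ ⊤ (g ⟨x, hxV⟩) trivial).hom.domain_nontrivial
  haveI : LocallyOfFiniteType (g ≫ (W : Scheme.{u}).isoSpec.hom) := inferInstance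
  obtain ⟨n, U, k, hU, _, hk⟩ :=
    Dual3Lib.exists_chart (A := Γ((W : Scheme.{u}), ⊤)) (g ≫ (W : Scheme.{u}).isoSpec.hom)
  haveI := hU
  let π := CohB1.ProjSpace.toSpec n Γ((W : Scheme.{u}), ⊤) ≫ (W : Scheme.{u}).isoSpec.inv
  haveI : SmoothOfRelativeDimension n (CohB1.ProjSpace.toSpec n Γ((W : Scheme.{u}), ⊤)) :=
    OmegaPnLib.smoothRel_projSpace _ n
  haveI : IsProper (CohB1.ProjSpace.toSpec n Γ((W : Scheme.{u}), ⊤)) := (KoszOrthLib.projSpace_hyps n _).1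
  haveI : IsProper π := inferInstance
  haveI : SmoothOfRelativeDimension n π := by
    have : SmoothOfRelativeDimension (n + 0) (CohB1.ProjSpace.toSpec n Γ((W : Scheme.{u}), ⊤) ≫
        (W : Scheme.{u}).isoSpec.inv) := inferInstance
    simpa using this
  haveI := isNoetherian_of_proper π
  haveI : IsLocallyNoetherian (U : Scheme.{u}) := isLocallyNoetherian_of_isOpenImmersion U.ι
  have hkg : k ≫ U.ι ≫ π ≫ W.ι = V.ι ≫ f := by
    simp only [π, Category.assoc]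
    rw [reassoc_of% hk, Iso.hom_inv_id_assoc, hgι]
  haveI : Smooth π := SmoothOfRelativeDimension.smooth n π
  haveI : Smooth (U.ι ≫ π ≫ W.ι) := inferInstance
  have hreg₀ : RegImm.IsRegularImmersion .koszul k := by
    refine KoszAtLib.koszul_of_immersion_smooth k (U.ι ≫ π ≫ W.ι) ?_
    rw [hkg]
    exact MorphismProperty.comp_mem _ _ _ (KoszAtLib.lciMor_of_smooth V.ι) (lciMor_of_isLCIMor f hf)
  obtain ⟨U₁, c, hxU₁, hU₁, hreg⟩ := exists_codim_restrict k hreg₀ ⟨x, hxV⟩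
  let k₁ := k ∣_ U₁
  haveI : IsClosedImmersion k₁ :=
    MorphismProperty.of_isPullback (isPullback_morphismRestrict k U₁).flip inferInstance
  let v : (k ⁻¹ᵁ U₁ : Scheme.{u}) ⟶ X := (k ⁻¹ᵁ U₁).ι ≫ V.ι
  let jP := U₁.ι ≫ U.ι
  let h := jP ≫ π
  haveI : SmoothOfRelativeDimension n h := by
    have : SmoothOfRelativeDimension (0 + (0 + n)) (U₁.ι ≫ U.ι ≫ π) := inferInstance
    simpa [h, jP] using this
  have hk₁ : k₁ ≫ jP ≫ π ≫ W.ι = v ≫ f := by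
    simp only [k₁, jP, v, Category.assoc]
    rw [morphismRestrict_ι_assoc, hkg]
  haveI : IsAffine (U₁ : Scheme.{u}) := hU₁
  haveI : IsLocallyNoetherian (U₁ : Scheme.{u}) := isLocallyNoetherian_of_isOpenImmersion U₁.ι
  haveI : IsNoetherian (U₁ : Scheme.{u}) := ⟨⟩
  haveI := isNoetherian_of_proper k₁
  -- the two line bundles
  have hΩ : FlatMod.IsFinLocFreeOfRank n (Omega.sheaf h) := CohCmpLib.rank_omega h n
  haveI : Coh.IsQCoh (Omega.sheaf h) := FittLib.isQCoh_omega h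
  let L := ExtTopLib.ext (Omega.sheaf h) n
  have hLext : ExtPow.IsExtPow n (Omega.sheaf h) L := ExtPowLib.isExtPow_ext _ n
  have hLi : PicF.IsInvertible L := ExtTopLib.isInvertible_ext hΩ
  haveI : Coh.IsQCoh (Omega.conormal k₁) := FLI.isQCoh_conormal
  obtain ⟨L', -, hL'⟩ := ExtPowLib.exists_isExtPow (Omega.conormal k₁) c
  have hLi' : PicF.IsInvertible L' := FLI.isInvertible_det (ι := k₁) hL' (FLI.exists_chart hreg)
  obtain ⟨e⟩ := MiscFlat6.nonempty_dualIso hLi'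
  let M := MiscFlat6.dual L'
  let eM : CohCmpLib.homMod L' (Coh.structureModule _) ≅ M :=
    FLI.homModIso e _ ≪≫ KFlatLib.tensSwap (Coh.structureModule _) M ≪≫ KFlatLib.tensUnitIso _
  have hperf : MoreMor.IsPerfectMor k₁ :=
    PerfModLib.perfectMor_of_lciMor k₁ (KoszAtLib.lciMor_of_regularImmersion k₁
      (KoszAtLib.koszul_of_regular k₁ ⟨hreg.1, fun z => by
        obtain ⟨A, hA, hcl, rs, -, hrs, hker⟩ := hreg.2 z
        exact ⟨A, hA, hcl, rs, hrs, hker⟩⟩))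
  haveI := DCohRestrLib.hasRpush π
  haveI := DCohRestrLib.hasRpush k₁
  haveI := KFlatLib.hasLpull k₁
  obtain ⟨aπ, ⟨adjπ⟩⟩ := exists_rightAdjoint π (hpush π)
  obtain ⟨ak, ⟨adjk⟩⟩ := exists_rightAdjoint k₁ (hpush k₁)
  obtain ⟨cF⟩ := nonempty_shriek_factor f j p hjp hp a adj v W.ι k₁ jP π hk₁ (hpush k₁) ak adjk (hpush π) aπ adjπ
  let OW : DCoh.DQCoh (W : Scheme.{u}) := (restrictQ W.ι).obj O
  obtain ⟨eO⟩ := hO
  haveI := KFlatLib.hasLpull W.ι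
  haveI := DCohRestrLib.hasRpush W.ι
  have hOW : Nonempty (OW.obj ≅ DCoh.inD _ (Coh.structureModule (W : Scheme.{u}))) :=
    ⟨(DualFMLib.lpullRestrIso W.ι).symm.app O.obj ≪≫
      (DCoh.Lpull W.ι).mapIso (eO ≪≫ DualFMLib.inDUnit Y) ≪≫ KiehlLib.lpullUnitIso W.ι ≪≫
        (DualFMLib.inDUnit _).symm⟩
  obtain ⟨eh⟩ := nonempty_shriek_smooth_structureSheaf n h jP π rfl (hpush π) aπ adjπ OW hOW L hLext
  let O₁ : DCoh.DQCoh (U₁ : Scheme.{u}) :=
    ⟨DCoh.inD _ (Coh.structureModule _), PerfBaseLib.isQCohD_inD _ QCohLib.isQCoh_unit⟩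
  obtain ⟨er⟩ := nonempty_shriek_regular k₁ hreg L' hL' (hpush k₁) ak adjk O₁ ⟨Iso.refl _⟩
  obtain ⟨Ek, hEk, ⟨eEk⟩⟩ := exists_kFlat_model (ak.obj O₁).obj
  haveI := KFlatLib.hasLTensorCx Ek
  obtain ⟨hcop⟩ : PLift (∀ J : Type u, PreservesColimitsOfShape (Discrete J) ak) :=
    ⟨KoszOrthLib.preservesCoproducts_rightAdjoint k₁ (hpush k₁)
      (fun K hK => Dual3Lib.isPerfect_rpush_of_perfectMor k₁ hperf hK) ak adjk⟩
  obtain ⟨ek⟩ :=
    Dual3Lib.nonempty_rightAdjoint_iso_tensor k₁ (hpush k₁) ak adjk hcop O₁ ⟨Iso.refl _⟩ Ek ⟨eEk⟩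
  haveI := KFlatLib.hasLpull (𝟙 (k ⁻¹ᵁ U₁ : Scheme.{u}))
  haveI := DCohRestrLib.hasRpush (𝟙 (k ⁻¹ᵁ U₁ : Scheme.{u}))
  obtain ⟨i₁⟩ := Dual3Lib.nonempty_lpull_id (𝟙 (k ⁻¹ᵁ U₁ : Scheme.{u})) rfl
  have hOb : Dual3.IsBddBelowQ Y O := ⟨0, DerivedCategory.TStructure.t.isGE_of_iso eO.symm 0⟩
  let E₀ := (DCoh.restrictD j).obj (a.obj O).obj
  let eAll : (DCoh.restrictD v).obj E₀ ≅
      (DCoh.LTensorCx Ek).obj ((DCoh.Lpull k₁).obj ((DCoh.inD _ L)⟦(n : ℤ)⟧)) :=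
    (ObjectProperty.ι _).mapIso (cF.app ⟨O, hOb⟩) ≪≫
      ((DualFMLib.lpullRestrIso (𝟙 _)).symm ≪≫ i₁).app _ ≪≫ ek.app _ ≪≫
      (DCoh.LTensorCx Ek).mapIso ((DCoh.Lpull k₁).mapIso eh)
  -- trivialisations near the point
  let z : (k ⁻¹ᵁ U₁ : Scheme.{u}) := ⟨⟨x, hxV⟩, hxU₁⟩
  obtain ⟨A, hzA, ⟨eA⟩⟩ := hLi (k₁ z)
  obtain ⟨B, hzB, ⟨eB⟩⟩ := (MiscFlat6.dual_isInvertible hLi') z
  let S : (k ⁻¹ᵁ U₁ : Scheme.{u}).Opens := k₁ ⁻¹ᵁ A ⊓ B
  haveI : IsLocallyNoetherian (S : Scheme.{u}) := isLocallyNoetherian_of_isOpenImmersion S.ι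
  haveI : IsLocallyNoetherian (A : Scheme.{u}) := isLocallyNoetherian_of_isOpenImmersion A.ι
  haveI : IsNoetherian (S : Scheme.{u}) :=
    { toCompactSpace := isCompact_iff_compactSpace.mp (TopologicalSpace.NoetherianSpace.isCompact _) }
  haveI : IsNoetherian (A : Scheme.{u}) :=
    { toCompactSpace := isCompact_iff_compactSpace.mp (TopologicalSpace.NoetherianSpace.isCompact _) }
  let kA : (S : Scheme.{u}) ⟶ (A : Scheme.{u}) := k₁.resLE A S inf_le_left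
  haveI := KFlatLib.hasLpull S.ι
  haveI := KFlatLib.hasLpull A.ι
  haveI := KFlatLib.hasLpull kA
  haveI := KFlatLib.hasLpull (S.ι ≫ k₁)
  haveI := KFlatLib.hasLpull (kA ≫ A.ι)
  haveI := DCohRestrLib.hasRpush S.ι
  haveI := DCohRestrLib.hasRpush A.ι
  let EkS := (KFlatLib.pullCx S.ι).obj Ek
  haveI := KFlatLib.hasLTensorCx EkS
  obtain ⟨tS⟩ := Dual3Lib.nonempty_lTensor_lpull S.ι Ek hEk
  obtain ⟨l₁⟩ := KFlatLib.lpull_comp S.ι k₁
  obtain ⟨l₂⟩ := KFlatLib.lpull_comp kA A.ι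
  obtain ⟨l₃⟩ := nonempty_lpull_congrNat (f := S.ι ≫ k₁) (f' := kA ≫ A.ι)
    (Scheme.Hom.resLE_comp_ι k₁ _).symm
  obtain ⟨rA⟩ := nonempty_restrictD_inD L A eA (n : ℤ)
  obtain ⟨eS₀⟩ := nonempty_restrict_le M (inf_le_right : S ≤ B) eB
  obtain ⟨rB⟩ := nonempty_restrictD_inD M S eS₀ (-(c : ℤ))
  obtain ⟨_, -⟩ := DualFMLib.exists_isTriangulated_lpull kA
  let u₁ : (DCoh.Lpull S.ι).obj ((DCoh.Lpull k₁).obj ((DCoh.inD _ L)⟦(n : ℤ)⟧)) ≅
      (DCoh.inD (S : Scheme.{u}) (Coh.structureModule _))⟦(n : ℤ)⟧ :=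
    (l₁ ≪≫ l₃ ≪≫ l₂.symm).app _ ≪≫
      (DCoh.Lpull kA).mapIso ((DualFMLib.lpullRestrIso A.ι).app _ ≪≫ rA ≪≫
        (shiftFunctor _ (n : ℤ)).mapIso (DualFMLib.inDUnit _)) ≪≫
      ((DCoh.Lpull kA).commShiftIso (n : ℤ)).app _ ≪≫
      (shiftFunctor _ (n : ℤ)).mapIso (KiehlLib.lpullUnitIso kA ≪≫ (DualFMLib.inDUnit _).symm)
  let u₂ : DerivedCategory.Q.obj EkS ≅ (DerivedCategory.Q.obj (unitCx (S : Scheme.{u})))⟦-(c : ℤ)⟧ :=
    (KFlatLib.lpullObjIso S.ι Ek hEk).symm ≪≫ (DualFMLib.lpullRestrIso S.ι).app _ ≪≫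
      (DCoh.restrictD S.ι).mapIso (eEk ≪≫ er ≪≫
        (shiftFunctor _ (-(c : ℤ))).mapIso ((DerivedCategory.singleFunctor _ 0).mapIso eM)) ≪≫ rB ≪≫
      (shiftFunctor _ (-(c : ℤ))).mapIso (DualFMLib.inDUnit _)
  haveI := KFlatLib.hasLTensorCx (unitCx (S : Scheme.{u}))
  obtain ⟨sS⟩ := nonempty_ltCx_shift EkS (unitCx (S : Scheme.{u})) (-(c : ℤ)) u₂
  obtain ⟨uu⟩ := nonempty_ltCx_unit (X := (S : Scheme.{u}))
  let T : X.Opens := (S.ι ≫ v).opensRange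
  let σ := (S.ι ≫ v).isoOpensRange
  haveI := DCohRestrLib.hasRpush (S.ι ≫ v)
  haveI := DCohRestrLib.hasRpush v
  haveI := DCohRestrLib.hasRpush T.ι
  haveI := KFlatLib.hasLpull T.ι
  haveI := KFlatLib.hasLpull v
  haveI := KFlatLib.hasLpull σ.inv
  haveI := KFlatLib.hasLpull (S.ι ≫ v)
  haveI := KFlatLib.hasLpull (σ.inv ≫ S.ι ≫ v)
  obtain ⟨l₄⟩ := KFlatLib.lpull_comp S.ι v
  obtain ⟨l₅⟩ := KFlatLib.lpull_comp σ.inv (S.ι ≫ v)
  obtain ⟨l₆⟩ := nonempty_lpull_congrNat (f := σ.inv ≫ S.ι ≫ v) (f' := T.ι) (Scheme.Hom.isoOpensRange_inv_comp _)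
  obtain ⟨_, -⟩ := DualFMLib.exists_isTriangulated_lpull σ.inv
  let m : ℤ := (n : ℤ) + -(c : ℤ)
  let eS : (DCoh.Lpull (S.ι ≫ v)).obj E₀ ≅ (DerivedCategory.Q.obj (unitCx (S : Scheme.{u})))⟦m⟧ :=
    l₄.symm.app E₀ ≪≫ (DCoh.Lpull S.ι).mapIso ((DualFMLib.lpullRestrIso v).app E₀ ≪≫ eAll) ≪≫
      tS.app _ ≪≫ (DCoh.LTensorCx EkS).mapIso u₁ ≪≫ (sS ≪≫ Functor.isoWhiskerRight uu _).app _ ≪≫
      ((shiftFunctorAdd' (DCoh.D (S : Scheme.{u})) (n : ℤ) (-(c : ℤ)) m rfl).app _).symm ≪≫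
      (shiftFunctor _ m).mapIso (DualFMLib.inDUnit _)
  exact ⟨T, m, ⟨⟨z, hzA, hzB⟩, rfl⟩,
    ⟨(DualFMLib.lpullRestrIso T.ι).symm.app E₀ ≪≫ l₆.symm.app E₀ ≪≫ l₅.symm.app E₀ ≪≫
      (DCoh.Lpull σ.inv).mapIso eS ≪≫ ((DCoh.Lpull σ.inv).commShiftIso m).app _ ≪≫
      (shiftFunctor _ m).mapIso (KiehlLib.lpullUnitIso σ.inv ≪≫ (DualFMLib.inDUnit _).symm)⟩⟩

end ShriekLib
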