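import Groth.Agent.ShriekLib.Perfect

/-!
# `f^! = Lf^* ⊗ f^!O` for perfect `f`
-/

set_option autoImplicit false
set_option linter.style.haveILetI false
set_option linter.unusedSectionVars false
set_option backward.isDefEq.respectTransparency false
set_option backward.isDefEq.respectTransparency.types false
set_option maxHeartbeats 1000000
set_option synthInstance.maxHeartbeats 200000

universe u

open CategoryTheory CategoryTheory.Limits AlgebraicGeometry CategoryTheory.Pretriangulated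
open Groth.Agent Groth.Agent.FMTransLib Groth.Agent.PerfDualLib Groth.Agent.FMKLib

attribute [local instance] HasDerivedCategory.standard

noncomputable section

namespace ShriekLib

/-- If both functors invert `f`, invertibility at the source and at the target agree. -/
theorem isIso_app_iff_of_map {C D : Type*} [Category C] [Category D] {F G : C ⥤ D} (θ : F ⟶ G) {K L : C}
    (f : K ⟶ L) [IsIso (F.map f)] [IsIso (G.map f)] : IsIso (θ.app K) ↔ IsIso (θ.app L) := by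
  have h := θ.naturality f
  constructor
  · intro _
    rw [show θ.app L = inv (F.map f) ≫ θ.app K ≫ G.map f by rw [← h, IsIso.inv_hom_id_assoc]]
    infer_instance
  · intro _
    rw [show θ.app K = F.map f ≫ θ.app L ≫ inv (G.map f) by rw [← Category.assoc, h, Category.assoc, IsIso.hom_inv_id, Category.comp_id]]
    infer_instance

/-- The local step: a transformation to `f^!|_V` invertible at shifts of `O` is invertible. -/
theorem isIso_local {Y V : Scheme.{u}} [IsNoetherian Y] [IsNoetherian V] (W : Y.Opens) (hW : IsAffineOpen W)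
    (g : V ⟶ (W : Scheme.{u})) [DCoh.HasLpull g] (E : Cx V) [DCoh.HasLTensorCx E] (b : ℤ)
    (hE : (DerivedCategory.Q.obj E).IsLE b) (A₁ A₂ : DCoh.DQCoh Y ⥤ DCoh.D V)
    (e₁ : Dual3.bddι Y ⋙ A₁ ≅
      Dual3.bddι Y ⋙ restrictQ W.ι ⋙ ObjectProperty.ι _ ⋙ DCoh.Lpull g ⋙ DCoh.LTensorCx E)
    (e₂ : Dual3.bddι Y ⋙ A₂ ≅
      Dual3.bddι Y ⋙ restrictQ W.ι ⋙ ObjectProperty.ι _ ⋙ DCoh.Lpull g ⋙ DCoh.LTensorCx E)
    (N : ℤ) (hN : ∀ (K : DCoh.DQCoh Y) (c : ℤ), K.obj.IsGE c → (A₂.obj K).IsGE (c - N))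
    (θ : Dual3.bddι Y ⋙ A₁ ⟶ Dual3.bddι Y ⋙ A₂) (O : DCoh.DQCoh Y)
    (hO : Nonempty (O.obj ≅ DCoh.inD Y (Coh.structureModule Y)))
    (hθ : ∀ (n : ℤ) (h : Dual3.IsBddBelowQ Y (O⟦n⟧)), IsIso (θ.app ⟨O⟦n⟧, h⟩)) : IsIso θ := by
  haveI : IsAffine (W : Scheme.{u}) := hW
  haveI : IsLocallyNoetherian (W : Scheme.{u}) := isLocallyNoetherian_of_isOpenImmersion W.ι
  haveI : IsNoetherian (W : Scheme.{u}) := ⟨⟩
  haveI := DCohRestrLib.hasRpush W.ι
  haveI : QuasiCompact W.ι := inferInstance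
  let Φ : DCoh.DQCoh (W : Scheme.{u}) ⥤ DCoh.D V := ObjectProperty.ι _ ⋙ DCoh.Lpull g ⋙ DCoh.LTensorCx E
  haveI := DCohRestrLib.hasRpush g
  let adjg := KFlatLib.lpullRpushAdj g
  obtain ⟨_, _⟩ := QRlimLib.exists_isTriangulated_rpush g
  letI := adjg.leftAdjointCommShift ℤ
  haveI := adjg.commShift_of_rightAdjoint ℤ
  haveI : (DCoh.Lpull g).IsTriangulated := adjg.isTriangulated_leftAdjoint
  haveI : ∀ i : ℤ, (Φ ⋙ DerivedCategory.homologyFunctor V.Modules i).IsHomological := fun i => by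
    haveI := Dual3Lib.isHomological_lTensor E i
    exact inferInstanceAs (((DCoh.IsQCohD (X := (W : Scheme.{u}))).ι ⋙ DCoh.Lpull g) ⋙
      (DCoh.LTensorCx E ⋙ DerivedCategory.homologyFunctor V.Modules i)).IsHomological
  haveI := BidualSchLib.hasRSheafHom E
  haveI : PreservesColimitsOfSize.{u, u} (DCoh.Lpull g) := adjg.leftAdjoint_preservesColimits
  haveI : PreservesColimitsOfSize.{u, u} (DCoh.LTensorCx E) :=
    (DCoh.RSheafHomAdj E).leftAdjoint_preservesColimits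
  haveI : ∀ J : Type u, PreservesColimitsOfShape (Discrete J) Φ := fun J => inferInstance
  have hle : ∀ (K : DCoh.DQCoh (W : Scheme.{u})) (c : ℤ), K.obj.IsLE c → (Φ.obj K).IsLE (c + b) :=
    fun K c h => by
      haveI := h
      haveI := hE
      haveI := TensorPCLib.isLE_lpull g K.obj c
      exact isLE_lTensor_of_isLE E ((DCoh.Lpull g).obj K.obj) b c
  -- the direct image on bounded below objects
  let Rj := DCoh.RpushQ W.ι (hpush W.ι)
  have hR : ∀ (K : DCoh.DQCoh (W : Scheme.{u})) (c : ℤ), K.obj.IsGE c → (Rj.obj K).obj.IsGE c := fun K c h => by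
    haveI := h
    exact QRlimLib.rpush_isGE W.ι K.obj c
  let R' : (Dual3.IsBddBelowQ (W : Scheme.{u})).FullSubcategory ⥤ (Dual3.IsBddBelowQ Y).FullSubcategory :=
    ObjectProperty.lift _ (Dual3.bddι _ ⋙ Rj) fun K => by
      obtain ⟨c, hc⟩ := K.property
      exact ⟨c, hR K.obj c hc⟩
  let c₀ : Rj ⋙ restrictQ W.ι ≅ 𝟭 _ :=
    liftIso (Functor.isoWhiskerLeft (ObjectProperty.ι _) (counitIso W.ι) ≪≫ Functor.rightUnitor _)
  have hge : ∀ (K : DCoh.DQCoh (W : Scheme.{u})) (c : ℤ), K.obj.IsGE c → (Φ.obj K).IsGE (c - N) := fun K c h => by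
    haveI : DerivedCategory.TStructure.t.IsGE ((Dual3.bddι Y ⋙ A₂).obj (R'.obj ⟨K, ⟨c, h⟩⟩)) (c - N) :=
      hN _ c (hR K c h)
    exact DerivedCategory.TStructure.t.isGE_of_iso (e₂.app (R'.obj ⟨K, ⟨c, h⟩⟩) ≪≫ Φ.mapIso (c₀.app K)) (c - N)
  let τ : Dual3.bddι _ ⋙ Φ ⟶ Dual3.bddι _ ⋙ Φ :=
    Functor.whiskerLeft (Dual3.bddι _) (Functor.whiskerRight c₀.inv Φ) ≫
      Functor.whiskerLeft R' (e₁.inv ≫ θ ≫ e₂.hom) ≫
      Functor.whiskerLeft (Dual3.bddι _) (Functor.whiskerRight c₀.hom Φ)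
  have hτ : ∀ K, IsIso (τ.app K) ↔ IsIso (θ.app (R'.obj K)) := fun K => by
    change IsIso (Φ.map (c₀.inv.app K.obj) ≫ (e₁.inv.app (R'.obj K) ≫ θ.app (R'.obj K) ≫ e₂.hom.app (R'.obj K)) ≫
      Φ.map (c₀.hom.app K.obj)) ↔ _
    simp only [isIso_comp_left_iff, isIso_comp_right_iff]
  -- the unit
  let adjW := ShriekLib.adjQ W.ι (hpush W.ι)
  have hη : ∀ K : (Dual3.IsBddBelowQ Y).FullSubcategory, ∀ h : Dual3.IsBddBelowQ (W : Scheme.{u}) ((restrictQ W.ι).obj K.obj),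
      IsIso (θ.app K) ↔ IsIso (θ.app (R'.obj ⟨_, h⟩)) := fun K h => by
    let η : K ⟶ R'.obj ⟨_, h⟩ := ObjectProperty.homMk (adjW.unit.app K.obj)
    haveI : IsIso ((restrictQ W.ι).map η.hom) := by
      haveI : IsIso ((DCoh.IsQCohD (X := (W : Scheme.{u}))).ι.map ((restrictQ W.ι).map η.hom)) := by
        haveI := KoszOrthLib.isIso_counit W.ι (KoszOrthLib.restrictRpushAdj W.ι)
        have e : (DCoh.IsQCohD (X := Y)).ι.map (adjW.unit.app K.obj) =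
            (KoszOrthLib.restrictRpushAdj W.ι).unit.app K.obj.obj := by
          refine ((KoszOrthLib.restrictRpushAdj W.ι).map_restrictFullyFaithful_unit_app
            (ObjectProperty.fullyFaithfulι (DCoh.IsQCohD (X := Y)))
            (ObjectProperty.fullyFaithfulι (DCoh.IsQCohD (X := (W : Scheme.{u}))))
            (L := restrictQ W.ι) (R := DCoh.RpushQ W.ι (hpush W.ι))
            (Iso.refl _) (Iso.refl _) K.obj).trans ?_
          simp only [Iso.refl_hom, NatTrans.id_app]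
          erw [CategoryTheory.Functor.map_id, Category.comp_id]
          rfl
        change IsIso ((DCoh.restrictD W.ι).map ((DCoh.IsQCohD (X := Y)).ι.map (adjW.unit.app K.obj)))
        rw [e]
        exact KoszOrthLib.isIso_restrictD_unit W.ι (KoszOrthLib.restrictRpushAdj W.ι) K.obj.obj
      exact isIso_of_reflects_iso _ (DCoh.IsQCohD (X := (W : Scheme.{u}))).ι
    haveI : IsIso ((Dual3.bddι Y ⋙ A₁).map η) :=
      (NatIso.isIso_map_iff e₁ η).2 (inferInstanceAs (IsIso (Φ.map ((restrictQ W.ι).map η.hom))))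
    haveI : IsIso ((Dual3.bddι Y ⋙ A₂).map η) :=
      (NatIso.isIso_map_iff e₂ η).2 (inferInstanceAs (IsIso (Φ.map ((restrictQ W.ι).map η.hom))))
    exact isIso_app_iff_of_map θ η
  obtain ⟨eO⟩ := hO
  have hOb : Dual3.IsBddBelowQ Y O := ⟨0, DerivedCategory.TStructure.t.isGE_of_iso eO.symm 0⟩
  have hτO : ∀ n : ℤ, IsoAt τ (modQ (Coh.structureModule (W : Scheme.{u})) QCohLib.isQCoh_unit n) := fun n => by
    haveI := KFlatLib.hasLpull W.ι
    let u : (DCoh.restrictD W.ι).obj O.obj ≅ DCoh.inD _ (Coh.structureModule (W : Scheme.{u})) :=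
      (DualFMLib.lpullRestrIso W.ι).symm.app O.obj ≪≫
        (DCoh.Lpull W.ι).mapIso (eO ≪≫ DualFMLib.inDUnit Y) ≪≫ KiehlLib.lpullUnitIso W.ι ≪≫
          (DualFMLib.inDUnit _).symm
    let e : (restrictQ W.ι).obj (O⟦n⟧) ≅ modQ (Coh.structureModule (W : Scheme.{u})) QCohLib.isQCoh_unit n :=
      (DCoh.IsQCohD (X := (W : Scheme.{u}))).ι.preimageIso
        ((DCoh.restrictD W.ι).mapIso (((DCoh.IsQCohD (X := Y)).ι.commShiftIso n).app O) ≪≫
          ((DCoh.restrictD W.ι).commShiftIso n).app O.obj ≪≫ (shiftFunctor _ n).mapIso u ≪≫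
          (((DCoh.IsQCohD (X := (W : Scheme.{u}))).ι.commShiftIso n).app
            (⟨_, PerfBaseLib.isQCohD_inD _ QCohLib.isQCoh_unit⟩ : DCoh.DQCoh (W : Scheme.{u}))).symm)
    refine IsoAt.of_iso e fun h => ?_
    exact (hτ ⟨_, h⟩).2 ((hη ⟨O⟦n⟧, isBddBelowQ_shift hOb n⟩ h).1 (hθ n _))
  haveI := isIso_tau Φ b N hle hge τ hτO
  haveI : ∀ K, IsIso (θ.app K) := fun K => by
    have h := isBddBelow_restrictQ W.ι K.obj K.property
    exact (hη K h).2 ((hτ ⟨_, h⟩).1 inferInstance)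
  exact NatIso.isIso_of_isIso_app θ

/-- `f^!K ≅ Lf^*K ⊗^L f^!O` for perfect `f`, on bounded below complexes. -/
theorem nonempty_shriek_perfect {X Y Xb : Scheme.{u}} [IsNoetherian Y] (f : X ⟶ Y) (hperf : MoreMor.IsPerfectMor f)
    (j : X ⟶ Xb) (p : Xb ⟶ Y) [IsOpenImmersion j] [IsProper p] (hf : j ≫ p = f)
    [DCoh.HasRpush p] (hp : DCoh.RpushPreservesQCoh p) (a : DCoh.DQCoh Y ⥤ DCoh.DQCoh Xb)
    (adj : DCoh.RpushQ p hp ⊣ a) (O : DCoh.DQCoh Y) (hO : Nonempty (O.obj ≅ DCoh.inD Y (Coh.structureModule Y)))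
    [DCoh.HasLpull f] (E : Cx X) (hE : Nonempty (DCoh.toD X E ≅ (DCoh.restrictD j).obj (a.obj O).obj))
    [DCoh.HasLTensorCx E] :
    Nonempty (Dual3.bddι Y ⋙ a ⋙ ObjectProperty.ι _ ⋙ DCoh.restrictD j ≅
      Dual3.bddι Y ⋙ ObjectProperty.ι _ ⋙ DCoh.Lpull f ⋙ DCoh.LTensorCx E) := by
  haveI := isNoetherian_of_proper p
  haveI : CompactSpace X := QuasiCompact.compactSpace_of_compactSpace j
  haveI : IsLocallyNoetherian X := isLocallyNoetherian_of_isOpenImmersion j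
  haveI : IsNoetherian X := ⟨⟩
  haveI : LocallyOfFiniteType f := by rw [← hf]; infer_instance
  haveI := KFlatLib.hasLpull p
  haveI := KFlatLib.hasLpull j
  haveI := KFlatLib.hasLpull (j ≫ p)
  haveI := DCohRestrLib.hasRpush j
  obtain ⟨eE⟩ := hE
  obtain ⟨eO⟩ := hO
  obtain ⟨Eb, hEb, ⟨eEb⟩⟩ := exists_kFlat_model (a.obj O).obj
  haveI := KFlatLib.hasLTensorCx Eb
  obtain ⟨θ, hθ⟩ := Dual3Lib.exists_theta p hp a adj O ⟨eO⟩ Eb ⟨eEb⟩
  let Ej := (KFlatLib.pullCx j).obj Eb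
  haveI := KFlatLib.hasLTensorCx Ej
  let eEj : DerivedCategory.Q.obj E ≅ DerivedCategory.Q.obj Ej :=
    eE ≪≫ (DualFMLib.lpullRestrIso j).symm.app _ ≪≫ (DCoh.Lpull j).mapIso eEb.symm ≪≫
      KFlatLib.lpullObjIso j Eb hEb
  obtain ⟨cj⟩ := ProjFormLib.nonempty_lTensor_congr_iso (M := E) (N := Ej) eEj
  obtain ⟨tj⟩ := Dual3Lib.nonempty_lTensor_lpull j Eb hEb
  obtain ⟨lc⟩ := KFlatLib.lpull_comp j p
  obtain ⟨lg⟩ := nonempty_lpull_congrNat (f := j ≫ p) (f' := f) hf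
  let G₁ : DCoh.DQCoh Y ⥤ DCoh.D X := ObjectProperty.ι _ ⋙ DCoh.Lpull f ⋙ DCoh.LTensorCx E
  let G₂ : DCoh.DQCoh Y ⥤ DCoh.D X := a ⋙ ObjectProperty.ι _ ⋙ DCoh.restrictD j
  let cmp : G₁ ≅ (ObjectProperty.ι _ ⋙ DCoh.Lpull p ⋙ DCoh.LTensorCx Eb) ⋙ DCoh.restrictD j :=
    Functor.isoWhiskerLeft (ObjectProperty.ι _ ⋙ DCoh.Lpull f) cj ≪≫
      Functor.isoWhiskerLeft (ObjectProperty.ι _) (Functor.isoWhiskerRight (lc ≪≫ lg).symm (DCoh.LTensorCx Ej)) ≪≫
      Functor.isoWhiskerLeft (ObjectProperty.ι _ ⋙ DCoh.Lpull p) tj.symm ≪≫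
      Functor.isoWhiskerLeft (ObjectProperty.ι _ ⋙ DCoh.Lpull p ⋙ DCoh.LTensorCx Eb) (DualFMLib.lpullRestrIso j)
  let θX : G₁ ⟶ G₂ := cmp.hom ≫ Functor.whiskerRight θ (DCoh.restrictD j)
  have hθX : ∀ n : ℤ, IsIso (θX.app (O⟦n⟧)) := fun n => by
    haveI := hθ n
    change IsIso (cmp.hom.app _ ≫ (DCoh.restrictD j).map (θ.app (O⟦n⟧)))
    infer_instance
  let θb := Functor.whiskerLeft (Dual3.bddι Y) θX
  obtain ⟨N, hN⟩ := Groth.Agent.S1767.result Xb Y p hp a adj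
  have hN' : ∀ (K : DCoh.DQCoh Y) (c : ℤ), K.obj.IsGE c → (G₂.obj K).IsGE (c - N) := fun K c h => by
    haveI := h
    exact (DerivedCategory.isGE_iff _ _).2 fun i hi =>
      ((Scheme.Modules.restrictFunctor j).map_isZero
        (hN K (c - 1) (fun l hl => DerivedCategory.isZero_of_isGE K.obj c l (by omega)) i (by omega))).of_iso
        (DCohRestrLib.restrictHDIso j _ i)
  suffices h : ∀ x : X, ∃ V : X.Opens, x ∈ V ∧
      IsIso (Functor.whiskerRight θb (DCoh.restrictD V.ι)) by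
    haveI : ∀ K, IsIso (θb.app K) := fun K => by
      rw [DerivedCategory.isIso_iff]
      intro i
      refine KFlatLib.isIso_of_stalks _ fun x => ?_
      obtain ⟨V, hx, hV⟩ := h x
      haveI := hV
      haveI : IsIso ((DCoh.restrictD V.ι).map (θb.app K)) :=
        inferInstanceAs (IsIso ((Functor.whiskerRight θb (DCoh.restrictD V.ι)).app K))
      haveI := DCohRestrLib.isIso_restrict_HD V.ι (θb.app K) i
      exact DCohRestrLib.isIso_stalk_of_restrict V.ι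
        ((DerivedCategory.homologyFunctor X.Modules i).map (θb.app K)) ⟨x, hx⟩
    haveI := NatIso.isIso_of_isIso_app θb
    exact ⟨(asIso θb).symm⟩
  intro x
  obtain ⟨W, hW, hxW, -⟩ := exists_isAffineOpen_mem_and_subset (x := f x) (U := ⊤) trivial
  obtain ⟨V, hV, hxV, hVW⟩ := exists_isAffineOpen_mem_and_subset (x := x) (U := f ⁻¹ᵁ W) hxW
  have hVW' : V ≤ f ⁻¹ᵁ W := hVW
  refine ⟨V, hxV, ?_⟩
  obtain ⟨Eg, _, _, b, hb, ⟨e₂⟩⟩ := exists_local_model f hperf j p hf hp a adj W hW V hV hVW' ⟨⟨x, hxV⟩⟩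
  haveI : IsAffine (V : Scheme.{u}) := hV
  haveI : IsAffine (W : Scheme.{u}) := hW
  haveI : IsLocallyNoetherian (W : Scheme.{u}) := isLocallyNoetherian_of_isOpenImmersion W.ι
  haveI : IsNoetherian (W : Scheme.{u}) := ⟨⟩
  haveI : IsLocallyNoetherian (V : Scheme.{u}) := isLocallyNoetherian_of_isOpenImmersion V.ι
  haveI : IsNoetherian (V : Scheme.{u}) := ⟨⟩
  let g := f.resLE W V hVW'
  haveI := KFlatLib.hasLpull V.ι
  haveI := KFlatLib.hasLpull W.ι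
  haveI := KFlatLib.hasLpull (V.ι ≫ f)
  haveI := KFlatLib.hasLpull (g ≫ W.ι)
  haveI := DCohRestrLib.hasRpush V.ι
  haveI := DCohRestrLib.hasRpush W.ι
  obtain ⟨Ef, hEf, ⟨eEf⟩⟩ := exists_kFlat_model (DerivedCategory.Q.obj E)
  haveI := KFlatLib.hasLTensorCx Ef
  obtain ⟨cf⟩ := ProjFormLib.nonempty_lTensor_congr_iso (M := E) (N := Ef) eEf.symm
  let EV := (KFlatLib.pullCx V.ι).obj Ef
  haveI := KFlatLib.hasLTensorCx EV
  obtain ⟨tV⟩ := Dual3Lib.nonempty_lTensor_lpull V.ι Ef hEf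
  obtain ⟨l₁⟩ := KFlatLib.lpull_comp V.ι f
  obtain ⟨l₂⟩ := KFlatLib.lpull_comp g W.ι
  obtain ⟨l₃⟩ := nonempty_lpull_congrNat (f := V.ι ≫ f) (f' := g ≫ W.ι) (Scheme.Hom.resLE_comp_ι f hVW').symm
  have hOb : Dual3.IsBddBelowQ Y O := ⟨0, DerivedCategory.TStructure.t.isGE_of_iso eO.symm 0⟩
  -- `E|_V ≅ Eg`
  let lO : (DCoh.Lpull g).obj ((DCoh.restrictD W.ι).obj O.obj) ≅ DerivedCategory.Q.obj (unitCx (V : Scheme.{u})) :=
    (DCoh.Lpull g).mapIso ((DualFMLib.lpullRestrIso W.ι).symm.app O.obj ≪≫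
      (DCoh.Lpull W.ι).mapIso (eO ≪≫ DualFMLib.inDUnit Y) ≪≫ KiehlLib.lpullUnitIso W.ι) ≪≫
      KiehlLib.lpullUnitIso g
  obtain ⟨t₁⟩ := Dual3Lib.ten_lTensor (A := DerivedCategory.Q.obj (unitCx (V : Scheme.{u}))) Eg
    (Iso.refl (DerivedCategory.Q.obj Eg))
  obtain ⟨t₂⟩ := Dual3Lib.ten_unit (DerivedCategory.Q.obj Eg)
  let eV : DerivedCategory.Q.obj EV ≅ DerivedCategory.Q.obj Eg :=
    (KFlatLib.lpullObjIso V.ι Ef hEf).symm ≪≫ (DualFMLib.lpullRestrIso V.ι).app _ ≪≫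
      (DCoh.restrictD V.ι).mapIso (eEf ≪≫ eE) ≪≫ e₂.app ⟨O, hOb⟩ ≪≫ (DCoh.LTensorCx Eg).mapIso lO ≪≫ t₁ ≪≫ t₂
  obtain ⟨cV⟩ := ProjFormLib.nonempty_lTensor_congr_iso (M := EV) (N := Eg) eV
  let e₁ : G₁ ⋙ DCoh.restrictD V.ι ≅
      restrictQ W.ι ⋙ ObjectProperty.ι _ ⋙ DCoh.Lpull g ⋙ DCoh.LTensorCx Eg :=
    Functor.isoWhiskerLeft (ObjectProperty.ι _ ⋙ DCoh.Lpull f)
        (Functor.isoWhiskerRight cf (DCoh.restrictD V.ι) ≪≫
          Functor.isoWhiskerLeft (DCoh.LTensorCx Ef) (DualFMLib.lpullRestrIso V.ι).symm ≪≫ tV ≪≫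
          Functor.isoWhiskerLeft (DCoh.Lpull V.ι) cV) ≪≫
      Functor.isoWhiskerLeft (ObjectProperty.ι _)
        (Functor.isoWhiskerRight (l₁ ≪≫ l₃ ≪≫ l₂.symm) (DCoh.LTensorCx Eg) ≪≫
          Functor.isoWhiskerRight (DualFMLib.lpullRestrIso W.ι) (DCoh.Lpull g ⋙ DCoh.LTensorCx Eg))
  refine isIso_local W hW g Eg b hb (G₁ ⋙ DCoh.restrictD V.ι) (G₂ ⋙ DCoh.restrictD V.ι)
    (Functor.isoWhiskerLeft (Dual3.bddι Y) e₁) e₂ N (fun K c h => ?_) _ O ⟨eO⟩ fun n h => ?_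
  · haveI := hN' K c h
    exact (DerivedCategory.isGE_iff _ _).2 fun i hi =>
      ((Scheme.Modules.restrictFunctor V.ι).map_isZero (DerivedCategory.isZero_of_isGE _ (c - N) i hi)).of_iso
        (DCohRestrLib.restrictHDIso V.ι _ i)
  · haveI := hθX n
    exact inferInstanceAs (IsIso ((DCoh.restrictD V.ι).map (θX.app (O⟦n⟧))))

end ShriekLib
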