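import Groth.Agent.ShriekLib.Perfect
import Groth.Agent.Dual3Lib.PushHom
import Groth.Agent.Dual3Lib.PushCoh
import Groth.Agent.DualFMLib.DiagBC
import Groth.Agent.CycKSuppLib.Killed
import Groth.Agent.S1769

/-!
# `RHom(a O, a O) = O` for perfect closed immersions
-/

set_option autoImplicit false
set_option linter.style.haveILetI false
set_option linter.unusedSectionVars false
set_option backward.isDefEq.respectTransparency false
set_option backward.isDefEq.respectTransparency.types false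
set_option maxHeartbeats 1000000
set_option synthInstance.maxHeartbeats 200000

universe u

open CategoryTheory CategoryTheory.Limits AlgebraicGeometry
open Groth.Agent Groth.Agent.FMTransLib Groth.Agent.PerfDualLib Groth.Agent.FMKLib

attribute [local instance] HasDerivedCategory.standard

noncomputable section

namespace ShriekLib

/-- An object whose direct image along a closed immersion is `i_*O` is the structure sheaf. -/
theorem nonempty_iso_unit_of_rpush {V P : Scheme.{u}} (i : V ⟶ P) [IsClosedImmersion i] [DCoh.HasRpush i]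
    (W : DCoh.D V) (e : (DCoh.Rpush i).obj W ≅ DCoh.inD P ((Coh.push i).obj (Coh.structureModule V))) :
    Nonempty (W ≅ DCoh.inD V (Coh.structureModule V)) := by
  haveI := ImmPCLib.lim_push i
  haveI := ImmPCLib.colim_push i
  obtain ⟨ep⟩ := Dual3Lib.nonempty_rpush_pushD i W
  let eH : ∀ n : ℤ, (Scheme.Modules.pushforward i).obj (DCoh.HD W n) ≅
      DCoh.HD (DCoh.inD P ((Coh.push i).obj (Coh.structureModule V))) n := fun n =>
    ((DerLib.ExactHomology.homologyIso (Scheme.Modules.pushforward i) n).app W).symm ≪≫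
      (DerivedCategory.homologyFunctor P.Modules n).mapIso (ep.symm ≪≫ e)
  haveI : W.IsGE 0 := (DerivedCategory.isGE_iff _ _).2 fun n hn => ImmPCLib.isZero_of_push i
    ((DerivedCategory.isZero_of_isGE _ 0 n hn).of_iso (eH n))
  haveI : W.IsLE 0 := (DerivedCategory.isLE_iff _ _).2 fun n hn => ImmPCLib.isZero_of_push i
    ((DerivedCategory.isZero_of_isLE _ 0 n hn).of_iso (eH n))
  obtain ⟨M, ⟨eM⟩⟩ := DerivedCategory.exists_iso_singleFunctor_obj_of_isGE_of_isLE W 0
  let u : (Scheme.Modules.pushforward i).obj M ≅ (Coh.push i).obj (Coh.structureModule V) :=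
    (Scheme.Modules.pushforward i).mapIso ((DerivedCategory.homologyFunctor V.Modules 0).mapIso eM ≪≫
      (DerivedCategory.singleFunctorCompHomologyFunctorIso V.Modules 0).app M).symm ≪≫ eH 0 ≪≫
      (DerivedCategory.singleFunctorCompHomologyFunctorIso P.Modules 0).app _
  exact ⟨eM ≪≫ (DerivedCategory.singleFunctor V.Modules 0).mapIso
    ((CycKSuppLib.pullPushIso i M).symm ≪≫ (Scheme.Modules.pullback i).mapIso u ≪≫
      CycKSuppLib.pullPushIso i (Coh.structureModule V))⟩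

/-- `RHom(a O, a O) ≅ O` for a perfect closed immersion. -/
theorem nonempty_rSheafHom_self_closed {V P : Scheme.{u}} [IsNoetherian P] (k : V ⟶ P) [IsClosedImmersion k]
    (hk : MoreMor.IsPerfectMor k) [DCoh.HasRpush k] (hR : DCoh.RpushPreservesQCoh k)
    (a : DCoh.DQCoh P ⥤ DCoh.DQCoh V) (adj : DCoh.RpushQ k hR ⊣ a) (O : DCoh.DQCoh P)
    (hO : Nonempty (O.obj ≅ DCoh.inD P (Coh.structureModule P))) (K : Cx V) [DCoh.HasLTensorCx K]
    [DCoh.HasRSheafHom K] (hK : Nonempty (DerivedCategory.Q.obj K ≅ (a.obj O).obj)) :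
    Nonempty ((DCoh.RSheafHom K).obj (DerivedCategory.Q.obj K) ≅ DCoh.inD V (Coh.structureModule V)) := by
  haveI := isNoetherian_of_proper k
  obtain ⟨b, hb⟩ := exists_isLE_rightAdjoint k hk hR a adj O hO
  obtain ⟨eK⟩ := hK
  obtain ⟨eO⟩ := hO
  obtain ⟨I, hI, ⟨eI⟩⟩ := DerLib.KInjUse.exists_iso_Q_kInjective (a.obj O).obj
  haveI := hI
  haveI := KFlatLib.hasLTensorCx I
  haveI := BidualSchLib.hasRSheafHom I
  -- `RHom(aO, aO)` is quasi-coherent
  haveI : O.obj.IsGE 0 := DerivedCategory.TStructure.t.isGE_of_iso eO.symm 0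
  haveI : O.obj.IsLE 0 := DerivedCategory.TStructure.t.isLE_of_iso eO.symm 0
  have hOc : ∀ i : ℤ, Coh.IsCoh (DCoh.HD O.obj i) := fun i =>
    QCohLib.isCoh_of_iso ((DerivedCategory.homologyFunctor P.Modules i).mapIso eO.symm)
      (KiehlLib.isCohD_single_noeth 0 (DevissLib.isCoh_structureModule P) i)
  have hcoh : ∀ i : ℤ, Coh.IsCoh (DCoh.HD (a.obj O).obj i) := fun i =>
    Groth.Agent.S1769.result V P k hR a adj O 0 (fun l hl => DerivedCategory.isZero_of_isGE O.obj 0 l hl) hOc i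
  haveI : (a.obj O).obj.IsLE b := hb
  have hPC : ∀ m : ℤ, DCoh.IsPseudoCoherentD m (DCoh.toD V I) := fun m =>
    PerfLib.isPC_of_iso eI (PerfNoethLib.isPC_of_coherent (b := b) fun i _ => hcoh i)
  obtain ⟨n, hn⟩ := isBddBelow_rightAdjoint k hR a adj O ⟨0, inferInstance⟩
  haveI := hn
  have hW : DCoh.IsQCohD ((DCoh.RSheafHom I).obj (a.obj O).obj) :=
    Groth.Agent.S1115.result V I hPC (a.obj O).obj (a.obj O).property n
  have hIq : DCoh.IsQCohD (DerivedCategory.Q.obj I) := KFlatLib.isQCohD_iso eI (a.obj O).property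
  -- the direct image is the dual of `k_*O`
  obtain ⟨R, hRk, ⟨eR⟩⟩ := exists_kFlat_model (DCoh.inD P ((Coh.push k).obj (Coh.structureModule V)))
  haveI := KFlatLib.hasLTensorCx R
  haveI := BidualSchLib.hasRSheafHom R
  obtain ⟨er⟩ := FinDualFunLib.nonempty_rpush_rightAdjoint_iso k hR a adj R ⟨eR⟩
  haveI := BoxSurjLib.isIso_pushQ_closed k I
  let A := (KFlatLib.resP P).obj ((ProjFormLib.pushC k).obj I)
  let ψ : A ⟶ (ProjFormLib.pushC k).obj I := (KFlatLib.resψ P).app _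
  haveI : QuasiIso ψ := KFlatLib.quasiIso_resψ _
  haveI := KFlatLib.hasLTensorCx A
  haveI := BidualSchLib.hasRSheafHom A
  have hOb : Dual3.IsBddBelowQ P O := ⟨0, inferInstance⟩
  haveI := KFlatLib.hasLTensorCx (unitCx P)
  haveI := BidualSchLib.hasRSheafHom (unitCx P)
  let u : O.obj ≅ DerivedCategory.Q.obj (unitCx P) := eO ≪≫ DualFMLib.inDUnit P
  let eA : DerivedCategory.Q.obj A ≅ (DCoh.RSheafHom R).obj (DerivedCategory.Q.obj (unitCx P)) :=
    asIso (DerivedCategory.Q.map ψ) ≪≫ asIso (Dual3Lib.pushQ k I) ≪≫ (DCoh.Rpush k).mapIso eI.symm ≪≫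
      er.app ⟨O, hOb⟩ ≪≫ (DCoh.RSheafHom R).mapIso u
  obtain ⟨es⟩ := KiehlLib.nonempty_rpush_single k (Coh.structureModule V) QCohLib.isQCoh_unit 0
  have hRp : DCoh.IsPerfect (DerivedCategory.Q.obj R) :=
    PerfLib.isPerfect_of_iso (es ≪≫ eR.symm)
      (Dual3Lib.isPerfect_rpush_of_perfectMor k hk (KoszOrthLib.isPerfect_inD_unit V))
  have hAp : DCoh.IsPerfect (DerivedCategory.Q.obj A) :=
    PerfLib.isPerfect_of_iso eA.symm (PerfDualLib.isPerfect_dual R hRp)
  obtain ⟨d⟩ := Dual3Lib.nonempty_rSheafHom_dual R A hRp hAp eA O.obj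
  obtain ⟨t₁⟩ := Dual3Lib.ten_lTensor (A := DerivedCategory.Q.obj (unitCx P)) R (Iso.refl (DerivedCategory.Q.obj R))
  obtain ⟨t₂⟩ := Dual3Lib.ten_unit (DerivedCategory.Q.obj R)
  obtain ⟨p⟩ := Dual3Lib.nonempty_pushHom_of_qcoh k hR a adj O I hIq hW A ψ (KFlatLib.good_resP _).1
    (isQCohD_rSheafHom_of_isPerfect A hAp O.obj O.property)
  obtain ⟨w⟩ := nonempty_iso_unit_of_rpush k ((DCoh.RSheafHom I).obj (a.obj O).obj)
    (p ≪≫ d.symm ≪≫ (DCoh.LTensorCx R).mapIso u ≪≫ t₁ ≪≫ t₂ ≪≫ eR)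
  obtain ⟨c⟩ := FMKLib.nonempty_rSheafHom_congr (eK ≪≫ eI) (DerivedCategory.Q.obj K)
  exact ⟨c ≪≫ (DCoh.RSheafHom I).mapIso eK ≪≫ w⟩

end ShriekLib
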