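import Groth.Agent.ShriekLib.LCI
import Groth.Agent.ShriekLib.SelfHom
import Groth.Agent.ShriekLib.SelfAdj
import Groth.Agent.Dual3Lib.PerfTest
import Groth.Agent.RelFlatLib.Push
import Groth.Agent.RelFlatLib.SmoothAmp

/-!
# `RHom(f^!O, f^!O)` is locally the structure sheaf for perfect morphisms
-/

set_option autoImplicit false
set_option linter.style.haveILetI false
set_option linter.unusedSectionVars false
set_option backward.isDefEq.respectTransparency false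
set_option backward.isDefEq.respectTransparency.types false
set_option maxHeartbeats 1000000
set_option synthInstance.maxHeartbeats 200000

universe u

open CategoryTheory CategoryTheory.Limits AlgebraicGeometry
open Groth.Agent Groth.Agent.FMTransLib Groth.Agent.PerfDualLib Groth.Agent.FMKLib

attribute [local instance] HasDerivedCategory.standard

noncomputable section

namespace ShriekLib

/-- `RHom(K⟦n⟧, K⟦n⟧) ≅ RHom(K, K)`. -/
theorem nonempty_rSheafHom_shift_self {X : Scheme.{u}} (K K' : Cx X) [DCoh.HasLTensorCx K] [DCoh.HasRSheafHom K]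
    [DCoh.HasLTensorCx K'] [DCoh.HasRSheafHom K'] (n : ℤ)
    (e : DerivedCategory.Q.obj K' ≅ (DerivedCategory.Q.obj K)⟦n⟧) :
    Nonempty ((DCoh.RSheafHom K').obj (DerivedCategory.Q.obj K') ≅
      (DCoh.RSheafHom K).obj (DerivedCategory.Q.obj K)) := by
  obtain ⟨l⟩ := nonempty_ltCx_shift K' K n e
  let s := shiftEquiv (DCoh.D X) n
  let r := (DCoh.RSheafHomAdj K').rightAdjointUniq
    (((DCoh.RSheafHomAdj K).comp s.toAdjunction).ofNatIsoLeft l.symm)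
  exact ⟨r.app _ ≪≫ (DCoh.RSheafHom K).mapIso (s.inverse.mapIso e ≪≫ (s.unitIso.app _).symm)⟩

/-- `k_* a(O)` is perfect for a perfect closed immersion. -/
theorem isPerfect_rpush_rightAdjoint {V P : Scheme.{u}} [IsNoetherian P] (k : V ⟶ P) [IsClosedImmersion k]
    (hk : MoreMor.IsPerfectMor k) [DCoh.HasRpush k] (hR : DCoh.RpushPreservesQCoh k)
    (a : DCoh.DQCoh P ⥤ DCoh.DQCoh V) (adj : DCoh.RpushQ k hR ⊣ a) (O : DCoh.DQCoh P)
    (hO : Nonempty (O.obj ≅ DCoh.inD P (Coh.structureModule P))) :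
    DCoh.IsPerfect ((DCoh.Rpush k).obj (a.obj O).obj) := by
  haveI := isNoetherian_of_proper k
  obtain ⟨eO⟩ := hO
  have hOb : Dual3.IsBddBelowQ P O :=
    ⟨0, DerivedCategory.TStructure.t.isGE_of_iso eO.symm 0⟩
  obtain ⟨E, hE, ⟨eE⟩⟩ := exists_kFlat_model (DCoh.inD P ((Scheme.Modules.pushforward k).obj (Coh.structureModule V)))
  haveI := KFlatLib.hasLTensorCx E
  haveI := BidualSchLib.hasRSheafHom E
  obtain ⟨er⟩ := FinDualFunLib.nonempty_rpush_rightAdjoint_iso k hR a adj E ⟨eE⟩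
  obtain ⟨es⟩ := KiehlLib.nonempty_rpush_single k (Coh.structureModule V) QCohLib.isQCoh_unit 0
  have hperf : DCoh.IsPerfect (DerivedCategory.Q.obj E) :=
    PerfLib.isPerfect_of_iso (es ≪≫ eE.symm)
      (Dual3Lib.isPerfect_rpush_of_perfectMor k hk (KoszOrthLib.isPerfect_inD_unit V))
  exact PerfLib.isPerfect_of_iso ((DCoh.RSheafHom E).mapIso (eO ≪≫ DualFMLib.inDUnit P).symm ≪≫
      (er.app ⟨O, hOb⟩).symm) (PerfDualLib.isPerfect_dual E hperf)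

/-- Near every point, `f^!O` of a perfect morphism is bounded above with endomorphism complex `O`. -/
theorem exists_selfHom_chart {X Y Xb : Scheme.{u}} [IsNoetherian Y] (f : X ⟶ Y) (hperf : MoreMor.IsPerfectMor f)
    (j : X ⟶ Xb) (p : Xb ⟶ Y) [IsOpenImmersion j] [IsProper p] (hjp : j ≫ p = f)
    [DCoh.HasRpush p] (hp : DCoh.RpushPreservesQCoh p) (a : DCoh.DQCoh Y ⥤ DCoh.DQCoh Xb)
    (adj : DCoh.RpushQ p hp ⊣ a) (O : DCoh.DQCoh Y) (hO : Nonempty (O.obj ≅ DCoh.inD Y (Coh.structureModule Y)))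
    (E : Cx X) (hE : Nonempty (DerivedCategory.Q.obj E ≅ (DCoh.restrictD j).obj (a.obj O).obj))
    [DCoh.HasLTensorCx E] [DCoh.HasRSheafHom E] (x : X) :
    ∃ T : X.Opens, x ∈ T ∧ (∃ b : ℤ, ((DCoh.restrictD T.ι).obj (DerivedCategory.Q.obj E)).IsLE b) ∧
      (∃ a b : ℤ, ∀ y ∈ T, RelFlatLib.AmpD f a b (DerivedCategory.Q.obj E) y) ∧
      Nonempty ((DCoh.restrictD T.ι).obj ((DCoh.RSheafHom E).obj (DerivedCategory.Q.obj E)) ≅
        DCoh.inD _ (Coh.structureModule (T : Scheme.{u}))) := by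
  haveI := isNoetherian_of_proper p
  haveI : CompactSpace X := QuasiCompact.compactSpace_of_compactSpace j
  haveI : IsLocallyNoetherian X := isLocallyNoetherian_of_isOpenImmersion j
  haveI : IsNoetherian X := ⟨⟩
  haveI : LocallyOfFiniteType f := by rw [← hjp]; infer_instance
  obtain ⟨W, hW, hxW, -⟩ := exists_isAffineOpen_mem_and_subset (x := f x) (U := ⊤) trivial
  obtain ⟨V, hV, hxV, hVW⟩ := exists_isAffineOpen_mem_and_subset (x := x) (U := f ⁻¹ᵁ W) hxW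
  have hVW' : V ≤ f ⁻¹ᵁ W := hVW
  haveI : IsAffine (W : Scheme.{u}) := hW
  haveI : IsAffine (V : Scheme.{u}) := hV
  haveI : IsLocallyNoetherian (W : Scheme.{u}) := isLocallyNoetherian_of_isOpenImmersion W.ι
  haveI : IsNoetherian (W : Scheme.{u}) := ⟨⟩
  haveI : IsLocallyNoetherian (V : Scheme.{u}) := isLocallyNoetherian_of_isOpenImmersion V.ι
  haveI : IsNoetherian (V : Scheme.{u}) := ⟨⟩
  let g := f.resLE W V hVW'
  have hgι : g ≫ W.ι = V.ι ≫ f := Scheme.Hom.resLE_comp_ι f hVW'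
  haveI : LocallyOfFiniteType g := by
    haveI : LocallyOfFiniteType (g ≫ W.ι) := by rw [hgι]; infer_instance
    exact locallyOfFiniteType_of_comp g W.ι
  have hgp : MoreMor.IsPerfectMor g := by
    refine PerfModLib.perfectMor_cancel_smooth g W.ι ?_
    rw [hgι]
    exact PerfModLib.perfectMor_comp _ _ (PerfModLib.perfectMor_of_flat V.ι) hperf
  haveI : Nontrivial Γ((W : Scheme.{u}), ⊤) :=
    ((W : Scheme.{u}).presheaf.germ ⊤ (g ⟨x, hxV⟩) trivial).hom.domain_nontrivial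
  haveI : LocallyOfFiniteType (g ≫ (W : Scheme.{u}).isoSpec.hom) := inferInstance
  obtain ⟨n, U, k, hU, _, hk⟩ :=
    Dual3Lib.exists_chart (A := Γ((W : Scheme.{u}), ⊤)) (g ≫ (W : Scheme.{u}).isoSpec.hom)
  haveI := hU
  let π := CohB1.ProjSpace.toSpec n Γ((W : Scheme.{u}), ⊤) ≫ (W : Scheme.{u}).isoSpec.inv
  haveI : SmoothOfRelativeDimension n (CohB1.ProjSpace.toSpec n Γ((W : Scheme.{u}), ⊤)) :=
    OmegaPnLib.smoothRel_projSpace _ n
  haveI : IsProper (CohB1.ProjSpace.toSpec n Γ((W : Scheme.{u}), ⊤)) := (KoszOrthLib.projSpace_hyps n _).1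
  haveI : IsProper π := inferInstance
  let h := U.ι ≫ π
  haveI : SmoothOfRelativeDimension n h := by
    have : SmoothOfRelativeDimension (0 + (n + 0)) (U.ι ≫ CohB1.ProjSpace.toSpec n Γ((W : Scheme.{u}), ⊤) ≫
        (W : Scheme.{u}).isoSpec.inv) := inferInstance
    simpa using this
  haveI : Smooth h := SmoothOfRelativeDimension.smooth n h
  have hkh : k ≫ h = g := by
    simp only [h, π]
    rw [reassoc_of% hk, Iso.hom_inv_id, Category.comp_id]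
  have hkp : MoreMor.IsPerfectMor k := PerfModLib.perfectMor_cancel_smooth k h (by rw [hkh]; exact hgp)
  haveI := isNoetherian_of_proper π
  haveI : IsLocallyNoetherian (U : Scheme.{u}) := isLocallyNoetherian_of_isOpenImmersion U.ι
  haveI : IsNoetherian (U : Scheme.{u}) := ⟨⟩
  have hΩ : FlatMod.IsFinLocFreeOfRank n (Omega.sheaf h) := CohCmpLib.rank_omega h n
  haveI : Coh.IsQCoh (Omega.sheaf h) := FittLib.isQCoh_omega h
  let L := ExtTopLib.ext (Omega.sheaf h) n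
  have hLext : ExtPow.IsExtPow n (Omega.sheaf h) L := ExtPowLib.isExtPow_ext _ n
  have hLi : PicF.IsInvertible L := ExtTopLib.isInvertible_ext hΩ
  haveI := DCohRestrLib.hasRpush π
  haveI := DCohRestrLib.hasRpush k
  haveI := KFlatLib.hasLpull k
  obtain ⟨aπ, ⟨adjπ⟩⟩ := exists_rightAdjoint π (hpush π)
  obtain ⟨ak, ⟨adjk⟩⟩ := exists_rightAdjoint k (hpush k)
  obtain ⟨cF⟩ := nonempty_shriek_factor f j p hjp hp a adj V.ι W.ι k U.ι π
    ((congrArg (· ≫ W.ι) hkh).trans hgι |> fun e => by simpa only [h, Category.assoc] using e)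
    (hpush k) ak adjk (hpush π) aπ adjπ
  let OW : DCoh.DQCoh (W : Scheme.{u}) := (restrictQ W.ι).obj O
  obtain ⟨eO⟩ := hO
  haveI := KFlatLib.hasLpull W.ι
  haveI := DCohRestrLib.hasRpush W.ι
  have hOW : Nonempty (OW.obj ≅ DCoh.inD _ (Coh.structureModule (W : Scheme.{u}))) :=
    ⟨(DualFMLib.lpullRestrIso W.ι).symm.app O.obj ≪≫
      (DCoh.Lpull W.ι).mapIso (eO ≪≫ DualFMLib.inDUnit Y) ≪≫ KiehlLib.lpullUnitIso W.ι ≪≫
        (DualFMLib.inDUnit _).symm⟩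
  obtain ⟨eh⟩ := nonempty_shriek_smooth_structureSheaf n h U.ι π rfl (hpush π) aπ adjπ OW hOW L hLext
  let OU : DCoh.DQCoh (U : Scheme.{u}) :=
    ⟨DCoh.inD _ (Coh.structureModule _), PerfBaseLib.isQCohD_inD _ QCohLib.isQCoh_unit⟩
  obtain ⟨bk, hbk⟩ := exists_isLE_rightAdjoint k hkp (hpush k) ak adjk OU ⟨Iso.refl _⟩
  obtain ⟨Ek, hEk, ⟨eEk⟩⟩ := exists_kFlat_model (ak.obj OU).obj
  haveI := KFlatLib.hasLTensorCx Ek
  haveI := BidualSchLib.hasRSheafHom Ek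
  obtain ⟨hs⟩ := nonempty_rSheafHom_self_closed k hkp (hpush k) ak adjk OU ⟨Iso.refl _⟩ Ek ⟨eEk⟩
  obtain ⟨hcop⟩ : PLift (∀ J : Type u, PreservesColimitsOfShape (Discrete J) ak) :=
    ⟨KoszOrthLib.preservesCoproducts_rightAdjoint k (hpush k)
      (fun K hK => Dual3Lib.isPerfect_rpush_of_perfectMor k hkp hK) ak adjk⟩
  obtain ⟨ek⟩ :=
    Dual3Lib.nonempty_rightAdjoint_iso_tensor k (hpush k) ak adjk hcop OU ⟨Iso.refl _⟩ Ek ⟨eEk⟩
  haveI := KFlatLib.hasLpull (𝟙 (V : Scheme.{u}))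
  haveI := DCohRestrLib.hasRpush (𝟙 (V : Scheme.{u}))
  obtain ⟨i₁⟩ := Dual3Lib.nonempty_lpull_id (𝟙 (V : Scheme.{u})) rfl
  have hOb : Dual3.IsBddBelowQ Y O := ⟨0, DerivedCategory.TStructure.t.isGE_of_iso eO.symm 0⟩
  obtain ⟨eE⟩ := hE
  let eV : (DCoh.restrictD V.ι).obj (DerivedCategory.Q.obj E) ≅
      (DCoh.LTensorCx Ek).obj ((DCoh.Lpull k).obj ((DCoh.inD _ L)⟦(n : ℤ)⟧)) :=
    (DCoh.restrictD V.ι).mapIso eE ≪≫ (ObjectProperty.ι _).mapIso (cF.app ⟨O, hOb⟩) ≪≫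
      ((DualFMLib.lpullRestrIso (𝟙 _)).symm ≪≫ i₁).app _ ≪≫ ek.app _ ≪≫
      (DCoh.LTensorCx Ek).mapIso ((DCoh.Lpull k).mapIso eh)
  let z : (V : Scheme.{u}) := ⟨x, hxV⟩
  obtain ⟨A₀, hzA₀, ⟨eA₀⟩⟩ := hLi (k z)
  -- tor amplitude over the base
  obtain ⟨ep⟩ := Dual3Lib.nonempty_rpush_pushD k (DerivedCategory.Q.obj Ek)
  haveI := ImmPCLib.lim_push k
  haveI := ImmPCLib.colim_push k
  let P := ((Scheme.Modules.pushforward k).mapHomologicalComplex (ComplexShape.up ℤ)).obj Ek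
  have hP : DCoh.IsPerfect (DCoh.toD (U : Scheme.{u}) P) :=
    PerfLib.isPerfect_of_iso ((DCoh.Rpush k).mapIso eEk.symm ≪≫ ep ≪≫
      (Scheme.Modules.pushforward k).mapDerivedCategoryFactors.app Ek)
      (isPerfect_rpush_rightAdjoint k hkp (hpush k) ak adjk OU ⟨Iso.refl _⟩)
  obtain ⟨A₁, ta, tb, hzA₁, hA₁⟩ := RelFlatLib.locAmp_of_isPerfect h hP (k z)
  let A : (U : Scheme.{u}).Opens := A₀ ⊓ A₁
  have hzA : k z ∈ A := ⟨hzA₀, hzA₁⟩
  obtain ⟨eA⟩ := nonempty_restrict_le L (inf_le_left : A ≤ A₀) eA₀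
  let S : (V : Scheme.{u}).Opens := k ⁻¹ᵁ A
  haveI : IsLocallyNoetherian (A : Scheme.{u}) := isLocallyNoetherian_of_isOpenImmersion A.ι
  haveI : IsLocallyNoetherian (S : Scheme.{u}) := isLocallyNoetherian_of_isOpenImmersion S.ι
  let kA : (S : Scheme.{u}) ⟶ (A : Scheme.{u}) := k.resLE A S le_rfl
  haveI := KFlatLib.hasLpull S.ι
  haveI := KFlatLib.hasLpull A.ι
  haveI := KFlatLib.hasLpull kA
  haveI := KFlatLib.hasLpull (S.ι ≫ k)
  haveI := KFlatLib.hasLpull (kA ≫ A.ι)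
  haveI := DCohRestrLib.hasRpush S.ι
  haveI := DCohRestrLib.hasRpush A.ι
  let EkS := (KFlatLib.pullCx S.ι).obj Ek
  haveI := KFlatLib.hasLTensorCx EkS
  haveI := BidualSchLib.hasRSheafHom EkS
  obtain ⟨tS⟩ := Dual3Lib.nonempty_lTensor_lpull S.ι Ek hEk
  obtain ⟨l₁⟩ := KFlatLib.lpull_comp S.ι k
  obtain ⟨l₂⟩ := KFlatLib.lpull_comp kA A.ι
  obtain ⟨l₃⟩ := nonempty_lpull_congrNat (f := S.ι ≫ k) (f' := kA ≫ A.ι)
    (Scheme.Hom.resLE_comp_ι k _).symm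
  obtain ⟨rA⟩ := nonempty_restrictD_inD L A eA (n : ℤ)
  obtain ⟨_, -⟩ := DualFMLib.exists_isTriangulated_lpull kA
  let u₁ : (DCoh.Lpull S.ι).obj ((DCoh.Lpull k).obj ((DCoh.inD _ L)⟦(n : ℤ)⟧)) ≅
      (DerivedCategory.Q.obj (unitCx (S : Scheme.{u})))⟦(n : ℤ)⟧ :=
    (l₁ ≪≫ l₃ ≪≫ l₂.symm).app _ ≪≫
      (DCoh.Lpull kA).mapIso ((DualFMLib.lpullRestrIso A.ι).app _ ≪≫ rA ≪≫
        (shiftFunctor _ (n : ℤ)).mapIso (DualFMLib.inDUnit _)) ≪≫
      ((DCoh.Lpull kA).commShiftIso (n : ℤ)).app _ ≪≫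
      (shiftFunctor _ (n : ℤ)).mapIso (KiehlLib.lpullUnitIso kA)
  obtain ⟨t₁⟩ := Dual3Lib.ten_lTensor (A := (DerivedCategory.Q.obj (unitCx (S : Scheme.{u})))⟦(n : ℤ)⟧) EkS
    (Iso.refl (DerivedCategory.Q.obj EkS))
  obtain ⟨t₂⟩ := Dual3Lib.ten_comm ((DerivedCategory.Q.obj (unitCx (S : Scheme.{u})))⟦(n : ℤ)⟧)
    (DerivedCategory.Q.obj EkS)
  obtain ⟨t₃⟩ := Dual3Lib.PerfTest.ten_shift (DerivedCategory.Q.obj EkS) (DerivedCategory.Q.obj (unitCx (S : Scheme.{u})))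
    (n : ℤ)
  obtain ⟨t₄⟩ := Dual3Lib.ten_unit' (DerivedCategory.Q.obj EkS)
  let fk : (DCoh.restrictD S.ι).obj (DerivedCategory.Q.obj Ek) ≅ DerivedCategory.Q.obj EkS :=
    (DualFMLib.lpullRestrIso S.ι).symm.app _ ≪≫ KFlatLib.lpullObjIso S.ι Ek hEk
  let eS : (DCoh.restrictD S.ι).obj ((DCoh.restrictD V.ι).obj (DerivedCategory.Q.obj E)) ≅
      (DerivedCategory.Q.obj EkS)⟦(n : ℤ)⟧ :=
    (DCoh.restrictD S.ι).mapIso eV ≪≫ (DualFMLib.lpullRestrIso S.ι).symm.app _ ≪≫ tS.app _ ≪≫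
      (DCoh.LTensorCx EkS).mapIso u₁ ≪≫ t₁ ≪≫ t₂ ≪≫ t₃ ≪≫ (shiftFunctor _ (n : ℤ)).mapIso t₄
  haveI : (DCoh.restrictD S.ι).obj ((DCoh.restrictD V.ι).obj (DerivedCategory.Q.obj E)) |>.IsLE (bk - n) := by
    haveI : (DerivedCategory.Q.obj Ek).IsLE bk := DerivedCategory.TStructure.t.isLE_of_iso eEk.symm bk
    haveI : ((DCoh.Lpull S.ι).obj (DerivedCategory.Q.obj Ek)).IsLE bk := TensorPCLib.isLE_lpull S.ι _ bk
    haveI : DerivedCategory.TStructure.t.IsLE (DerivedCategory.Q.obj EkS) bk :=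
      DerivedCategory.TStructure.t.isLE_of_iso (KFlatLib.lpullObjIso S.ι Ek hEk) bk
    haveI : DerivedCategory.TStructure.t.IsLE ((DerivedCategory.Q.obj EkS)⟦(n : ℤ)⟧) (bk - n) :=
      DerivedCategory.TStructure.t.isLE_shift _ bk (n : ℤ) _ (by omega)
    exact DerivedCategory.TStructure.t.isLE_of_iso eS.symm _
  -- endomorphisms
  let EV := (DCohRestrLib.resCx V).obj E
  haveI := KFlatLib.hasLTensorCx EV
  haveI := BidualSchLib.hasRSheafHom EV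
  let ES := (DCohRestrLib.resCx S).obj EV
  haveI := KFlatLib.hasLTensorCx ES
  haveI := BidualSchLib.hasRSheafHom ES
  let EkS' := (DCohRestrLib.resCx S).obj Ek
  haveI := KFlatLib.hasLTensorCx EkS'
  haveI := BidualSchLib.hasRSheafHom EkS'
  obtain ⟨ρV⟩ := DCohRestrLib.nonempty_restrict_RSheafHom V E
  obtain ⟨ρS⟩ := DCohRestrLib.nonempty_restrict_RSheafHom S EV
  obtain ⟨ρk⟩ := DCohRestrLib.nonempty_restrict_RSheafHom S Ek
  let qV : (DCoh.restrictD V.ι).obj (DerivedCategory.Q.obj E) ≅ DerivedCategory.Q.obj EV :=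
    (Scheme.Modules.restrictFunctor V.ι).mapDerivedCategoryFactors.app E
  let qS : (DCoh.restrictD S.ι).obj (DerivedCategory.Q.obj EV) ≅ DerivedCategory.Q.obj ES :=
    (Scheme.Modules.restrictFunctor S.ι).mapDerivedCategoryFactors.app EV
  let qk : (DCoh.restrictD S.ι).obj (DerivedCategory.Q.obj Ek) ≅ DerivedCategory.Q.obj EkS' :=
    (Scheme.Modules.restrictFunctor S.ι).mapDerivedCategoryFactors.app Ek
  obtain ⟨sh⟩ := nonempty_rSheafHom_shift_self EkS' ES (n : ℤ)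
    (qS.symm ≪≫ (DCoh.restrictD S.ι).mapIso qV.symm ≪≫ eS ≪≫ (shiftFunctor _ (n : ℤ)).mapIso (fk.symm ≪≫ qk))
  let R := (DCoh.RSheafHom E).obj (DerivedCategory.Q.obj E)
  obtain ⟨oS⟩ := MiscFlat6.nonempty_restrict_structureModule S.ι
  let eR : (DCoh.restrictD S.ι).obj ((DCoh.restrictD V.ι).obj R) ≅
      DCoh.inD _ (Coh.structureModule (S : Scheme.{u})) :=
    (DCoh.restrictD S.ι).mapIso (ρV.app _ ≪≫ (DCoh.RSheafHom EV).mapIso qV) ≪≫ ρS.app _ ≪≫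
      (DCoh.RSheafHom ES).mapIso qS ≪≫ sh ≪≫ (DCoh.RSheafHom EkS').mapIso qk.symm ≪≫ (ρk.app _).symm ≪≫
      (DCoh.restrictD S.ι).mapIso hs ≪≫
      ((Scheme.Modules.restrictFunctor S.ι).mapDerivedCategorySingleFunctor 0).app _ ≪≫
        (DerivedCategory.singleFunctor _ 0).mapIso oS
  -- to an open of `X`
  let v : (S : Scheme.{u}) ⟶ X := S.ι ≫ V.ι
  let T : X.Opens := v.opensRange
  let σ := v.isoOpensRange
  haveI := DCohRestrLib.hasRpush v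
  haveI := DCohRestrLib.hasRpush T.ι
  haveI := DCohRestrLib.hasRpush V.ι
  haveI := KFlatLib.hasLpull T.ι
  haveI := KFlatLib.hasLpull V.ι
  haveI := KFlatLib.hasLpull σ.inv
  haveI := KFlatLib.hasLpull v
  haveI := KFlatLib.hasLpull (σ.inv ≫ v)
  obtain ⟨l₄⟩ := KFlatLib.lpull_comp S.ι V.ι
  obtain ⟨l₅⟩ := KFlatLib.lpull_comp σ.inv v
  obtain ⟨l₆⟩ := nonempty_lpull_congrNat (f := σ.inv ≫ v) (f' := T.ι) (Scheme.Hom.isoOpensRange_inv_comp _)
  let key : DCoh.restrictD T.ι ≅ (DCoh.restrictD V.ι ⋙ DCoh.restrictD S.ι) ⋙ DCoh.Lpull σ.inv :=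
    (DualFMLib.lpullRestrIso T.ι).symm ≪≫ l₆.symm ≪≫ l₅.symm ≪≫
      Functor.isoWhiskerRight (l₄.symm ≪≫ Functor.isoWhiskerRight (DualFMLib.lpullRestrIso V.ι) (DCoh.Lpull S.ι) ≪≫
        Functor.isoWhiskerLeft (DCoh.restrictD V.ι) (DualFMLib.lpullRestrIso S.ι)) (DCoh.Lpull σ.inv)
  have hamp : ∀ y ∈ T, RelFlatLib.AmpD f (ta - n) (tb - n) (DerivedCategory.Q.obj E) y := by
    rintro _ ⟨s, rfl⟩
    change RelFlatLib.AmpD f (ta - n) (tb - n) (DerivedCategory.Q.obj E) (V.ι (S.ι s))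
    refine (RelFlatLib.ampD_res_iff V.ι f (S.ι s) _ _ _).1 ?_
    refine (RelFlatLib.ampD_res_iff S.ι (V.ι ≫ f) s _ _ _).1 (RelFlatLib.ampD_of_iso _
      (eS ≪≫ (shiftFunctor _ (n : ℤ)).mapIso fk.symm).symm ?_)
    have h1 : RelFlatLib.AmpD (S.ι ≫ V.ι ≫ f) ta tb ((DCoh.restrictD S.ι).obj (DerivedCategory.Q.obj Ek)) s := by
      refine (RelFlatLib.ampD_res_iff S.ι (V.ι ≫ f) s _ _ _).2 ?_
      refine (RelFlatLib.ampD_congr hgι).1 ((RelFlatLib.ampD_target_iff g W.ι _ _ _ _).2 ?_)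
      refine (RelFlatLib.ampD_congr hkh).1 ((RelFlatLib.ampD_rep (k ≫ h) (Iso.refl _) _).2 ?_)
      exact (RelFlatLib.ampAt_push_iff k h _ ta tb Ek).1 (hA₁ _ s.2.2)
    exact DRingLib.hasTorAmplitudeIn_of_iso
      (((DerSch.stalkOver (S.ι ≫ V.ι ≫ f) s).mapDerivedCategory.commShiftIso (n : ℤ)).app _).symm
      (DRingLib.hasTorAmplitudeIn_shift h1 n)
  refine ⟨T, ⟨⟨z, hzA⟩, rfl⟩, ⟨bk - n, ?_⟩, ⟨_, _, hamp⟩, ⟨key.app R ≪≫ (DCoh.Lpull σ.inv).mapIso (eR ≪≫ DualFMLib.inDUnit _) ≪≫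
    KiehlLib.lpullUnitIso σ.inv ≪≫ (DualFMLib.inDUnit _).symm⟩⟩
  haveI : DerivedCategory.TStructure.t.IsLE
      (((DCoh.restrictD V.ι ⋙ DCoh.restrictD S.ι) ⋙ DCoh.Lpull σ.inv).obj (DerivedCategory.Q.obj E)) (bk - n) :=
    TensorPCLib.isLE_lpull σ.inv
      ((DCoh.restrictD S.ι).obj ((DCoh.restrictD V.ι).obj (DerivedCategory.Q.obj E))) (bk - n)
  exact DerivedCategory.TStructure.t.isLE_of_iso (key.symm.app (DerivedCategory.Q.obj E)) _

end ShriekLib
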