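import Groth.Agent.FLILib.LowVanish
import Groth.Agent.FLILib.Global
import Groth.Agent.FLILib.Invertible
import Groth.Agent.RHomOLib.Ext
import Groth.Agent.ExtShLib.Dualizing
import Groth.Agent.S3630
import Groth.Agent.S3634

/-!
# The shriek of the structure sheaf along a regular closed immersion
-/

set_option autoImplicit false
set_option linter.style.haveILetI false
set_option linter.unusedSectionVars false
set_option backward.isDefEq.respectTransparency false
set_option backward.isDefEq.respectTransparency.types false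
set_option maxHeartbeats 1000000
set_option synthInstance.maxHeartbeats 200000

universe u

open CategoryTheory CategoryTheory.Limits AlgebraicGeometry TopologicalSpace Opposite
open Groth.Agent

attribute [local instance] HasDerivedCategory.standard

noncomputable section

namespace ShriekLib

variable {P X : Scheme.{u}} (ι : X ⟶ P) [IsClosedImmersion ι] {c : ℕ}

/-- The Ext sheaves of a regular immersion vanish above the codimension. -/
theorem isZero_homology_gt
    (hcov : ∀ z : X, ∃ (U : P.affineOpens) (g : Fin c → Γ(P, U.1)), ι z ∈ U.1 ∧ FLI.IsChart ι U g)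
    {F : P.Modules} (I : InjectiveResolution F) {q : ℕ} (hq : c < q) :
    IsZero ((ExtShLib.hcx (ExtShLib.pO ι) I).homology q) := by
  refine KFlatLib.isZero_of_stalks fun y => ?_
  show Subsingleton (CohCmpLib.stk ((ExtShLib.hcx (ExtShLib.pO ι) I).homology q) y)
  by_cases hr : y ∈ Set.range ⇑ι
  · obtain ⟨z, rfl⟩ := hr
    obtain ⟨U, g, hz, h⟩ := hcov z
    refine subsingleton_of_forall_eq 0 fun e => ?_
    obtain ⟨w, hw⟩ := FLI.cls_surjective (I := I) e
    refine (hw.eq_zero_iff h hz).2 ?_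
    obtain ⟨x, -, -, hx⟩ := FLI.zig_surj (FLI.colS I (ι z)) q (c + 1) (q - (c + 1)) (by omega) w hw.closed
      (hw.killed h hz)
    refine FLI.zig_bdy (FLI.dS_dS I (ι z)) (fun p => h.reg_stalk (I.cocomplex.X p) hz) hx ?_
    rw [FLI.alt_eq_zero_of_lt (Nat.lt_succ_self c) x]
    generalize q - (c + 1) = k
    cases k with
    | zero => exact rfl
    | succ k => exact ⟨0, FLI.dl_zero _, AlternatingMap.ext fun _ => map_zero (FLI.dS I (ι z) k)⟩
  · exact FLI.subsingleton_homology_stalk q hr

/-- `a(O) = Hom(det C, O)[-c]` for a regular closed immersion of codimension `c`. -/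
theorem nonempty_shriek_regular [IsNoetherian P]
    (hι : RegImm.IsRegularImmersionOfCodim RegImm.Kind.regular c ι) (L : X.Modules)
    (hL : ExtPow.IsExtPow c (Omega.conormal ι) L) [DCoh.HasRpush ι] (h : DCoh.RpushPreservesQCoh ι)
    (a : DCoh.DQCoh P ⥤ DCoh.DQCoh X) (adj : DCoh.RpushQ ι h ⊣ a) (O : DCoh.DQCoh P)
    (hO : Nonempty (O.obj ≅ DCoh.inD P (Coh.structureModule P))) :
    Nonempty ((a.obj O).obj ≅
      (DCoh.inD X (CohCmpLib.homMod L (Coh.structureModule X)))⟦-(c : ℤ)⟧) := by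
  obtain ⟨φ₀, hφ⟩ := hL
  have hcov := FLI.exists_chart hι
  haveI : EnoughInjectives P.Modules := IsGrothendieckAbelian.enoughInjectives.{u}
  haveI : Dual3.HasHomO ι := S3630.result _ _ _
  obtain ⟨eO⟩ := hO
  have hb : Dual3.IsBddBelowQ P O := by
    haveI : (DCoh.inD P (Coh.structureModule P)).IsGE 0 := inferInstance
    exact ⟨0, DerivedCategory.TStructure.t.isGE_of_iso eO.symm 0⟩
  obtain ⟨ea⟩ := S3634.result _ _ ι h a adj
  let I : InjectiveResolution (Coh.structureModule P) := injectiveResolution _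
  obtain ⟨hneg, hpos⟩ := RHomOLib.nonempty_push_HD_RHomO ι ((Dual3.bddToPlus P).obj ⟨O, hb⟩) eO I
  let K := ((Dual3.RHomOPlus ι).obj ((Dual3.bddToPlus P).obj ⟨O, hb⟩)).obj
  have hne : ∀ j : ℤ, j ≠ (c : ℤ) → IsZero (DCoh.HD K j) := fun j hj => by
    rcases lt_or_ge j 0 with hj0 | hj0
    · exact hneg j hj0
    · obtain ⟨k, rfl⟩ := Int.eq_ofNat_of_zero_le hj0
      obtain ⟨e⟩ := hpos k
      refine ImmPCLib.isZero_of_push ι (IsZero.of_iso ?_ e)
      rcases Nat.lt_or_gt_of_ne (fun h' : k = c => hj (by rw [h'])) with hk | hk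
      · exact FLI.isZero_homology_lt hcov (ExtShLib.isFinLocFree_structureModule P) I hk
      · exact isZero_homology_gt ι hcov I hk
  obtain ⟨e1⟩ := hpos c
  obtain ⟨e2⟩ := FLI.nonempty_iso (I := I) φ₀ hφ hcov
  obtain ⟨ff⟩ := ExtShLib.push_fullyFaithful ι
  haveI : K.IsGE (c : ℤ) := (DerivedCategory.isGE_iff K _).2 fun j hj => hne j (by omega)
  haveI : K.IsLE (c : ℤ) := (DerivedCategory.isLE_iff K _).2 fun j hj => hne j (by omega)
  obtain ⟨es⟩ := DerLib.Devissage.nonempty_iso_single K (c : ℤ)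
  exact ⟨ea.app ⟨O, hb⟩ ≪≫ es ≪≫
    (DerivedCategory.singleFunctor _ (c : ℤ)).mapIso
      (ff.preimageIso (e1 ≪≫ e2.symm) ≪≫ (PnDualLib.homFun L).mapIso (KFlatLib.pullUnitIso ι)) ≪≫
    (((DerivedCategory.singleFunctors _).shiftIso (-(c : ℤ)) (c : ℤ) 0 (by omega)).app _).symm⟩

end ShriekLib
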