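import Groth.Agent.ShriekLib.Sect
import Groth.Agent.ShriekLib.RegDet
import Groth.Agent.FMKLib.DualWIT
import Groth.Agent.FMKLib.DualPhi
import Groth.Agent.FMTransLib.TDNat
import Groth.Agent.QSecLib.Scheme
import Groth.Agent.PerfModLib.Smooth
import Groth.Agent.PerfModLib.Mor

/-!
# The upper shriek of a smooth morphism
-/

set_option autoImplicit false
set_option linter.style.haveILetI false
set_option linter.unusedSectionVars false
set_option backward.isDefEq.respectTransparency false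
set_option backward.isDefEq.respectTransparency.types false
set_option maxHeartbeats 1000000
set_option synthInstance.maxHeartbeats 200000

universe u

open CategoryTheory CategoryTheory.Limits AlgebraicGeometry
open Groth.Agent Groth.Agent.FMTransLib Groth.Agent.PerfDualLib Groth.Agent.FMKLib

attribute [local instance] HasDerivedCategory.standard

noncomputable section

namespace ShriekLib

/-- Twists by inverse modules cancel. -/
theorem nonempty_twist_cancel {X : Scheme.{u}} (M L : X.Modules) (hL : PicF.IsInvertible L)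
    (e : CohB1.tensorMod M L ≅ Coh.structureModule X) [DCoh.HasLTensorCx (oneCx M)]
    [DCoh.HasLTensorCx (oneCx L)] :
    Nonempty (DCoh.LTensorCx (oneCx M) ⋙ DCoh.LTensorCx (oneCx L) ≅ 𝟭 (DCoh.D X)) := by
  let T := ((DCoh.tensorCx (X := X)).obj (oneCx M)).obj (oneCx L)
  haveI := KFlatLib.hasLTensorCx T
  haveI := KFlatLib.hasLTensorCx (unitCx X)
  have hk := FMTransLib.isKFlat_oneCx hL
  obtain ⟨c⟩ := TensorAssocLib.nonempty_lTensor_comp (oneCx M) (oneCx L) hk
  obtain ⟨s⟩ := FMKLib.nonempty_lTensor_single L hk M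
  obtain ⟨d⟩ := ProjFormLib.nonempty_lTensor_congr_iso (M := T) (N := unitCx X)
    (((Dual3Lib.flatCnt' (oneCx L) hk).app (oneCx M)).symm ≪≫ (DCoh.LTensorCx (oneCx L)).mapIso (oneCxIso M) ≪≫ s ≪≫
      (DerivedCategory.singleFunctor X.Modules 0).mapIso ((KoszOrthLib.tRNat L).symm.app M ≪≫ e) ≪≫
      (oneCxIso _).symm)
  obtain ⟨u⟩ := nonempty_ltCx_unit (X := X)
  exact ⟨c ≪≫ d ≪≫ u⟩

/-- `f^!O = det Ω[n]` for smooth `f` of relative dimension `n`, through any compactification. -/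
theorem nonempty_shriek_smooth_structureSheaf {X Y Xb : Scheme.{u}} [IsNoetherian Y] (n : ℕ) (f : X ⟶ Y)
    [SmoothOfRelativeDimension n f] (j : X ⟶ Xb) (p : Xb ⟶ Y) [IsOpenImmersion j] [IsProper p] (hf : j ≫ p = f)
    [DCoh.HasRpush p] (hp : DCoh.RpushPreservesQCoh p) (a : DCoh.DQCoh Y ⥤ DCoh.DQCoh Xb)
    (adj : DCoh.RpushQ p hp ⊣ a) (O : DCoh.DQCoh Y)
    (hO : Nonempty (O.obj ≅ DCoh.inD Y (Coh.structureModule Y))) (L : X.Modules)
    (hL : ExtPow.IsExtPow n (Omega.sheaf f) L) :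
    Nonempty ((DCoh.restrictD j).obj (a.obj O).obj ≅ (DCoh.inD X L)⟦(n : ℤ)⟧) := by
  haveI : Smooth f := SmoothOfRelativeDimension.smooth n f
  haveI := isNoetherian_of_proper p
  haveI : CompactSpace X := QuasiCompact.compactSpace_of_compactSpace j
  haveI : IsLocallyNoetherian X := isLocallyNoetherian_of_isOpenImmersion j
  haveI : IsNoetherian X := ⟨⟩
  haveI : IsSeparated f := by rw [← hf]; infer_instance
  haveI : QuasiCompact f := quasiCompact_of_compactSpace f
  haveI : IsLocallyNoetherian (pullback f f) := LocallyOfFiniteType.isLocallyNoetherian (pullback.snd f f ≫ f)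
  haveI : CompactSpace ↥(pullback f f) := QuasiCompact.compactSpace_of_compactSpace (pullback.snd f f ≫ f)
  haveI : IsNoetherian (pullback f f) := ⟨⟩
  haveI : SmoothOfRelativeDimension n (pullback.snd f f) :=
    haveI := smoothOfRelativeDimension_isStableUnderBaseChange.{u} n
    MorphismProperty.pullback_snd (P := @SmoothOfRelativeDimension n) _ _ inferInstance
  haveI : Smooth (pullback.snd f f) := SmoothOfRelativeDimension.smooth n _
  let Δ := pullback.diagonal f
  haveI : IsClosedImmersion Δ := inferInstance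
  have hΔ : Δ ≫ pullback.snd f f = 𝟙 X := pullback.diagonal_snd f
  haveI : IsIso (Δ ≫ pullback.snd f f) := by rw [hΔ]; infer_instance
  haveI : IsOpenImmersion (Δ ≫ pullback.snd f f) := inferInstance
  have hreg : RegImm.IsRegularImmersionOfCodim RegImm.Kind.regular n Δ :=
    QSecLib.regularOfCodim_of_smooth (pullback.snd f f) Δ n
      fun z => FibDimLib.fibreDimAt_smoothOfRelativeDimension n (pullback.snd f f) (Δ z)
  have hperf : MoreMor.IsPerfectMor Δ :=
    PerfModLib.perfectMor_cancel_smooth Δ (pullback.snd f f) (PerfModLib.perfectMor_of_flat _)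
  have hLi : PicF.IsInvertible L := FLI.isInvertible_det (ι := Δ) hL (FLI.exists_chart hreg)
  obtain ⟨e⟩ := MiscFlat6.nonempty_dualIso hLi
  let M := MiscFlat6.dual L
  let eM : CohCmpLib.homMod L (Coh.structureModule X) ≅ M :=
    FLI.homModIso e _ ≪≫ KFlatLib.tensSwap (Coh.structureModule X) M ≪≫ KFlatLib.tensUnitIso _
  haveI := KFlatLib.hasLpull f
  haveI := KFlatLib.hasLpull (Δ ≫ pullback.snd f f)
  haveI := KFlatLib.hasLTensorCx (oneCx M)
  haveI := KFlatLib.hasLTensorCx (oneCx L)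
  let E : Cx X := (oneCx M)⟦(-(n : ℤ))⟧
  haveI := KFlatLib.hasLTensorCx E
  let qE : DerivedCategory.Q.obj E ≅ (DerivedCategory.Q.obj (oneCx M))⟦(-(n : ℤ))⟧ :=
    (DerivedCategory.Q.commShiftIso (-(n : ℤ))).app _
  obtain ⟨key⟩ := nonempty_shriek_sect_key f j p hf hp a adj Δ
    ((pullback.diagonal_fst f).trans hΔ.symm) hperf E
    (fun {_} h ai hai O' hO' => (nonempty_shriek_regular Δ hreg L hL h ai hai O' hO').map fun x =>
      x ≪≫ (shiftFunctor _ (-(n : ℤ))).mapIso
        ((DerivedCategory.singleFunctor X.Modules 0).mapIso eM ≪≫ (oneCxIso M).symm) ≪≫ qE.symm)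
  obtain ⟨es⟩ := nonempty_ltCx_shift E (oneCx M) (-(n : ℤ)) qE
  obtain ⟨cc⟩ := nonempty_twist_cancel M L hLi (KFlatLib.tensSwap L M ≪≫ e)
  obtain ⟨sL⟩ := FMKLib.nonempty_lTensor_single L (FMTransLib.isKFlat_oneCx hLi) (Coh.structureModule X)
  obtain ⟨id₁⟩ := Dual3Lib.nonempty_lpull_id (Δ ≫ pullback.snd f f) hΔ
  obtain ⟨eO⟩ := hO
  have hb : Dual3.IsBddBelowQ Y O := by
    haveI : (DCoh.inD Y (Coh.structureModule Y)).IsGE 0 := inferInstance
    exact ⟨0, DerivedCategory.TStructure.t.isGE_of_iso eO.symm 0⟩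
  let A := (DCoh.restrictD j).obj (a.obj O).obj
  let lO : (DCoh.Lpull f).obj O.obj ≅ DCoh.inD X (Coh.structureModule X) :=
    (DCoh.Lpull f).mapIso (eO ≪≫ DualFMLib.inDUnit Y) ≪≫ KiehlLib.lpullUnitIso f ≪≫ (DualFMLib.inDUnit X).symm
  -- `A ⊗ M = O[n]`
  let k₁ : ((DCoh.LTensorCx (oneCx M)).obj A)⟦(-(n : ℤ))⟧ ≅ DCoh.inD X (Coh.structureModule X) :=
    (es.app A).symm ≪≫ (DCoh.LTensorCx E).mapIso (id₁.app A).symm ≪≫ key.app ⟨O, hb⟩ ≪≫ id₁.app _ ≪≫ lO
  let k₂ : (DCoh.LTensorCx (oneCx M)).obj A ≅ (DCoh.inD X (Coh.structureModule X))⟦(n : ℤ)⟧ :=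
    ((shiftFunctorCompIsoId (DCoh.D X) (-(n : ℤ)) (n : ℤ) (neg_add_cancel _)).app _).symm ≪≫
      (shiftFunctor _ (n : ℤ)).mapIso k₁
  obtain ⟨t⟩ := FMKLib.nonempty_lTensor_shift (oneCx L) (DCoh.inD X (Coh.structureModule X)) (n : ℤ)
  exact ⟨(cc.app A).symm ≪≫ (DCoh.LTensorCx (oneCx L)).mapIso k₂ ≪≫ t ≪≫ (shiftFunctor _ (n : ℤ)).mapIso
    (sL ≪≫ (DerivedCategory.singleFunctor X.Modules 0).mapIso
      ((KoszOrthLib.tRNat L).symm.app _ ≪≫ HilbPolyLib.unitLeft L))⟩

end ShriekLib
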