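import Groth.Agent.ShriekLib.FlatBC
import Groth.Agent.Dual3Lib.LpullTensorNat

/-!
# The upper shriek of an étale morphism
-/

set_option autoImplicit false
set_option linter.style.haveILetI false
set_option linter.unusedSectionVars false
set_option backward.isDefEq.respectTransparency false
set_option backward.isDefEq.respectTransparency.types false
set_option maxHeartbeats 1000000
set_option synthInstance.maxHeartbeats 200000

universe u

open CategoryTheory CategoryTheory.Limits AlgebraicGeometry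
open Groth.Agent

attribute [local instance] HasDerivedCategory.standard

namespace ShriekLib

/-- `f^! = f^*` for étale `f`. -/
theorem nonempty_shriek_etale {X Y Xb : Scheme.{u}} [IsNoetherian Y] (f : X ⟶ Y) [Etale f]
    (j : X ⟶ Xb) (p : Xb ⟶ Y) [IsOpenImmersion j] [IsProper p] (hf : j ≫ p = f)
    [DCoh.HasRpush p] (hp : DCoh.RpushPreservesQCoh p) (a : DCoh.DQCoh Y ⥤ DCoh.DQCoh Xb)
    (adj : DCoh.RpushQ p hp ⊣ a) [DCoh.HasLpull f] :
    Nonempty (Dual3.bddι Y ⋙ a ⋙ ObjectProperty.ι _ ⋙ DCoh.restrictD j ≅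
      Dual3.bddι Y ⋙ ObjectProperty.ι _ ⋙ DCoh.Lpull f) := by
  haveI := isNoetherian_of_proper p
  haveI : CompactSpace X := QuasiCompact.compactSpace_of_compactSpace j
  haveI : IsLocallyNoetherian X := isLocallyNoetherian_of_isOpenImmersion j
  haveI : IsNoetherian X := ⟨⟩
  haveI : IsSeparated f := by rw [← hf]; infer_instance
  let pr1 := pullback.fst f f
  let pr2 := pullback.snd f f
  let Δ := pullback.diagonal f
  haveI : IsOpenImmersion Δ := inferInstance
  let pP := pullback.snd p f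
  haveI := isNoetherian_of_proper pP
  let jP : pullback f f ⟶ pullback p f :=
    pullback.lift (pr1 ≫ j) pr2 (by rw [Category.assoc, hf, pullback.condition])
  have hj₂ : jP ≫ pP = pr2 := pullback.lift_snd _ _ _
  haveI : IsOpenImmersion jP := by
    have hpb : IsPullback jP pr1 (pullback.fst p f) j := by
      refine (IsPullback.of_bot ?_ (pullback.lift_fst _ _ _).symm (IsPullback.of_hasPullback p f)).flip
      rw [hj₂, hf]
      exact IsPullback.of_hasPullback f f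
    exact MorphismProperty.of_isPullback (P := @IsOpenImmersion) hpb.flip inferInstance
  haveI : CompactSpace ↥(pullback f f) := QuasiCompact.compactSpace_of_compactSpace jP
  haveI : IsLocallyNoetherian (pullback f f) := isLocallyNoetherian_of_isOpenImmersion jP
  haveI : IsNoetherian (pullback f f) := ⟨⟩
  haveI := DCohRestrLib.hasRpush pP
  haveI := KFlatLib.hasLpull pr1
  haveI := DCohRestrLib.hasRpush Δ
  haveI := KFlatLib.hasLpull Δ
  haveI := KFlatLib.hasLpull (Δ ≫ pr1)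
  haveI := DCohRestrLib.hasRpush (𝟙 X)
  haveI := KFlatLib.hasLpull (𝟙 X)
  have hLf : Dual3.LpullPreservesQCoh f := KFlatLib.isQCohD_lpull f
  obtain ⟨aP, ⟨adjP⟩⟩ := exists_rightAdjoint pP (hpush pP)
  obtain ⟨e⟩ := nonempty_shriek_flatBC f f pr2 pr1 (IsPullback.of_hasPullback f f) j p hf jP pP hj₂ hp (hpush pP)
    a aP adj adjP hLf
  have hΔ : (Δ ≫ jP) ≫ pP = 𝟙 X := by rw [Category.assoc, hj₂]; exact pullback.diagonal_snd f
  obtain ⟨eo⟩ := nonempty_shriek_openImmersion pP (hpush pP) aP adjP (𝟙 X) (Δ ≫ jP) hΔ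
  obtain ⟨cΔ⟩ := nonempty_restrictQ_comp Δ jP (Δ ≫ jP) rfl
  obtain ⟨c₁⟩ := KFlatLib.lpull_comp Δ pr1
  obtain ⟨i₁⟩ := Dual3Lib.nonempty_lpull_id (Δ ≫ pr1) (pullback.diagonal_fst f)
  obtain ⟨i₂⟩ := Dual3Lib.nonempty_lpull_id (𝟙 X) rfl
  let u : DCoh.Lpull pr1 ⋙ DCoh.restrictD Δ ≅ 𝟭 _ :=
    Functor.isoWhiskerLeft (DCoh.Lpull pr1) (DualFMLib.lpullRestrIso Δ).symm ≪≫ c₁ ≪≫ i₁
  let v : DCoh.restrictD (𝟙 X) ≅ 𝟭 _ := (DualFMLib.lpullRestrIso (𝟙 X)).symm ≪≫ i₂
  let L : (Dual3.IsBddBelowQ Y).FullSubcategory ⥤ (Dual3.IsBddBelowQ X).FullSubcategory :=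
    ObjectProperty.lift _ (Dual3.bddι Y ⋙ Dual3.LpullQ f hLf) fun K => by
      obtain ⟨n, hn⟩ := K.property
      haveI := hn
      exact ⟨n, DualFMLib.isGE_lpull_flat f K.obj.obj n⟩
  exact ⟨(Functor.rightUnitor _).symm ≪≫
    Functor.isoWhiskerLeft (Dual3.bddι Y ⋙ a ⋙ ObjectProperty.ι _ ⋙ DCoh.restrictD j) u.symm ≪≫
    Functor.isoWhiskerRight e (DCoh.restrictD Δ) ≪≫
    Functor.isoWhiskerRight (Functor.isoWhiskerLeft (Dual3.bddι Y ⋙ Dual3.LpullQ f hLf ⋙ aP) cΔ)
      (ObjectProperty.ι _) ≪≫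
    Functor.isoWhiskerRight (Functor.isoWhiskerLeft L eo) (ObjectProperty.ι _) ≪≫
    Functor.isoWhiskerLeft (Dual3.bddι Y ⋙ Dual3.LpullQ f hLf ⋙ ObjectProperty.ι _) v ≪≫
    Functor.rightUnitor _⟩

end ShriekLib
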