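import Groth.Agent.ShriekLib.RHomPull
import Groth.Agent.ShriekLib.Perfect
import Groth.Agent.BidualSchLib.Main
import Groth.Agent.BidualSchLib.BddInj
import Groth.Agent.DCohRestrLib.RHomRestr
import Groth.Agent.PerfCompLib.ExtZero

/-!
# Restricting internal homs along open immersions, and upper bounds of duals
-/

set_option autoImplicit false
set_option linter.style.haveILetI false
set_option linter.unusedSectionVars false
set_option backward.isDefEq.respectTransparency false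
set_option backward.isDefEq.respectTransparency.types false
set_option maxHeartbeats 1000000
set_option synthInstance.maxHeartbeats 200000

universe u

open CategoryTheory CategoryTheory.Limits AlgebraicGeometry HomologicalComplex
open Groth.Agent Groth.Agent.DerLib Groth.Agent.FMTransLib Groth.Agent.PerfDualLib

attribute [local instance] HasDerivedCategory.standard

noncomputable section

namespace ShriekLib

/-- Internal homs commute with the derived pullback along an isomorphism. -/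
theorem nonempty_rSheafHom_lpull_iso {X Y : Scheme.{u}} [IsNoetherian X] [IsNoetherian Y] (σ : X ⟶ Y) [IsIso σ]
    [DCoh.HasLpull σ] (E : Cx Y) (hE : DCoh.IsKFlat E) [DCoh.HasLTensorCx E] [DCoh.HasRSheafHom E]
    [DCoh.HasLTensorCx ((KFlatLib.pullCx σ).obj E)] [DCoh.HasRSheafHom ((KFlatLib.pullCx σ).obj E)] :
    Nonempty (DCoh.RSheafHom E ⋙ DCoh.Lpull σ ≅
      DCoh.Lpull σ ⋙ DCoh.RSheafHom ((KFlatLib.pullCx σ).obj E)) := by
  haveI := KFlatLib.hasLpull (inv σ)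
  haveI := KFlatLib.hasLpull (σ ≫ inv σ)
  haveI := KFlatLib.hasLpull (inv σ ≫ σ)
  haveI := DCohRestrLib.hasRpush (𝟙 X)
  haveI := DCohRestrLib.hasRpush (𝟙 Y)
  haveI := KFlatLib.hasLpull (𝟙 X)
  haveI := KFlatLib.hasLpull (𝟙 Y)
  obtain ⟨c₁⟩ := KFlatLib.lpull_comp σ (inv σ)
  obtain ⟨c₂⟩ := KFlatLib.lpull_comp (inv σ) σ
  obtain ⟨g₁⟩ := nonempty_lpull_congrNat (f := σ ≫ inv σ) (f' := 𝟙 X) (IsIso.hom_inv_id σ)
  obtain ⟨g₂⟩ := nonempty_lpull_congrNat (f := inv σ ≫ σ) (f' := 𝟙 Y) (IsIso.inv_hom_id σ)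
  obtain ⟨i₁⟩ := Dual3Lib.nonempty_lpull_id (𝟙 X) rfl
  obtain ⟨i₂⟩ := Dual3Lib.nonempty_lpull_id (𝟙 Y) rfl
  let G := DCoh.Lpull σ
  let G' := DCoh.Lpull (inv σ)
  let e : DCoh.D Y ≌ DCoh.D X := CategoryTheory.Equivalence.mk G G' (c₂ ≪≫ g₂ ≪≫ i₂).symm (c₁ ≪≫ g₁ ≪≫ i₁)
  let E' := (KFlatLib.pullCx σ).obj E
  obtain ⟨t⟩ := Dual3Lib.nonempty_lTensor_lpull σ E hE
  let τ : G ⋙ DCoh.LTensorCx E' ⋙ G' ≅ DCoh.LTensorCx E :=
    (Functor.associator _ _ _).symm ≪≫ Functor.isoWhiskerRight t.symm G' ≪≫ Functor.associator _ _ _ ≪≫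
      Functor.isoWhiskerLeft _ e.unitIso.symm ≪≫ Functor.rightUnitor _
  let adj₁ : DCoh.LTensorCx E ⊣ (G ⋙ DCoh.RSheafHom E') ⋙ G' :=
    (((e.toAdjunction).comp ((DCoh.RSheafHomAdj E').comp e.symm.toAdjunction)).ofNatIsoLeft τ)
  let r := (DCoh.RSheafHomAdj E).rightAdjointUniq adj₁
  exact ⟨Functor.isoWhiskerRight r G ≪≫ Functor.associator _ _ _ ≪≫
    Functor.isoWhiskerLeft _ e.counitIso ≪≫ Functor.rightUnitor _⟩

/-- Internal homs commute with restriction along open immersions. -/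
theorem nonempty_restrictD_rSheafHom {X Y : Scheme.{u}} [IsNoetherian X] [IsNoetherian Y] (j : X ⟶ Y)
    [IsOpenImmersion j] (P : Cx Y) [DCoh.HasLTensorCx P] [DCoh.HasRSheafHom P] (N : Cx X)
    [DCoh.HasLTensorCx N] [DCoh.HasRSheafHom N]
    (eN : DerivedCategory.Q.obj N ≅ (DCoh.restrictD j).obj (DerivedCategory.Q.obj P)) (L : DCoh.D Y) :
    Nonempty ((DCoh.restrictD j).obj ((DCoh.RSheafHom P).obj L) ≅
      (DCoh.RSheafHom N).obj ((DCoh.restrictD j).obj L)) := by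
  let U := j.opensRange
  let σ := j.isoOpensRange.hom
  haveI : IsLocallyNoetherian (U : Scheme.{u}) := isLocallyNoetherian_of_isOpenImmersion U.ι
  haveI : IsNoetherian (U : Scheme.{u}) :=
    { toCompactSpace := isCompact_iff_compactSpace.mp (TopologicalSpace.NoetherianSpace.isCompact _) }
  haveI := DCohRestrLib.hasRpush U.ι
  haveI := DCohRestrLib.hasRpush j
  haveI := KFlatLib.hasLpull U.ι
  haveI := KFlatLib.hasLpull j
  haveI := KFlatLib.hasLpull σ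
  haveI := KFlatLib.hasLpull (σ ≫ U.ι)
  obtain ⟨c⟩ := KFlatLib.lpull_comp σ U.ι
  obtain ⟨g⟩ := nonempty_lpull_congrNat (f := σ ≫ U.ι) (f' := j) (Scheme.Hom.isoOpensRange_hom_ι j)
  let key : DCoh.restrictD j ≅ DCoh.restrictD U.ι ⋙ DCoh.Lpull σ :=
    (DualFMLib.lpullRestrIso j).symm ≪≫ g.symm ≪≫ c.symm ≪≫
      Functor.isoWhiskerRight (DualFMLib.lpullRestrIso U.ι) (DCoh.Lpull σ)
  let PU := (DCohRestrLib.resCx U).obj P
  haveI := KFlatLib.hasLTensorCx PU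
  haveI := BidualSchLib.hasRSheafHom PU
  obtain ⟨ρ⟩ := DCohRestrLib.nonempty_restrict_RSheafHom U P
  obtain ⟨W, hW, ⟨eW⟩⟩ := exists_kFlat_model (DerivedCategory.Q.obj PU)
  haveI := KFlatLib.hasLTensorCx W
  haveI := BidualSchLib.hasRSheafHom W
  let W' := (KFlatLib.pullCx σ).obj W
  haveI := KFlatLib.hasLTensorCx W'
  haveI := BidualSchLib.hasRSheafHom W'
  obtain ⟨rσ⟩ := nonempty_rSheafHom_lpull_iso σ W hW
  obtain ⟨c₁⟩ := FMKLib.nonempty_rSheafHom_congr eW.symm ((DCoh.restrictD U.ι).obj L)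
  let q : (DCoh.restrictD U.ι).obj (DerivedCategory.Q.obj P) ≅ DerivedCategory.Q.obj PU :=
    (Scheme.Modules.restrictFunctor U.ι).mapDerivedCategoryFactors.app P
  obtain ⟨c₂⟩ := FMKLib.nonempty_rSheafHom_congr (K := W') (K' := N)
    ((KFlatLib.lpullObjIso σ W hW).symm ≪≫ (DCoh.Lpull σ).mapIso (eW ≪≫ q.symm) ≪≫ key.symm.app _ ≪≫ eN.symm)
    ((DCoh.restrictD j).obj L)
  exact ⟨key.app _ ≪≫ (DCoh.Lpull σ).mapIso (ρ.app L ≪≫ c₁) ≪≫ rσ.app _ ≪≫
    (DCoh.RSheafHom W').mapIso (key.symm.app L) ≪≫ c₂⟩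

/-- The dual of a bounded below object into a dualizing complex is bounded above. -/
theorem exists_isLE_rSheafHom_dualizing {Y : Scheme.{u}} [IsNoetherian Y]
    [∀ (U : Scheme.{u}) (j : U ⟶ Y) [IsOpenImmersion j], PreservesFiniteLimits (Scheme.Modules.restrictFunctor j)]
    [∀ (R : CommRingCat.{u}), PreservesFiniteLimits (tilde.functor R)] {K : DCoh.D Y}
    (hK : Dual2.IsDualizingSch Y K) (L : Cx Y) [DCoh.HasLTensorCx L] [DCoh.HasRSheafHom L] (c : ℤ)
    (hL : ∀ i : ℤ, i < c → IsZero (DCoh.HD (DerivedCategory.Q.obj L) i)) :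
    ∃ b : ℤ, ((DCoh.RSheafHom L).obj K).IsLE b := by
  obtain ⟨J, hJ, ⟨e⟩⟩ := KInjUse.exists_iso_Q_kInjective K
  haveI := hJ
  obtain ⟨r⟩ := Groth.Agent.PerfDualLib.nonempty_rSheafHom_iso L J e.symm
  have h : ∀ y : Y, ∃ (U : Y.Opens) (a b : ℤ), y ∈ U ∧ BidualSchLib.BddOn U J a b := fun y => by
    obtain ⟨A, _, _, j, _, p, rfl⟩ := DualCxLib.chart_of_point y
    obtain ⟨ω, hω, ⟨e'⟩⟩ := hK A j
    obtain ⟨a, b, hb⟩ := BidualSchLib.exists_bddOn j J hω ((DCoh.restrictD j).mapIso e.symm ≪≫ e')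
    exact ⟨j.opensRange, a, b, ⟨p, rfl⟩, hb⟩
  choose U a b hy hU using h
  obtain ⟨t, ht⟩ := isCompact_univ.elim_finite_subcover (fun y => (U y : Set Y)) (fun y => (U y).isOpen)
    (fun y _ => Set.mem_iUnion.2 ⟨y, hy y⟩)
  obtain ⟨B, hB⟩ := (t.image b).bddAbove
  refine ⟨B - c, (DerivedCategory.isLE_iff _ _).2 fun i hi => ?_⟩
  refine IsZero.of_iso ?_ ((DerivedCategory.homologyFunctor _ i).mapIso r ≪≫
    (DerivedCategory.homologyFunctorFactors _ i).app _)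
  refine (KFlatLib.isZero_homology_iff _ i).2 fun x => ?_
  obtain ⟨y, hy', hxy⟩ := Set.mem_iUnion₂.1 (ht (Set.mem_univ x))
  refine BidualSchLib.isZero_iG_high (hU y) (n := c) (fun z _ q hq => ?_) hxy i ?_
  · exact BidualSchLib.isZero_stalk_of_isZero
      ((hL q hq).of_iso ((DerivedCategory.homologyFunctorFactors _ q).app L).symm) z
  · have := hB (Finset.mem_coe.2 (Finset.mem_image_of_mem b hy'))
    omega

end ShriekLib
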