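import Groth.Agent.ShriekLib.Smooth
import Groth.Agent.Dual3Lib.AmplitudeField
import Groth.Agent.DCohRestrLib.Support
import Groth.Agent.PerfLib.Restrict
import Groth.Agent.LMLib.Dual
import Groth.Agent.RefHullLib.BigOpen
import Groth.Agent.MiscFlat6.FreeStalks
import Groth.Agent.AmpleDevLib.Devissage
import Groth.Agent.QCohLib.AffineFinite
import Groth.Agent.S6876
import Groth.Agent.CohCmpLib.OmegaRank
import Groth.Agent.CurvOpenLib.Smooth
import Groth.Agent.FibDimLib.Comps
import Groth.Agent.MiscFlat6.NormalLowDim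
import Groth.Agent.CurveVBLib.Integral
import Groth.Agent.SeesawLib.Pulled
import Groth.Agent.FittLib.OmegaFitt
import Groth.Agent.S15540
import Groth.Agent.S7877
import Groth.Agent.S1561

/-!
# The dualizing sheaf of a normal scheme over a perfect field
-/

set_option autoImplicit false
set_option linter.style.haveILetI false
set_option linter.unusedSectionVars false
set_option backward.isDefEq.respectTransparency false
set_option backward.isDefEq.respectTransparency.types false
set_option maxHeartbeats 1000000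
set_option synthInstance.maxHeartbeats 200000

universe u

open CategoryTheory CategoryTheory.Limits AlgebraicGeometry Opposite
open Groth.Agent Groth.Agent.DualCxLib

attribute [local instance] HasDerivedCategory.standard

noncomputable section

namespace ShriekLib

variable [∀ (U V : Scheme.{u}) (j : U ⟶ V) [IsOpenImmersion j], PreservesFiniteLimits (Scheme.Modules.restrictFunctor j)]
  [∀ (R : CommRingCat.{u}), PreservesFiniteLimits (tilde.functor R)]

/-- Dualizing complexes restrict along open immersions. -/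
theorem isDualizingSch_restrictD {X Y : Scheme.{u}} (j : X ⟶ Y) [IsOpenImmersion j] {K : DCoh.D Y}
    (hK : Dual2.IsDualizingSch Y K) : Dual2.IsDualizingSch X ((DCoh.restrictD j).obj K) :=
  fun A _ i _ => by
  obtain ⟨ω, hω, ⟨e⟩⟩ := hK A (i ≫ j)
  obtain ⟨c⟩ := PerfLib.nonempty_resD_comp i j K
  exact ⟨ω, hω, ⟨c.symm ≪≫ e⟩⟩

/-- The shriek of the point has no cohomology below minus the dimension of an open piece. -/
theorem isZero_HD_restrict_lt {k : Type u} [Field k] {X Xb : Scheme.{u}} (f : Xb ⟶ Spec (CommRingCat.of k))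
    [IsProper f] [DCoh.HasRpush f] (hf : DCoh.RpushPreservesQCoh f)
    (a : DCoh.DQCoh (Spec (CommRingCat.of k)) ⥤ DCoh.DQCoh Xb) (adj : DCoh.RpushQ f hf ⊣ a)
    (O : DCoh.DQCoh (Spec (CommRingCat.of k)))
    (eO : O.obj ≅ DCoh.inD (Spec (CommRingCat.of k)) (Coh.structureModule (Spec (CommRingCat.of k))))
    (j : X ⟶ Xb) [IsOpenImmersion j] (d : ℕ) (hd : topologicalKrullDim X ≤ d) (i : ℤ) (hi : i < -(d : ℤ)) :
    IsZero (DCoh.HD ((DCoh.restrictD j).obj (a.obj O).obj) i) := by
  obtain ⟨-, hK⟩ := Dual3Lib.exists_base_point eO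
  haveI : IsLocallyNoetherian Xb := LocallyOfFiniteType.isLocallyNoetherian f
  haveI : CompactSpace Xb := QuasiCompact.compactSpace_of_compactSpace f
  haveI : IsNoetherian Xb := ⟨⟩
  have hω' := Dual3Lib.isDualizingSch_rightAdjoint f hf a adj O hK
  refine (DCohRestrLib.isZero_iff_subsingleton_stalks _).2 fun x => ?_
  rw [DCohRestrLib.subsingleton_stalk_of_iso (DCohRestrLib.restrictHDIso j (a.obj O).obj i) x,
    DCohRestrLib.subsingleton_stalk_restrict]
  obtain ⟨U, hU, hxU, hsub⟩ := exists_isAffineOpen_mem_and_subset (x := j x) (U := j.opensRange) ⟨x, rfl⟩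
  haveI := IsLocallyNoetherian.component_noetherian ⟨U, hU⟩
  obtain ⟨ω, hω, ⟨e⟩⟩ := hω' Γ(Xb, U) hU.fromSpec
  obtain ⟨q, hq⟩ : j x ∈ Set.range hU.fromSpec := by rwa [hU.range_fromSpec]
  have hdim : ringKrullDim Γ(Xb, U) ≤ d := by
    rw [← PrimeSpectrum.topologicalKrullDim_eq_ringKrullDim]
    have hr : Set.range hU.fromSpec ⊆ Set.range j := by rw [hU.range_fromSpec]; exact hsub
    exact ((IsOpenImmersion.lift j hU.fromSpec hr).isOpenEmbedding.isInducing.topologicalKrullDim_le).trans hd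
  rw [← hq]
  by_contra hs
  have hnt : Nontrivial (LocalizedModule q.asIdeal.primeCompl (Dual.HD Γ(Xb, U) ω i)) :=
    not_subsingleton_iff_nontrivial.1 fun h => hs (stalkHD hU.fromSpec e q i).subsingleton
  refine (nontrivial_localized_iff (extHL ω i)).1 hnt (van_of_lt hω q i fun p _ _ => ?_)
  obtain ⟨l, m, -, hm, hlen⟩ := exists_series hω p
  rw [Dual3Lib.deg_maximal_eq_zero f hf a adj O eO hU hω e m hm] at hlen
  have h1 : (l.length : WithBot ℕ∞) ≤ (d : WithBot ℕ∞) := (Order.LTSeries.length_le_krullDim l).trans hdim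
  have h2 : l.length ≤ d := by exact_mod_cast h1
  omega

section Reflexive

/-- The lowest cohomology sheaf of a dualizing complex on a normal scheme is reflexive, zero or not. -/
theorem isReflexive_HD {X : Scheme.{u}} [IsNoetherian X] [ConnectedSpace X] (hX : Pi1.IsNormalScheme X)
    {K : DCoh.D X} (hK : Dual2.IsDualizingSch X K) (n : ℤ) (hlt : ∀ i : ℤ, i < n → IsZero (DCoh.HD K i)) (x : X) :
    Module.IsReflexive (X.presheaf.stalk x) ((DCoh.HD K n).presheaf.stalk x) := by
  by_cases h : IsZero (DCoh.HD K n)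
  · haveI := (DCohRestrLib.isZero_iff_subsingleton_stalks _).1 h x
    haveI : Subsingleton (Module.Dual (X.presheaf.stalk x) ((DCoh.HD K n).presheaf.stalk x)) :=
      ⟨fun f g => LinearMap.ext fun m => by rw [Subsingleton.elim m 0, map_zero, map_zero]⟩
    exact ⟨⟨fun a b _ => Subsingleton.elim a b, fun b => ⟨0, LinearMap.ext fun f => by
      rw [Subsingleton.elim f 0, map_zero, map_zero]⟩⟩⟩
  · exact Groth.Agent.S7877.result X hX K hK n hlt h x

end Reflexive

/-- The smooth locus of an irreducible scheme of dimension `n` has relative dimension `n`. -/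
theorem smoothRel_smoothLocus {k : Type u} [Field k] {X : Scheme.{u}} (p : X ⟶ Spec (CommRingCat.of k))
    [LocallyOfFinitePresentation p] [IrreducibleSpace X] {n : ℕ}
    (hX : topologicalKrullDim X = (n : WithBot ℕ∞)) :
    SmoothOfRelativeDimension n (p.smoothLocus.ι ≫ p) := by
  haveI : Smooth (p.smoothLocus.ι ≫ p) := Scheme.Hom.smoothLocus_eq_top_iff.1 <| by
    rw [← Scheme.Hom.preimage_smoothLocus_eq]
    exact p.smoothLocus.ι_preimage_self
  refine (CurvOpenLib.smoothOfRelativeDimension_iff_forall n _).mpr ⟨inferInstance, fun x => ?_⟩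
  let f := p.smoothLocus.ι ≫ p
  have hopen : Topology.IsOpenEmbedding (f.fiberι (f x)) := by
    refine ⟨(f.fiberι (f x)).isEmbedding, ?_⟩
    rw [Scheme.Hom.range_fiberι, show f ⁻¹' {f x} = Set.univ from
      Set.eq_univ_of_forall fun y => Subsingleton.elim (α := PrimeSpectrum k) _ _]
    exact isOpen_univ
  rw [FlatMor.fibreDimAt, ← FibDimLib.localDim_eq_of_isOpenEmbedding hopen,
    ← FibDimLib.localDim_eq_of_isOpenEmbedding p.smoothLocus.ι.isOpenEmbedding,
    FibDimLib.localDim_of_irreducible p, hX]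

/-- A dual has depth at least two wherever the structure sheaf has. -/
theorem two_le_depth_dual' {X : Scheme.{u}} [IsLocallyNoetherian X] {F : X.Modules} (hF : Coh.IsCoh F) (x : X)
    (h : (2 : ℕ∞) ≤ LocCoh.depth (X.presheaf.stalk x) (X.presheaf.stalk x)) :
    (2 : ℕ∞) ≤ LocCoh.depth (X.presheaf.stalk x) ((RefHull.dual F).presheaf.stalk x) := by
  obtain ⟨e⟩ := RefHullLib.nonempty_dual_stalk hF x
  haveI := hF.1
  haveI := DepthLib.finite_stalk F hF.2 x
  have h2 := (Groth.Agent.S6876.result (X.presheaf.stalk x) (F.presheaf.stalk x) (X.presheaf.stalk x)).2 h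
  unfold LocCoh.depth at h2 ⊢
  rwa [CommAlgDim.idealDepth_congr _ e]

/-- Exterior powers of coherent modules are coherent. -/
theorem isCoh_extPow' {X : Scheme.{u}} {F L : X.Modules} (hF : Coh.IsCoh F) {h : ℕ}
    (hL : ExtPow.IsExtPow h F L) : Coh.IsCoh L := by
  haveI := hF.1
  haveI : Coh.IsQCoh L := by
    obtain ⟨e⟩ := ExtPowLib.nonempty_iso hL (ExtPowLib.isExtPow_ext F h)
    exact (SheafOfModules.isQuasicoherent X.ringCatSheaf).prop_of_iso e.symm (ExtPowLib.isQCoh_ext F h)
  obtain ⟨φ, -⟩ := hL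
  refine ⟨inferInstance, QCohLib.isFT_of_finite fun p => ?_⟩
  obtain ⟨V, hV, hpV⟩ := QCohLib.exists_affine_nhd (X := X) p
  haveI := QCohLib.finite_of_isFT hF.2 hV
  haveI : Module.Finite Γ(X, V) (F.val.obj (op V)) := ‹Module.Finite Γ(X, V) Γ(F, V)›
  exact ⟨V, hV, hpV, Module.Finite.equiv (φ ⟨V, hV⟩).symm⟩

/-- Biduality is invertible where a coherent module is locally free. -/
theorem isIso_restrict_bidual' {X : Scheme.{u}} [IsLocallyNoetherian X] [∀ x : X, IsDomain (X.presheaf.stalk x)]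
    (U : X.Opens) {L : X.Modules} (hL : Coh.IsCoh L) (hLU : FlatMod.IsFinLocFree (L.restrict U.ι)) :
    IsIso ((Scheme.Modules.restrictFunctor U.ι).map (RefHull.bidualMap L)) := by
  refine RefHullLib.isIso_restrict U.ι _ fun v => ?_
  haveI := MiscFlat6.free_stalk_of_isFinLocFree hLU v
  haveI := (RefHullLib.free_restrict_iff U.ι L v).1 inferInstance
  haveI := hL.1
  haveI := DepthLib.finite_stalk L hL.2 (U.ι v)
  exact (RefHullLib.bijective_stalk_bidual_iff hL (U.ι v)).2
    (inferInstanceAs (Module.IsReflexive (X.presheaf.stalk (U.ι v)) (L.presheaf.stalk (U.ι v))))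

/-- The sheaf of homomorphisms respects isomorphisms of the source. -/
theorem nonempty_sheafHom_congr {X : Scheme.{u}} {A B : X.Modules} (e : A ≅ B) [DCoh.HasSheafHom A]
    [DCoh.HasSheafHom B] : Nonempty (DCoh.sheafHom A ≅ DCoh.sheafHom B) :=
  ⟨(DCoh.sheafHomAdj A).rightAdjointUniq
    ((DCoh.sheafHomAdj B).ofNatIsoLeft ((DCoh.tensorBi (X := X)).mapIso e.symm))⟩

/-- `H^{-n}(f^!O) = (Ω^n)^{∨∨}` on a normal scheme of dimension `n` over a perfect field. -/
theorem nonempty_dualizingSheaf_doubleDual {k : Type u} [Field k] [PerfectField k] {X Xb : Scheme.{u}}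
    (p : X ⟶ Spec (CommRingCat.of k)) [LocallyOfFiniteType p] [QuasiCompact p] [IsSeparated p] [ConnectedSpace X]
    (hX : Pi1.IsNormalScheme X) (n : ℕ) (hdim : topologicalKrullDim X = (n : WithBot ℕ∞))
    (j : X ⟶ Xb) (f : Xb ⟶ Spec (CommRingCat.of k)) [IsOpenImmersion j] [IsProper f] (hfac : j ≫ f = p)
    [DCoh.HasRpush f] (hf : DCoh.RpushPreservesQCoh f)
    (a : DCoh.DQCoh (Spec (CommRingCat.of k)) ⥤ DCoh.DQCoh Xb) (adj : DCoh.RpushQ f hf ⊣ a)
    (O : DCoh.DQCoh (Spec (CommRingCat.of k)))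
    (eO : O.obj ≅ DCoh.inD (Spec (CommRingCat.of k)) (Coh.structureModule (Spec (CommRingCat.of k))))
    (W : X.Modules) (hW : ExtPow.IsExtPow n (Omega.sheaf p) W) :
    Nonempty (DCoh.HD ((DCoh.restrictD j).obj (a.obj O).obj) (-(n : ℤ)) ≅ RefHull.ddual W) := by
  haveI : IsLocallyNoetherian X := LocallyOfFiniteType.isLocallyNoetherian p
  haveI : CompactSpace X := QuasiCompact.compactSpace_of_compactSpace p
  haveI : IsNoetherian X := ⟨⟩
  haveI : IsLocallyNoetherian Xb := LocallyOfFiniteType.isLocallyNoetherian f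
  haveI : CompactSpace Xb := QuasiCompact.compactSpace_of_compactSpace f
  haveI : IsNoetherian Xb := ⟨⟩
  haveI : ∀ x : X, IsDomain (X.presheaf.stalk x) := fun x => (hX x).1
  haveI : IsIntegral X := CurveVBLib.isIntegral_of_connected
  haveI : LocallyOfFinitePresentation p := LocallyOfFinitePresentation.iff_locallyOfFiniteType.2 inferInstance
  obtain ⟨-, hK₀⟩ := Dual3Lib.exists_base_point eO
  have hK := isDualizingSch_restrictD j (Dual3Lib.isDualizingSch_rightAdjoint f hf a adj O hK₀)
  have hlt := isZero_HD_restrict_lt f hf a adj O eO j n hdim.le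
  let K := (DCoh.restrictD j).obj (a.obj O).obj
  let ω := DCoh.HD K (-(n : ℤ))
  have hωc : Coh.IsCoh ω := Dual3Lib.isCohD_of_isDualizingSch hK _
  let U := p.smoothLocus
  have hbig : ∀ x : X, x ∉ U → (2 : WithBot ℕ∞) ≤ ringKrullDim (X.presheaf.stalk x) := fun x hx => by
    by_contra h
    refine hx ?_
    letI : X.Over (Spec (CommRingCat.of k)) := ⟨p⟩
    haveI : LocallyOfFinitePresentation (X ↘ Spec (CommRingCat.of k)) :=
      ‹LocallyOfFinitePresentation p›
    refine ((Groth.Agent.S1561.result k X).1 x).2 ?_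
    haveI := (hX x).2
    refine MiscFlat6.isRegularLocalRing_of_normal_dim_le_one _ ?_
    rcases ZClosLib.dim_eq_zero_or_one (fun h' => h (RefHullLib.mem_dimGe_two.1 h')) with h' | h' <;>
      rw [h'] <;> norm_num
  haveI hu₁ : IsIso ((Scheme.Modules.restrictAdjunction U.ι).unit.app ω) :=
    RefHullLib.isIso_unit_of_depth U hωc fun x hx => by
      haveI := (hX x).1
      haveI := (hX x).2
      haveI := hωc.1
      haveI := DepthLib.finite_stalk ω hωc.2 x
      haveI := isReflexive_HD hX hK (-(n : ℤ)) hlt x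
      exact RefHullLib.depth_reflexive_normal _ (hbig x hx)
  have hΩ : Coh.IsCoh (Omega.sheaf p) :=
    ⟨OmegaAffLib.isQCoh_of_isUniversal OmegaAffLib.isUniversal_dOmega, FittLib.isFT_omega p⟩
  have hWc := isCoh_extPow' hΩ hW
  haveI hu₂ : IsIso ((Scheme.Modules.restrictAdjunction U.ι).unit.app (RefHull.ddual W)) :=
    RefHullLib.isIso_unit_of_depth U (RefHullLib.isCoh_dual (RefHullLib.isCoh_dual hWc)) fun x hx => by
      haveI := (hX x).1
      haveI := (hX x).2
      exact two_le_depth_dual' (RefHullLib.isCoh_dual hWc) x (RefHullLib.two_le_depth_normal (hbig x hx))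
  -- the smooth locus
  haveI hsm : SmoothOfRelativeDimension n (U.ι ≫ p) := smoothRel_smoothLocus p hdim
  let WU := (Scheme.Modules.pullback U.ι).obj W
  have hWU : ExtPow.IsExtPow n (Omega.sheaf (U.ι ≫ p)) WU :=
    Groth.Agent.S15540.result X _ U _ p (U.ι ≫ p) U.ι (𝟙 _) (Category.comp_id _).symm n W hW
  have hWf : FlatMod.IsFinLocFree (W.restrict U.ι) :=
    AmpleDevLib.isFinLocFree_of_isInvertible (HilbPolyLib.isInvertible_of_iso
      ((Scheme.Modules.restrictFunctorIsoPullback U.ι).app W).symm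
      (CohCmpLib.isInvertible_of_isExtPow (CohCmpLib.rank_omega (U.ι ≫ p) n) hWU))
  haveI := isIso_restrict_bidual' U hWc hWf
  obtain ⟨eS⟩ := nonempty_shriek_smooth_structureSheaf n (U.ι ≫ p) (U.ι ≫ j) f
    (by rw [Category.assoc, hfac]) hf a adj O ⟨eO⟩ WU hWU
  obtain ⟨c⟩ := PerfLib.nonempty_resD_comp U.ι j (a.obj O).obj
  let H := DerivedCategory.homologyFunctor (U : Scheme.{u}).Modules
  let eω : ω.restrict U.ι ≅ WU :=
    (DCohRestrLib.restrictHDIso U.ι K (-(n : ℤ))).symm ≪≫ (H (-(n : ℤ))).mapIso (c.symm ≪≫ eS) ≪≫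
      ((H 0).shiftIso (n : ℤ) (-(n : ℤ)) 0 (by omega)).app _ ≪≫
      (DerivedCategory.singleFunctorCompHomologyFunctorIso (U : Scheme.{u}).Modules (0 : ℤ)).app WU
  let eU : ω.restrict U.ι ≅ (RefHull.ddual W).restrict U.ι :=
    eω ≪≫ ((Scheme.Modules.restrictFunctorIsoPullback U.ι).app W).symm ≪≫
      asIso ((Scheme.Modules.restrictFunctor U.ι).map (RefHull.bidualMap W))
  exact ⟨asIso ((Scheme.Modules.restrictAdjunction U.ι).unit.app ω) ≪≫
    (Scheme.Modules.pushforward U.ι).mapIso eU ≪≫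
    (asIso ((Scheme.Modules.restrictAdjunction U.ι).unit.app (RefHull.ddual W))).symm⟩

/-- The double dual through abstract sheaves of homomorphisms. -/
theorem nonempty_ddual_sheafHom {X : Scheme.{u}} (W : X.Modules) [DCoh.HasSheafHom W]
    [DCoh.HasSheafHom ((DCoh.sheafHom W).obj (Coh.structureModule X))] :
    Nonempty (RefHull.ddual W ≅
      (DCoh.sheafHom ((DCoh.sheafHom W).obj (Coh.structureModule X))).obj (Coh.structureModule X)) := by
  let e : (DCoh.sheafHom W).obj (Coh.structureModule X) ≅ RefHull.dual W :=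
    HomCohLib.sheafHomIso W _ ≪≫ (LMLib.homShIso W _).symm
  haveI : DCoh.HasSheafHom (RefHull.dual W) := (HomCohLib.homAdj _).isLeftAdjoint
  obtain ⟨g⟩ := nonempty_sheafHom_congr e
  exact ⟨LMLib.homShIso (RefHull.dual W) _ ≪≫ (HomCohLib.sheafHomIso (RefHull.dual W) _).symm ≪≫
    (g.app _).symm⟩

end ShriekLib

end
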