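import Groth.Agent.KoszOrthLib.Adj
import Groth.Agent.KoszOrthLib.Aff
import Groth.Agent.KoszOrthLib.DQCohPush
import Groth.Agent.QRlimLib.Unbounded
import Groth.Agent.DCohRestrLib.Support
import Groth.Agent.KFlatLib.LpullAdj
import Groth.Prelude.Def_DDual2
import Mathlib.CategoryTheory.Adjunction.Restrict
import Mathlib.CategoryTheory.Adjunction.Mates

/-!
# Restriction and direct image on `DQCoh`; clopen immersions
-/

set_option autoImplicit false
set_option linter.style.haveILetI false
set_option linter.unusedSectionVars false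
set_option backward.isDefEq.respectTransparency false
set_option backward.isDefEq.respectTransparency.types false
set_option maxHeartbeats 1000000
set_option synthInstance.maxHeartbeats 200000

universe u

open CategoryTheory CategoryTheory.Limits AlgebraicGeometry CategoryTheory.Pretriangulated
open Groth.Agent

attribute [local instance] HasDerivedCategory.standard

noncomputable section

namespace ShriekLib

variable {X Y Z : Scheme.{u}}

/-- Restriction along an open immersion on `DQCoh`. -/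
abbrev restrictQ (j : X ⟶ Y) [IsOpenImmersion j] [PreservesFiniteLimits (Scheme.Modules.restrictFunctor j)] :
    DCoh.DQCoh Y ⥤ DCoh.DQCoh X :=
  ObjectProperty.lift _ (ObjectProperty.ι _ ⋙ DCoh.restrictD j)
    fun K => KoszOrthLib.isQCohD_restrictD j K.property

/-- `Rf_*` preserves `DQCoh`. -/
theorem hpush (f : X ⟶ Y) [IsNoetherian X] [QuasiSeparated f] [DCoh.HasRpush f] :
    DCoh.RpushPreservesQCoh f := fun _ hK => QRlimLib.isQCohD_rpush f hK

/-- A natural iso of `DQCoh`-valued functors from one after inclusion. -/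
def liftIso {C : Type*} [Category C] {F G : C ⥤ DCoh.DQCoh Y}
    (e : F ⋙ ObjectProperty.ι _ ≅ G ⋙ ObjectProperty.ι _) : F ≅ G :=
  ((ObjectProperty.fullyFaithfulι (DCoh.IsQCohD (X := Y))).whiskeringRight C).preimageIso e

/-- `j^* ⊣ Rj_*` on `DQCoh`. -/
def adjQ (j : X ⟶ Y) [IsOpenImmersion j] [PreservesFiniteLimits (Scheme.Modules.restrictFunctor j)]
    [DCoh.HasRpush j] (hj : DCoh.RpushPreservesQCoh j) : restrictQ j ⊣ DCoh.RpushQ j hj :=
  (KoszOrthLib.restrictRpushAdj j).restrictFullyFaithful (ObjectProperty.fullyFaithfulι _)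
    (ObjectProperty.fullyFaithfulι _) (Iso.refl _) (Iso.refl _)

theorem nonempty_rpushQ_comp (f : X ⟶ Y) (g : Y ⟶ Z) (k : X ⟶ Z) (hk : f ≫ g = k)
    [DCoh.HasRpush f] [DCoh.HasRpush g] [DCoh.HasRpush k] (hf : DCoh.RpushPreservesQCoh f)
    (hg : DCoh.RpushPreservesQCoh g) (hk' : DCoh.RpushPreservesQCoh k) :
    Nonempty (DCoh.RpushQ f hf ⋙ DCoh.RpushQ g hg ≅ DCoh.RpushQ k hk') := by
  subst hk
  haveI := KFlatLib.hasLpull g
  haveI := KFlatLib.hasLpull (f ≫ g)
  haveI := KFlatLib.hasLpull f
  obtain ⟨e⟩ := KFlatLib.rpush_comp f g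
  exact ⟨liftIso (Functor.isoWhiskerLeft (ObjectProperty.ι _) e)⟩

theorem nonempty_restrictQ_comp [IsNoetherian X] [IsNoetherian Y] (i : X ⟶ Y) (j : Y ⟶ Z) (k : X ⟶ Z)
    (hk : i ≫ j = k) [IsOpenImmersion i] [IsOpenImmersion j] [IsOpenImmersion k] :
    Nonempty (restrictQ j ⋙ restrictQ i ≅ restrictQ k) := by
  haveI := DCohRestrLib.hasRpush i
  haveI := DCohRestrLib.hasRpush j
  haveI := DCohRestrLib.hasRpush k
  obtain ⟨e⟩ := nonempty_rpushQ_comp i j k hk (hpush i) (hpush j) (hpush k)
  exact ⟨((adjQ j (hpush j)).comp (adjQ i (hpush i))).leftAdjointUniq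
    ((adjQ k (hpush k)).ofNatIsoRight e.symm)⟩

/-! ## Clopen immersions -/

section Clopen

variable (i : X ⟶ Y) [IsOpenImmersion i] [PreservesFiniteLimits (Scheme.Modules.restrictFunctor i)]
  [DCoh.HasRpush i]

theorem eq_zero_of_restrictD (hcl : IsClosed (Set.range i.base)) (M : DCoh.D X) {C : DCoh.D Y}
    (hC : IsZero ((DCoh.restrictD i).obj C)) (φ : (DCoh.Rpush i).obj M ⟶ C) : φ = 0 := by
  let U : Y.Opens := ⟨(Set.range i.base)ᶜ, hcl.isOpen_compl⟩
  haveI := DCohRestrLib.hasRpush U.ι
  let adjU := KoszOrthLib.restrictRpushAdj U.ι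
  have hCi : ∀ k : ℤ, ∀ y ∈ Set.range i.base, y ∉ CohB1.support (DCoh.HD C k) := by
    rintro k _ ⟨x, rfl⟩ hy
    have h1 := DCohRestrLib.support_HD_restrictD i C k
    rw [(DCohRestrLib.isZero_iff_support_empty _).1 ((DCohRestrLib.isZero_iff_HD _).1 hC k)] at h1
    have : x ∈ (∅ : Set X) := by rw [h1]; exact hy
    exact this
  haveI : IsIso (adjU.unit.app C) := by
    rw [DerivedCategory.isIso_iff]
    intro k
    refine KFlatLib.isIso_of_stalks _ fun y => ?_
    by_cases hy : y ∈ Set.range i.base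
    · have hUi : i ⁻¹ᵁ U = ⊥ := eq_bot_iff.2 fun x hx => hx ⟨x, rfl⟩
      have h2 : Subsingleton ((DCoh.HD C k).presheaf.stalk y) := not_not.1 fun h => hCi k y hy h
      have h3 : Subsingleton ((DCoh.HD ((DCoh.Rpush U.ι).obj ((DCoh.restrictD U.ι).obj C)) k).presheaf.stalk y) := by
        refine not_not.1 fun h => ?_
        have hsub := DCohRestrLib.support_HD_Rpush_subset U.ι Set.univ
          (by rw [Set.image_univ, Scheme.Opens.range_ι]; exact i.isOpenEmbedding.isOpen_range.isClosed_compl)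
          ((DCoh.restrictD U.ι).obj C) (fun _ => Set.subset_univ _) k h
        rw [Set.image_univ, Scheme.Opens.range_ι] at hsub
        exact hsub hy
      haveI : Subsingleton ((DerSch.stalkFunctor Y y).obj (DCoh.HD C k)) := h2
      haveI : Subsingleton ((DerSch.stalkFunctor Y y).obj
          (DCoh.HD ((DCoh.Rpush U.ι).obj ((DCoh.restrictD U.ι).obj C)) k)) := h3
      exact ⟨0, (ModuleCat.isZero_of_subsingleton ((DerSch.stalkFunctor Y y).obj (DCoh.HD C k))).eq_of_src _ _,
        (ModuleCat.isZero_of_subsingleton ((DerSch.stalkFunctor Y y).obj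
          (DCoh.HD ((DCoh.Rpush U.ι).obj ((DCoh.restrictD U.ι).obj C)) k))).eq_of_src _ _⟩
    · haveI := KoszOrthLib.isIso_restrictD_unit U.ι adjU C
      haveI := DCohRestrLib.isIso_restrict_HD U.ι (adjU.unit.app C) k
      exact DCohRestrLib.isIso_stalk_of_restrict U.ι
        ((DerivedCategory.homologyFunctor Y.Modules k).map (adjU.unit.app C)) ⟨y, hy⟩
  have hz : IsZero ((DCoh.restrictD U.ι).obj ((DCoh.Rpush i).obj M)) :=
    (DCohRestrLib.isZero_restrictD_iff _ _).2 fun k y hy h => by
      have hsub := DCohRestrLib.support_HD_Rpush_subset i Set.univ (by rwa [Set.image_univ]) M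
        (fun _ => Set.subset_univ _) k h
      rw [Set.image_univ] at hsub
      exact hy hsub
  rw [← cancel_mono (adjU.unit.app C), zero_comp]
  exact (adjU.homEquiv _ _).symm.injective (hz.eq_of_src _ _)

variable (hi : DCoh.RpushPreservesQCoh i)

/-- The counit `i^*Ri_* M ≅ M`. -/
def counitIso : DCoh.Rpush i ⋙ DCoh.restrictD i ≅ 𝟭 (DCoh.D X) :=
  haveI := KoszOrthLib.isIso_counit i (KoszOrthLib.restrictRpushAdj i)
  asIso (KoszOrthLib.restrictRpushAdj i).counit

theorem bijective_restrict_map (hcl : IsClosed (Set.range i.base)) (M : DCoh.D X) (N : DCoh.D Y) :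
    Function.Bijective (fun φ : (DCoh.Rpush i).obj M ⟶ N =>
      (counitIso i).inv.app M ≫ (DCoh.restrictD i).map φ) := by
  let adj := KoszOrthLib.restrictRpushAdj i
  haveI := KoszOrthLib.isIso_counit i adj
  obtain ⟨L, ι, d, hT⟩ := distinguished_cocone_triangle₁ (adj.unit.app N)
  have hL : IsZero ((DCoh.restrictD i).obj L) :=
    (((DCoh.restrictD i).mapTriangle.obj (Triangle.mk ι (adj.unit.app N) d)).isZero₁_iff_isIso₂
      ((DCoh.restrictD i).map_distinguished _ hT)).2 (KoszOrthLib.isIso_restrictD_unit i adj N)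
  have hL1 : IsZero ((DCoh.restrictD i).obj (L⟦(1 : ℤ)⟧)) :=
    ((shiftFunctor _ (1 : ℤ)).map_isZero hL).of_iso (((DCoh.restrictD i).commShiftIso (1 : ℤ)).app L)
  have hb : Function.Bijective (fun φ : (DCoh.Rpush i).obj M ⟶ N => φ ≫ adj.unit.app N) := by
    refine ⟨fun φ φ' h => ?_, fun ψ => ?_⟩
    · obtain ⟨g, hg⟩ := Triangle.coyoneda_exact₂ _ hT (φ - φ') (by
        simpa [Preadditive.sub_comp] using sub_eq_zero.2 h)
      rw [eq_zero_of_restrictD i hcl M hL g, zero_comp] at hg
      exact sub_eq_zero.1 hg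
    · obtain ⟨g, hg⟩ := Triangle.coyoneda_exact₃ _ hT ψ (eq_zero_of_restrictD i hcl M hL1 _)
      exact ⟨g, hg.symm⟩
  have he : (fun φ : (DCoh.Rpush i).obj M ⟶ N => (DCoh.restrictD i).map φ) =
      (fun φ => (adj.homEquiv _ _).symm φ) ∘ (fun φ => φ ≫ adj.unit.app N) := by
    funext φ
    simp [Adjunction.homEquiv_counit]
  have h1 : Function.Bijective (fun φ : (DCoh.Rpush i).obj M ⟶ N => (DCoh.restrictD i).map φ) :=
    he ▸ (adj.homEquiv _ _).symm.bijective.comp hb
  refine (Function.Bijective.comp (g := fun ψ : (DCoh.restrictD i).obj ((DCoh.Rpush i).obj M) ⟶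
    (DCoh.restrictD i).obj N => (counitIso i).inv.app M ≫ ψ) ⟨fun a b h => ?_, fun b => ?_⟩ h1)
  · simpa using congrArg ((counitIso i).hom.app M ≫ ·) h
  · exact ⟨(counitIso i).hom.app M ≫ b, by simp⟩

/-- For a clopen immersion `Ri_*` is left adjoint to restriction. -/
def clopenAdj (hcl : IsClosed (Set.range i.base)) : DCoh.Rpush i ⊣ DCoh.restrictD i :=
  Adjunction.mkOfHomEquiv
    { homEquiv := fun M N => Equiv.ofBijective _ (bijective_restrict_map i hcl M N)
      homEquiv_naturality_left_symm := fun {M' M N} f g => by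
        refine (Equiv.symm_apply_eq _).2 ?_
        obtain ⟨φ, hφ⟩ := (bijective_restrict_map i hcl M N).2 g
        have hs : (Equiv.ofBijective _ (bijective_restrict_map i hcl M N)).symm g = φ :=
          (Equiv.symm_apply_eq _).2 hφ.symm
        refine Eq.trans ?_ (congrArg (fun z => (Equiv.ofBijective _ (bijective_restrict_map i hcl M' N))
          ((DCoh.Rpush i).map f ≫ z)) hs.symm)
        show f ≫ g = _
        rw [← hφ]
        simp only [Equiv.ofBijective_apply, Functor.map_comp]
        rw [← Category.assoc, ← Category.assoc]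
        exact congrArg (· ≫ _) ((counitIso i).inv.naturality f)
      homEquiv_naturality_right := fun {M N N'} f g => by simp }

/-- For a clopen immersion `Ri_*` is left adjoint to restriction on `DQCoh`. -/
def clopenAdjQ (hcl : IsClosed (Set.range i.base)) : DCoh.RpushQ i hi ⊣ restrictQ i :=
  (clopenAdj i hcl).restrictFullyFaithful (ObjectProperty.fullyFaithfulι _)
    (ObjectProperty.fullyFaithfulι _) (Iso.refl _) (Iso.refl _)

end Clopen

end ShriekLib

end
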