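import Groth.Agent.ShriekLib.Indep
import Groth.Agent.DualFMLib.FlatHom.Glob

/-!
# Flat base change of the right adjoint on bounded below objects
-/

set_option autoImplicit false
set_option linter.style.haveILetI false
set_option linter.unusedSectionVars false
set_option backward.isDefEq.respectTransparency false
set_option backward.isDefEq.respectTransparency.types false
set_option maxHeartbeats 1000000
set_option synthInstance.maxHeartbeats 200000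

universe u

open CategoryTheory CategoryTheory.Limits AlgebraicGeometry CategoryTheory.Pretriangulated
open Groth.Agent Groth.Agent.DualFMLib

attribute [local instance] HasDerivedCategory.standard

namespace ShriekLib

/-- The cone of the unit of a restriction is bounded below. -/
theorem isGE_cone {X Y : Scheme.{u}} [IsNoetherian Y] (j : X ⟶ Y) [IsOpenImmersion j] [DCoh.HasRpush j]
    [DCoh.HasLpull j] {hj : DCoh.RpushPreservesQCoh j} {hLj : Dual3.LpullPreservesQCoh j}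
    (adjj : Dual3.LpullQ j hLj ⊣ DCoh.RpushQ j hj) (K : DCoh.DQCoh Y) (c : ℤ) [K.obj.IsGE c] {C : DCoh.DQCoh Y}
    (p : (Dual3.LpullQ j hLj ⋙ DCoh.RpushQ j hj).obj K ⟶ C) (d : C ⟶ K⟦(1 : ℤ)⟧)
    (hT : Triangle.mk (adjj.unit.app K) p d ∈ distTriang _) : C.obj.IsGE (c - 1) := by
  haveI hQ' : DerivedCategory.TStructure.t.IsGE K.obj c := ‹_›
  haveI hge₁ : DerivedCategory.IsGE ((Dual3.LpullQ j hLj ⋙ DCoh.RpushQ j hj).obj K).obj c := by
    haveI := isGE_lpull_flat j K.obj c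
    exact QRlimLib.rpush_isGE j ((DCoh.Lpull j).obj K.obj) c
  haveI hQ₁' : DerivedCategory.TStructure.t.IsGE ((Dual3.LpullQ j hLj ⋙ DCoh.RpushQ j hj).obj K).obj c := hge₁
  haveI hQs : DerivedCategory.TStructure.t.IsGE (K.obj⟦(1 : ℤ)⟧) (c - 1) :=
    DerivedCategory.TStructure.t.isGE_shift K.obj c 1 (c - 1) (by omega)
  exact @Triangulated.TStructure.isGE₂ _ _ _ _ _ _ _ DerivedCategory.TStructure.t _
    (rot_of_distTriang _ ((DCoh.IsQCohD (X := Y)).ι.map_distinguished _ hT)) (c - 1)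
    (@Triangulated.TStructure.isGE_of_ge _ _ _ _ _ _ _ DerivedCategory.TStructure.t
      ((Dual3.LpullQ j hLj ⋙ DCoh.RpushQ j hj).obj K).obj (c - 1) c (by omega) hQ₁')
    hQs

section Open

variable {X Y : Scheme.{u}} [IsNoetherian Y] (f : X ⟶ Y) [IsProper f] [DCoh.HasRpush f]
  (hf : DCoh.RpushPreservesQCoh f) (a : DCoh.DQCoh Y ⥤ DCoh.DQCoh X) (adj : DCoh.RpushQ f hf ⊣ a)
  (U : Y.Opens)
  [DCoh.HasRpush U.ι] [DCoh.HasRpush (f ⁻¹ᵁ U).ι] [DCoh.HasLpull U.ι] [DCoh.HasLpull (f ⁻¹ᵁ U).ι]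
  [DCoh.HasRpush (f ∣_ U)] (hj : DCoh.RpushPreservesQCoh U.ι)
  (hjX : DCoh.RpushPreservesQCoh (f ⁻¹ᵁ U).ι) (hfU : DCoh.RpushPreservesQCoh (f ∣_ U))
  {aU : DCoh.DQCoh (U : Scheme.{u}) ⥤ DCoh.DQCoh (f ⁻¹ᵁ U : Scheme.{u})}
  (adjU : DCoh.RpushQ (f ∣_ U) hfU ⊣ aU)
  {hLj : Dual3.LpullPreservesQCoh U.ι} {hLjX : Dual3.LpullPreservesQCoh (f ⁻¹ᵁ U).ι}
  (adjj : Dual3.LpullQ U.ι hLj ⊣ DCoh.RpushQ U.ι hj)
  (adjjX : Dual3.LpullQ (f ⁻¹ᵁ U).ι hLjX ⊣ DCoh.RpushQ (f ⁻¹ᵁ U).ι hjX)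

include adj in
/-- Base change along an open immersion. -/
theorem isIso_bcAbs_open_bdd (K : DCoh.DQCoh Y) (c : ℤ) [K.obj.IsGE c]
    [IsIso (xiAbs adj adjU (sqQ (isPullback_morphismRestrict f U).flip.w hf hfU hj hjX)
      ((Dual3.LpullQ U.ι hLj).obj K))] :
    IsIso (bcAbs adj adjU (sqQ (isPullback_morphismRestrict f U).flip.w hf hfU hj hjX) adjj adjjX K) := by
  haveI : IsLocallyNoetherian X := LocallyOfFiniteType.isLocallyNoetherian f
  haveI : CompactSpace X := QuasiCompact.compactSpace_of_compactSpace f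
  haveI : IsNoetherian X := ⟨⟩
  haveI := isIso_counit_open U.ι adjj
  haveI := isIso_counit_open (f ⁻¹ᵁ U).ι adjjX
  refine isIso_bcAbs_of_reflection adj adjU _ adjj adjjX
    (fun M => isIso_xi_sqQ (isPullback_morphismRestrict f U).flip adj adjU adjj adjjX M)
    (fun T => isIso_bcPush adjj adjjX (isPullback_morphismRestrict f U).flip T) K ?_
  obtain ⟨_, _⟩ := QRlimLib.exists_isTriangulated_rpush f
  haveI : (DCoh.RpushQ f hf).IsTriangulated :=
    ObjectProperty.isTriangulated_lift _ ((DCoh.IsQCohD (X := X)).ι ⋙ DCoh.Rpush f) _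
  letI := adj.rightAdjointCommShift ℤ
  haveI := adj.commShift_of_leftAdjoint ℤ
  haveI : a.IsTriangulated := adj.isTriangulated_rightAdjoint
  obtain ⟨C, p, d, hT⟩ := distinguished_cocone_triangle (adjj.unit.app K)
  let rU := DCoh.restrictD U.ι
  let rX := DCoh.restrictD (f ⁻¹ᵁ U).ι
  haveI : IsIso ((Dual3.LpullQ U.ι hLj).map (adjj.unit.app K)) := by
    have h := adjj.left_triangle_components K
    haveI : IsIso ((Dual3.LpullQ U.ι hLj).map (adjj.unit.app K) ≫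
        adjj.counit.app ((Dual3.LpullQ U.ι hLj).obj K)) := by rw [h]; exact IsIso.id _
    exact IsIso.of_isIso_comp_right _ (adjj.counit.app ((Dual3.LpullQ U.ι hLj).obj K))
  have h1 : IsIso (rU.map (adjj.unit.app K).hom) :=
    (NatIso.isIso_map_iff (lpullRestrIso U.ι) _).1
      (inferInstanceAs (IsIso ((DCoh.IsQCohD (X := (U : Scheme.{u}))).ι.map
        ((Dual3.LpullQ U.ι hLj).map (adjj.unit.app K)))))
  have hCU : IsZero (rU.obj C.obj) :=
    ((rU.mapTriangle.obj ((DCoh.IsQCohD (X := Y)).ι.mapTriangle.obj (Triangle.mk _ p d))).isZero₃_iff_isIso₁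
      (rU.map_distinguished _ ((DCoh.IsQCohD (X := Y)).ι.map_distinguished _ hT))).2 h1
  haveI hC : C.obj.IsGE (c - 1) := isGE_cone U.ι adjj K c p d hT
  have haC : IsZero (rX.obj (a.obj C).obj) := (Dual3Lib.isZero_restrictD_iff_restrict _ _).2
    (Dual3Lib.isZero_restrict_rightAdjoint f hf a adj C
      (Dual3Lib.rHomQCoh_of_pseudoCoherent f C (c - 1) fun G hG m => Dual3Lib.isPC_rpush_of_isPerfect f hG m) U
      ((Dual3Lib.isZero_restrictD_iff_restrict _ _).1 hCU))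
  have hη : IsIso (rX.map (a.map (adjj.unit.app K)).hom) :=
    ((rX.mapTriangle.obj ((DCoh.IsQCohD (X := X)).ι.mapTriangle.obj (a.mapTriangle.obj (Triangle.mk _ p d)))).isZero₃_iff_isIso₁
      (rX.map_distinguished _ ((DCoh.IsQCohD (X := X)).ι.map_distinguished _
        (a.map_distinguished _ hT)))).1 haC
  haveI : IsIso ((DCoh.IsQCohD (X := (f ⁻¹ᵁ U : Scheme.{u}))).ι.map
      ((Dual3.LpullQ (f ⁻¹ᵁ U).ι hLjX).map (a.map (adjj.unit.app K)))) :=
    (NatIso.isIso_map_iff (lpullRestrIso (f ⁻¹ᵁ U).ι) _).2 hη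
  exact isIso_of_fully_faithful (DCoh.IsQCohD (X := (f ⁻¹ᵁ U : Scheme.{u}))).ι _

end Open

variable {X Y X' Y' : Scheme.{u}} {f : X ⟶ Y} {g : Y' ⟶ Y} {f' : X' ⟶ Y'} {g' : X' ⟶ X}

/-- Flat base change of the right adjoint for a perfect proper morphism. -/
theorem isIso_bcMap_bdd [IsNoetherian Y] [IsNoetherian Y'] (hsq : IsPullback g' f' f g) [IsProper f]
    [Flat g] [DCoh.HasRpush f] [DCoh.HasRpush f'] [DCoh.HasRpush g]
    [DCoh.HasRpush g'] [DCoh.HasLpull g] [DCoh.HasLpull g']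
    {hf : DCoh.RpushPreservesQCoh f} {hf' : DCoh.RpushPreservesQCoh f'}
    {hg : DCoh.RpushPreservesQCoh g} {hg' : DCoh.RpushPreservesQCoh g'}
    {hLg : Dual3.LpullPreservesQCoh g} {hLg' : Dual3.LpullPreservesQCoh g'}
    {a : DCoh.DQCoh Y ⥤ DCoh.DQCoh X} {a' : DCoh.DQCoh Y' ⥤ DCoh.DQCoh X'}
    (adj : DCoh.RpushQ f hf ⊣ a) (adj' : DCoh.RpushQ f' hf' ⊣ a')
    (adjg : Dual3.LpullQ g hLg ⊣ DCoh.RpushQ g hg) (adjg' : Dual3.LpullQ g' hLg' ⊣ DCoh.RpushQ g' hg')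
    (K : DCoh.DQCoh Y) (c : ℤ) [K.obj.IsGE c]
    (hξ : IsIso (Dual3.xi adj adj' (sqQ hsq.w hf hf' hg hg') ((Dual3.LpullQ g hLg).obj K))) :
    IsIso (Dual3.bcMap adj adj' (sqQ hsq.w hf hf' hg hg') adjg adjg' K hξ) := by
  haveI : IsLocallyNoetherian X := LocallyOfFiniteType.isLocallyNoetherian f
  haveI : CompactSpace X := QuasiCompact.compactSpace_of_compactSpace f
  haveI : IsNoetherian X := ⟨⟩
  haveI : IsProper f' := MorphismProperty.of_isPullback (P := @IsProper) hsq inferInstance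
  haveI : IsLocallyNoetherian X' := LocallyOfFiniteType.isLocallyNoetherian f'
  haveI : CompactSpace X' := QuasiCompact.compactSpace_of_compactSpace f'
  haveI : IsNoetherian X' := ⟨⟩
  haveI : IsIso (xiAbs adj adj' (sqQ hsq.w hf hf' hg hg') ((Dual3.LpullQ g hLg).obj K)) := hξ
  change IsIso (bcAbs adj adj' (sqQ hsq.w hf hf' hg hg') adjg adjg' K)
  refine isIso_of_cover_restrict _ fun x' => ?_
  obtain ⟨U, hU, hyU, -⟩ := exists_isAffineOpen_mem_and_subset (x := g (f' x')) (U := (⊤ : Y.Opens)) trivial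
  obtain ⟨U', hU', hxU', hle⟩ := exists_isAffineOpen_mem_and_subset (x := f' x') (U := g ⁻¹ᵁ U) hyU
  refine ⟨f' ⁻¹ᵁ U', hxU', ?_⟩
  haveI : IsAffine (U : Scheme.{u}) := hU
  haveI : IsAffine (U' : Scheme.{u}) := hU'
  haveI := fun (Z : Scheme.{u}) (V : Z.Opens) => KFlatLib.hasLpull V.ι
  haveI := fun (Z : Scheme.{u}) (V : Z.Opens) => DCohRestrLib.hasRpush V.ι
  haveI : IsNoetherian (U : Scheme.{u}) := ⟨⟩
  haveI : IsNoetherian (U' : Scheme.{u}) := ⟨⟩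
  haveI : CompactSpace (f ⁻¹ᵁ U : Scheme.{u}) :=
    isCompact_iff_compactSpace.mp (TopologicalSpace.NoetherianSpace.isCompact _)
  haveI : CompactSpace (f' ⁻¹ᵁ U' : Scheme.{u}) :=
    isCompact_iff_compactSpace.mp (TopologicalSpace.NoetherianSpace.isCompact _)
  haveI : QuasiCompact U.ι := quasiCompact_of_compactSpace _
  haveI : QuasiCompact U'.ι := quasiCompact_of_compactSpace _
  haveI : QuasiCompact (f ⁻¹ᵁ U).ι := quasiCompact_of_compactSpace _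
  haveI : QuasiCompact (f' ⁻¹ᵁ U').ι := quasiCompact_of_compactSpace _
  let gU : (U' : Scheme.{u}) ⟶ U := g.resLE U U' hle
  have hleX : f' ⁻¹ᵁ U' ≤ g' ⁻¹ᵁ (f ⁻¹ᵁ U) := fun x hx => by
    have h1 : g (f' x) ∈ U := hle hx
    rwa [← Scheme.Hom.comp_apply, ← hsq.w, Scheme.Hom.comp_apply] at h1
  let gX : (f' ⁻¹ᵁ U' : Scheme.{u}) ⟶ f ⁻¹ᵁ U := g'.resLE (f ⁻¹ᵁ U) (f' ⁻¹ᵁ U') hleX
  let fU := f ∣_ U
  let f'' := f' ∣_ U'
  have w₃ : gU ≫ U.ι = U'.ι ≫ g := Scheme.Hom.resLE_comp_ι g hle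
  have v₁ : gX ≫ (f ⁻¹ᵁ U).ι = (f' ⁻¹ᵁ U').ι ≫ g' := Scheme.Hom.resLE_comp_ι g' hleX
  have w₁ := (isPullback_morphismRestrict f U).flip
  have v₃ := (isPullback_morphismRestrict f' U').flip
  have w₂ : gX ≫ fU = f'' ≫ gU := by
    rw [← cancel_mono U.ι, Category.assoc, Category.assoc, w₃, morphismRestrict_ι, ← Category.assoc, v₁,
      ← reassoc_of% v₃.w]
    simp [hsq.w]
  have hsqU : IsPullback gX f'' fU gU := by
    refine IsPullback.of_right ?_ w₂ w₁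
    rw [v₁, w₃]
    exact v₃.paste_horiz hsq
  haveI : Flat gU := inferInstanceAs (Flat (g.resLE U U' hle))
  haveI := KFlatLib.hasLpull gU
  haveI := KFlatLib.hasLpull gX
  haveI := DCohRestrLib.hasRpush gU
  haveI := DCohRestrLib.hasRpush gX
  haveI := DCohRestrLib.hasRpush fU
  haveI := DCohRestrLib.hasRpush f''
  haveI : IsProper fU := inferInstance
  haveI : IsProper f'' := inferInstance
  haveI : QuasiCompact gX := quasiCompact_of_compactSpace _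
  have hfU : DCoh.RpushPreservesQCoh fU := fun E hE => QRlimLib.isQCohD_rpush fU hE
  have hf'' : DCoh.RpushPreservesQCoh f'' := fun E hE => QRlimLib.isQCohD_rpush f'' hE
  have hj : DCoh.RpushPreservesQCoh U.ι := fun E hE => QRlimLib.isQCohD_rpush _ hE
  have hh : DCoh.RpushPreservesQCoh U'.ι := fun E hE => QRlimLib.isQCohD_rpush _ hE
  have hjX : DCoh.RpushPreservesQCoh (f ⁻¹ᵁ U).ι := fun E hE => QRlimLib.isQCohD_rpush _ hE
  have hh' : DCoh.RpushPreservesQCoh (f' ⁻¹ᵁ U').ι := fun E hE => QRlimLib.isQCohD_rpush _ hE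
  have hgU : DCoh.RpushPreservesQCoh gU := fun E hE => QRlimLib.isQCohD_rpush _ hE
  have hgX : DCoh.RpushPreservesQCoh gX := fun E hE => QRlimLib.isQCohD_rpush _ hE
  have hL : ∀ {A B : Scheme.{u}} (q : A ⟶ B) [DCoh.HasLpull q], Dual3.LpullPreservesQCoh q :=
    fun q _ => KFlatLib.isQCohD_lpull q
  haveI := KoszOrthLib.isLeftAdjoint_rpushQ fU hfU
  haveI := KoszOrthLib.isLeftAdjoint_rpushQ f'' hf''
  let adjU := Adjunction.ofIsLeftAdjoint (DCoh.RpushQ fU hfU)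
  let adj'' := Adjunction.ofIsLeftAdjoint (DCoh.RpushQ f'' hf'')
  let Ag := DualFMLib.adjQ (g := gU) (hL gU) hgU
  let AgX := DualFMLib.adjQ (g := gX) (hL gX) hgX
  let Aj := DualFMLib.adjQ (g := U.ι) (hL _) hj
  let AjX := DualFMLib.adjQ (g := (f ⁻¹ᵁ U).ι) (hL _) hjX
  let Ah := DualFMLib.adjQ (g := U'.ι) (hL _) hh
  let AhX := DualFMLib.adjQ (g := (f' ⁻¹ᵁ U').ι) (hL _) hh'
  let e₁ := sqQ hsq.w hf hf' hg hg'
  let e₂ := sqQ v₃.w hf' hf'' hh hh'
  let ej := sqQ w₁.w hf hfU hj hjX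
  let egU := sqQ hsqU.w hfU hf'' hgU hgX
  haveI : ∀ M, IsIso (xiAbs adj' adj'' e₂ M) := fun M => isIso_xi_sqQ v₃ adj' adj'' Ah AhX M
  haveI : ∀ M, IsIso (xiAbs adj adjU ej M) := fun M => isIso_xi_sqQ w₁ adj adjU Aj AjX M
  haveI : ∀ M, IsIso (xiAbs adjU adj'' egU M) := fun M => isIso_xi_sqQ hsqU adjU adj'' Ag AgX M
  haveI : ((Dual3.LpullQ g hLg).obj K).obj.IsGE c := isGE_lpull_flat g K.obj c
  haveI : ((Dual3.LpullQ U.ι (hL _)).obj K).obj.IsGE c := isGE_lpull_flat U.ι K.obj c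
  haveI hb₂ := isIso_bcAbs_open_bdd f' hf' a' adj' U' hh hh' hf'' adj'' Ah AhX
    ((Dual3.LpullQ g hLg).obj K) c
  haveI hbj := isIso_bcAbs_open_bdd f hf a adj U hj hjX hfU adjU Aj AjX K c
  let K₀ := (Dual3.LpullQ U.ι (hL _)).obj K
  haveI hbU : IsIso (bcAbs adjU adj'' egU Ag AgX K₀) := by
    let A := Γ(U, ⊤)
    let A' := Γ(U', ⊤)
    letI : Algebra A A' := gU.appTop.hom.toAlgebra
    haveI : Module.Flat A A' := flat_appTop gU
    letI : (U : Scheme.{u}).Over (Spec (CommRingCat.of A)) := ⟨(U : Scheme.{u}).isoSpec.hom⟩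
    letI : (U' : Scheme.{u}).Over (Spec (CommRingCat.of A')) := ⟨(U' : Scheme.{u}).isoSpec.hom⟩
    have hY : IsPullback gU ((U' : Scheme.{u}) ↘ Spec (CommRingCat.of A')) ((U : Scheme.{u}) ↘ Spec (CommRingCat.of A))
        (Spec.map (CommRingCat.ofHom (algebraMap A A'))) := isPullback_isoSpec gU
    haveI := additive_lpull gU
    obtain ⟨_, _⟩ := exists_isTriangulated_lpull gU
    haveI : IsLocallyNoetherian (f ⁻¹ᵁ U : Scheme.{u}) := LocallyOfFiniteType.isLocallyNoetherian fU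
    exact isIso_bcMap_affine Ag AgX hsqU hY adjU adj'' K₀ (fun P hP => by
      obtain ⟨hcoh, b, hb⟩ := isCohD_and_isLE_rpush fU hP
      haveI := hb
      exact (bij_coh_bddBelow hY _ hcoh b K₀.obj K₀.property c).eta_bijective) (isIso_xi_sqQ hsqU adjU adj'' Ag AgX _)
  let ρ := sqQ (f := U.ι) (g' := gU) (f' := U'.ι) (g := g) w₃ hj hh hg hgU
  let ρ' := sqQ (f := (f ⁻¹ᵁ U).ι) (g' := gX) (f' := (f' ⁻¹ᵁ U').ι) (g := g') v₁ hjX hh' hg' hgX
  have hhex : ∀ M, (DCoh.RpushQ f hf).map (ρ'.hom.app M) ≫ (ePaste e₁ e₂).hom.app M =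
      (ePaste ej egU).hom.app M ≫ ρ.hom.app ((DCoh.RpushQ f'' hf'').obj M) := fun M => by
    rw [ePaste_app, ePaste_app, Category.assoc]
    exact ObjectProperty.hom_ext _ (rpush_hexagon w₁.w hsqU.w w₃ v₁ hsq.w v₃.w M.obj).symm
  haveI : ∀ T, IsIso (betaAbs e₁ adjg adjg' T) := fun T => isIso_bcPush adjg adjg' hsq T
  haveI : ∀ T, IsIso (betaAbs e₂ Ah AhX T) := fun T => isIso_bcPush Ah AhX v₃ T
  haveI : IsIso (betaAbs (ePaste e₁ e₂) (adjg.comp Ah) (adjg'.comp AhX) (a.obj K)) := by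
    rw [betaAbs_paste]
    infer_instance
  have hiff := isIso_iff_of_change adj adj'' (adjg.comp Ah) (Aj.comp Ag) ρ (adjg'.comp AhX) (AjX.comp AgX) ρ'
    (ePaste e₁ e₂) (ePaste ej egU) hhex K _
    (betaAbs_bcAbs_paste adj adj' e₁ adjg adjg' adj'' e₂ Ah AhX K) _
    (betaAbs_bcAbs_paste adj adjU ej Aj AjX adj'' egU Ag AgX K)
  have hz : IsIso ((Dual3.LpullQ (f' ⁻¹ᵁ U').ι (hL _)).map (bcAbs adj adj' e₁ adjg adjg' K) ≫
      bcAbs adj' adj'' e₂ Ah AhX ((Dual3.LpullQ g hLg).obj K)) := hiff.2 inferInstance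
  haveI hH : IsIso ((Dual3.LpullQ (f' ⁻¹ᵁ U').ι (hL _)).map (bcAbs adj adj' e₁ adjg adjg' K)) :=
    IsIso.of_isIso_comp_right _ (bcAbs adj' adj'' e₂ Ah AhX ((Dual3.LpullQ g hLg).obj K))
  exact (NatIso.isIso_map_iff (lpullRestrIso (f' ⁻¹ᵁ U').ι) _).1
    (inferInstanceAs (IsIso ((DCoh.IsQCohD (X := (f' ⁻¹ᵁ U' : Scheme.{u}))).ι.map
      ((Dual3.LpullQ (f' ⁻¹ᵁ U').ι (hL _)).map (bcAbs adj adj' e₁ adjg adjg' K)))))

end ShriekLib
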