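import Groth.Agent.ShriekLib.Basic
import Groth.Agent.Dual3Lib.BCOpen
import Groth.Agent.S1767
import Groth.Prelude.Def_Dual3

/-!
# The right adjoint of `Rp_*` over an open of the base, naturally
-/

set_option autoImplicit false
set_option linter.style.haveILetI false
set_option linter.unusedSectionVars false
set_option backward.isDefEq.respectTransparency false
set_option backward.isDefEq.respectTransparency.types false
set_option maxHeartbeats 1000000
set_option synthInstance.maxHeartbeats 200000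

universe u

open CategoryTheory CategoryTheory.Limits AlgebraicGeometry CategoryTheory.Pretriangulated
open Groth.Agent
open Groth.Agent.Dual3Lib (isIso_of_rightOrth isZero_restrictD_iff_restrict isZero_restrict_rightAdjoint
  rHomQCoh_of_pseudoCoherent isPC_rpush_of_isPerfect)

attribute [local instance] HasDerivedCategory.standard

namespace ShriekLib

variable {X Y : Scheme.{u}} [IsNoetherian Y] (f : X ⟶ Y) [IsProper f] [DCoh.HasRpush f]
  (hf : DCoh.RpushPreservesQCoh f) (a : DCoh.DQCoh Y ⥤ DCoh.DQCoh X) (adj : DCoh.RpushQ f hf ⊣ a)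

/-- Composition with the restricted counit is bijective. -/
theorem bijective_counit_restrict (Q : DCoh.DQCoh Y) (c : ℤ) [Q.obj.IsGE c] (V : Y.Opens)
    [DCoh.HasRpush (f ∣_ V)]
    (r : DCoh.Rpush f ⋙ DCoh.restrictD V.ι ≅ DCoh.restrictD (f ⁻¹ᵁ V).ι ⋙ DCoh.Rpush (f ∣_ V))
    (E : DCoh.D (f ⁻¹ᵁ V : Scheme.{u})) (hE : DCoh.IsQCohD E) :
    Function.Bijective (fun φ : E ⟶ (DCoh.restrictD (f ⁻¹ᵁ V).ι).obj (a.obj Q).obj =>
      (DCoh.Rpush (f ∣_ V)).map φ ≫ r.inv.app (a.obj Q).obj ≫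
        (DCoh.restrictD V.ι).map (adj.counit.app Q).hom) := by
  haveI : IsLocallyNoetherian X := LocallyOfFiniteType.isLocallyNoetherian f
  haveI : CompactSpace X := QuasiCompact.compactSpace_of_compactSpace f
  haveI : IsNoetherian X := ⟨⟩
  let W := f ⁻¹ᵁ V
  haveI : CompactSpace (V : Scheme.{u}) :=
    isCompact_iff_compactSpace.mp (TopologicalSpace.NoetherianSpace.isCompact _)
  haveI : CompactSpace (W : Scheme.{u}) :=
    isCompact_iff_compactSpace.mp (TopologicalSpace.NoetherianSpace.isCompact _)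
  haveI : QuasiCompact V.ι := quasiCompact_of_compactSpace _
  haveI : QuasiCompact W.ι := quasiCompact_of_compactSpace _
  haveI := DCohRestrLib.hasRpush V.ι
  haveI := DCohRestrLib.hasRpush W.ι
  let rV := DCoh.restrictD V.ι
  let rW := DCoh.restrictD W.ι
  let adjV := KoszOrthLib.restrictRpushAdj V.ι
  let adjW := KoszOrthLib.restrictRpushAdj W.ι
  haveI := KoszOrthLib.isIso_counit W.ι adjW
  obtain ⟨_, _⟩ := QRlimLib.exists_isTriangulated_rpush f
  haveI : (DCoh.RpushQ f hf).IsTriangulated :=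
    ObjectProperty.isTriangulated_lift _ ((DCoh.IsQCohD (X := X)).ι ⋙ DCoh.Rpush f) _
  letI := adj.rightAdjointCommShift ℤ
  haveI := adj.commShift_of_leftAdjoint ℤ
  haveI : a.IsTriangulated := adj.isTriangulated_rightAdjoint
  let Q₁ : DCoh.DQCoh Y := ⟨(DCoh.Rpush V.ι).obj (rV.obj Q.obj),
    QRlimLib.isQCohD_rpush V.ι (KoszOrthLib.isQCohD_restrictD V.ι Q.property)⟩
  let η : Q ⟶ Q₁ := ObjectProperty.homMk (adjV.unit.app Q.obj)
  haveI h1 : IsIso (rV.map η.hom) := KoszOrthLib.isIso_restrictD_unit V.ι adjV Q.obj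
  haveI hge₁ : Q₁.obj.IsGE c := by
    haveI : (rV.obj Q.obj).IsGE c := (DerivedCategory.isGE_iff _ c).2 fun i hi =>
      ((Scheme.Modules.restrictFunctor V.ι).map_isZero (DerivedCategory.isZero_of_isGE Q.obj c i hi)).of_iso
        (DCohRestrLib.restrictHDIso V.ι Q.obj i)
    exact QRlimLib.rpush_isGE V.ι _ c
  -- over `f⁻¹V` the two right adjoints agree
  obtain ⟨C, g, d, hT⟩ := distinguished_cocone_triangle η
  haveI hQ' : DerivedCategory.TStructure.t.IsGE Q.obj c := ‹_›
  haveI hQ₁' : DerivedCategory.TStructure.t.IsGE Q₁.obj c := hge₁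
  haveI hQs : DerivedCategory.TStructure.t.IsGE (Q.obj⟦(1 : ℤ)⟧) (c - 1) :=
    DerivedCategory.TStructure.t.isGE_shift Q.obj c 1 (c - 1) (by omega)
  haveI : C.obj.IsGE (c - 1) :=
    @Triangulated.TStructure.isGE₂ _ _ _ _ _ _ _ DerivedCategory.TStructure.t _
      (rot_of_distTriang _ ((DCoh.IsQCohD (X := Y)).ι.map_distinguished _ hT)) (c - 1)
      (@Triangulated.TStructure.isGE_of_ge _ _ _ _ _ _ _ DerivedCategory.TStructure.t Q₁.obj (c - 1) c (by omega) hQ₁')
      hQs
  have hCV : IsZero (rV.obj C.obj) :=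
    ((rV.mapTriangle.obj ((DCoh.IsQCohD (X := Y)).ι.mapTriangle.obj (Triangle.mk η g d))).isZero₃_iff_isIso₁
      (rV.map_distinguished _ ((DCoh.IsQCohD (X := Y)).ι.map_distinguished _ hT))).2 h1
  have haC : IsZero (rW.obj (a.obj C).obj) := (isZero_restrictD_iff_restrict _ _).2
    (isZero_restrict_rightAdjoint f hf a adj C
      (rHomQCoh_of_pseudoCoherent f C (c - 1) fun G hG m => isPC_rpush_of_isPerfect f hG m) V
      ((isZero_restrictD_iff_restrict _ _).1 hCV))
  haveI hη : IsIso (rW.map (a.map η).hom) :=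
    ((rW.mapTriangle.obj ((DCoh.IsQCohD (X := X)).ι.mapTriangle.obj (a.mapTriangle.obj (Triangle.mk η g d)))).isZero₃_iff_isIso₁
      (rW.map_distinguished _ ((DCoh.IsQCohD (X := X)).ι.map_distinguished _
        (a.map_distinguished _ hT)))).1 haC
  -- `a Q₁` is the direct image of its restriction
  let E₁ := (a.obj Q₁).obj
  have horth : ∀ (P : DCoh.D X), DCoh.IsQCohD P → IsZero (rW.obj P) → ∀ φ : P ⟶ E₁, φ = 0 := by
    intro P hP hPW φ
    have hz : IsZero (rV.obj ((DCoh.Rpush f).obj P)) :=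
      (DCohRestrLib.isZero_Rpush (f ∣_ V) hPW).of_iso (r.app P)
    let P' : DCoh.DQCoh X := ⟨P, hP⟩
    have h0 : ((adj.homEquiv P' Q₁).symm (ObjectProperty.homMk φ)).hom = 0 :=
      (adjV.homEquiv _ _).symm.injective (hz.eq_of_src _ _)
    have h2 : (adj.homEquiv P' Q₁).symm (ObjectProperty.homMk φ) = (adj.homEquiv P' Q₁).symm 0 :=
      (ObjectProperty.hom_ext _ h0).trans (by
        haveI : (DCoh.RpushQ f hf).Additive := inferInstance
        exact (adj.homAddEquiv P' Q₁).symm.map_zero.symm)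
    exact congrArg (fun z : P' ⟶ a.obj Q₁ => z.hom) ((adj.homEquiv P' Q₁).symm.injective h2)
  haveI hu : IsIso (adjW.unit.app E₁) := by
    obtain ⟨L, ι, d', hL⟩ := distinguished_cocone_triangle₁ (adjW.unit.app E₁)
    have hLW : IsZero (rW.obj L) :=
      ((rW.mapTriangle.obj (Triangle.mk ι (adjW.unit.app E₁) d')).isZero₁_iff_isIso₂
        (rW.map_distinguished _ hL)).2 (KoszOrthLib.isIso_restrictD_unit W.ι adjW E₁)
    have hLq : DCoh.IsQCohD L := KFlatLib.isQCohD₂ (inv_rot_of_distTriang _ hL)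
      (KFlatLib.isQCohD_shift (QRlimLib.isQCohD_rpush W.ι
        (KoszOrthLib.isQCohD_restrictD W.ι (a.obj Q₁).property)) (-1)) (a.obj Q₁).property
    refine isIso_of_rightOrth ι _ d' hL (horth L hLq hLW) fun φ => ?_
    exact (adjW.homEquiv _ _).symm.injective
      ((((shiftFunctor _ (1 : ℤ)).map_isZero hLW).of_iso ((rW.commShiftIso (1 : ℤ)).app L)).eq_of_src _ _)
  let eI : (DCoh.Rpush W.ι).obj (rW.obj (a.obj Q).obj) ≅ E₁ :=
    (DCoh.Rpush W.ι).mapIso (asIso (rW.map (a.map η).hom)) ≪≫ (asIso (adjW.unit.app E₁)).symm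
  let cE : ∀ E : DCoh.D (W : Scheme.{u}), rV.obj ((DCoh.Rpush f).obj ((DCoh.Rpush W.ι).obj E)) ≅
      (DCoh.Rpush (f ∣_ V)).obj E := fun E =>
    r.app _ ≪≫ (DCoh.Rpush (f ∣_ V)).mapIso ((asIso adjW.counit).app E)
  let P : ∀ E : DCoh.D (W : Scheme.{u}), DCoh.IsQCohD E → DCoh.DQCoh X := fun E hE =>
    ⟨(DCoh.Rpush W.ι).obj E, QRlimLib.isQCohD_rpush W.ι hE⟩
  haveI : (DCoh.Rpush W.ι).Full := adjW.fullyFaithfulROfIsIsoCounit.full
  haveI : (DCoh.Rpush W.ι).Faithful := adjW.fullyFaithfulROfIsIsoCounit.faithful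
  haveI : (DCoh.RpushQ f hf).Additive := inferInstance
  haveI : rV.Additive := inferInstance
  haveI : (DCoh.Rpush W.ι).Additive := adjW.right_adjoint_additive
  let Φ : (E ⟶ rW.obj (a.obj Q).obj) ≃ ((DCoh.Rpush (f ∣_ V)).obj E ⟶ rV.obj Q.obj) :=
    (((adjW.fullyFaithfulROfIsIsoCounit.homEquiv (X := E) (Y := rW.obj (a.obj Q).obj)).trans
      (eI.homToEquiv)).trans
      (((ObjectProperty.fullyFaithfulι _).homEquiv (X := P E hE) (Y := a.obj Q₁)).symm.trans
        ((adj.homEquiv (P E hE) Q₁).symm.trans (ObjectProperty.fullyFaithfulι _).homEquiv))).trans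
      ((adjV.homEquiv _ _).symm.trans ((cE E).homFromEquiv))
  suffices h : ∀ φ, Φ φ = (DCoh.Rpush (f ∣_ V)).map φ ≫ r.inv.app (a.obj Q).obj ≫
      rV.map (adj.counit.app Q).hom by
    exact funext h ▸ Φ.bijective
  intro φ
  show (cE E).inv ≫ (adjV.homEquiv _ _).symm ((adj.homEquiv (P E hE) Q₁).symm
    (ObjectProperty.homMk ((DCoh.Rpush W.ι).map φ ≫ eI.hom))).hom = _
  let x := (DCoh.Rpush W.ι).map φ ≫ eI.hom
  have h1 : rW.map x = adjW.counit.app E ≫ φ ≫ rW.map (a.map η).hom := by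
    simp only [x, eI, Iso.trans_hom, Iso.symm_hom, Functor.mapIso_hom, asIso_hom, asIso_inv,
      Functor.map_comp, Functor.map_inv]
    rw [← cancel_mono (rW.map (adjW.unit.app E₁))]
    simp only [Category.assoc, IsIso.inv_hom_id, Category.comp_id]
    rw [← cancel_mono (adjW.counit.app (rW.obj E₁))]
    simp only [Category.assoc]
    rw [adjW.left_triangle_components E₁]
    refine (congrArg (_ ≫ ·) (adjW.counit.naturality (rW.map (a.map η).hom))).trans ?_
    refine (Category.assoc _ _ _).symm.trans ?_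
    exact (congrArg (· ≫ rW.map (a.map η).hom) (adjW.counit.naturality φ)).trans
      ((Category.assoc _ _ _).trans (congrArg (adjW.counit.app E ≫ φ ≫ ·) (Category.comp_id _).symm))
  have h2 : (adjV.homEquiv _ _).symm ((adj.homEquiv (P E hE) Q₁).symm (ObjectProperty.homMk x)).hom =
      rV.map ((DCoh.Rpush f).map x) ≫ rV.map (adj.counit.app Q₁).hom ≫ adjV.counit.app (rV.obj Q.obj) := by
    rw [Adjunction.homEquiv_counit, Adjunction.homEquiv_counit, ObjectProperty.FullSubcategory.comp_hom,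
      Functor.map_comp, Category.assoc]
    rfl
  have h3 : (cE E).inv ≫ rV.map ((DCoh.Rpush f).map x) =
      (DCoh.Rpush (f ∣_ V)).map (φ ≫ rW.map (a.map η).hom) ≫ r.inv.app E₁ := by
    rw [Iso.inv_comp_eq]
    simp only [cE, Iso.trans_hom, Functor.mapIso_hom, Iso.app_hom, asIso_hom, Category.assoc]
    rw [← Functor.map_comp_assoc, ← h1]
    exact (congrArg (r.hom.app _ ≫ ·) (r.inv.naturality x)).trans (r.hom_inv_id_app_assoc _ _) |>.symm
  have h4 : rV.map η.hom ≫ adjV.counit.app (rV.obj Q.obj) = 𝟙 _ := adjV.left_triangle_components Q.obj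
  refine (congrArg ((cE E).inv ≫ ·) h2).trans ?_
  rw [reassoc_of% h3, Functor.map_comp, Category.assoc]
  refine congrArg (_ ≫ ·) ?_
  refine (reassoc_of% (r.inv.naturality (a.map η).hom)) _ |>.trans (congrArg (_ ≫ ·) ?_)
  have h5 : rV.map ((DCoh.Rpush f).map (a.map η).hom) ≫ rV.map (adj.counit.app Q₁).hom =
      rV.map (adj.counit.app Q).hom ≫ rV.map η.hom :=
    (rV.map_comp _ _).symm.trans
      ((congrArg rV.map (congrArg (fun z => z.hom) (adj.counit.naturality η))).trans (rV.map_comp _ _))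
  refine ((Category.assoc _ _ _).symm.trans (congrArg (· ≫ adjV.counit.app (rV.obj Q.obj)) h5)).trans ?_
  exact (Category.assoc _ _ _).trans ((congrArg (_ ≫ ·) h4).trans (Category.comp_id _))

end ShriekLib
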