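import Groth.Agent.ShriekLib.Counit

/-!
# Open base change for the right adjoint, and clopen pieces
-/

set_option autoImplicit false
set_option linter.style.haveILetI false
set_option linter.unusedSectionVars false
set_option backward.isDefEq.respectTransparency false
set_option backward.isDefEq.respectTransparency.types false
set_option maxHeartbeats 1000000
set_option synthInstance.maxHeartbeats 200000

universe u

open CategoryTheory CategoryTheory.Limits AlgebraicGeometry
open Groth.Agent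

attribute [local instance] HasDerivedCategory.standard

namespace ShriekLib

variable {X Xb Y : Scheme.{u}} [IsNoetherian Y] (p : Xb ⟶ Y) [IsProper p] [DCoh.HasRpush p]
  (hp : DCoh.RpushPreservesQCoh p) (a : DCoh.DQCoh Y ⥤ DCoh.DQCoh Xb) (adj : DCoh.RpushQ p hp ⊣ a)

include adj in
/-- Open base change on bounded below objects. -/
theorem nonempty_openBaseChange (V : Y.Opens) [DCoh.HasRpush (p ∣_ V)]
    (hV : DCoh.RpushPreservesQCoh (p ∣_ V))
    (aV : DCoh.DQCoh (V : Scheme.{u}) ⥤ DCoh.DQCoh (p ⁻¹ᵁ V : Scheme.{u}))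
    (adjV : DCoh.RpushQ (p ∣_ V) hV ⊣ aV) :
    Nonempty (Dual3.bddι Y ⋙ a ⋙ restrictQ (p ⁻¹ᵁ V).ι ≅ Dual3.bddι Y ⋙ restrictQ V.ι ⋙ aV) := by
  obtain ⟨r⟩ := DCohRestrLib.nonempty_restrictD_Rpush p V
  let e : ∀ K : DCoh.DQCoh Y, (DCoh.RpushQ (p ∣_ V) hV).obj ((restrictQ (p ⁻¹ᵁ V).ι).obj (a.obj K)) ⟶
      (restrictQ V.ι).obj K := fun K =>
    ObjectProperty.homMk (r.inv.app (a.obj K).obj ≫ (DCoh.restrictD V.ι).map (adj.counit.app K).hom)
  let α : ∀ K : (Dual3.IsBddBelowQ Y).FullSubcategory,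
      (restrictQ (p ⁻¹ᵁ V).ι).obj (a.obj K.obj) ⟶ aV.obj ((restrictQ V.ι).obj K.obj) := fun K =>
    adjV.homEquiv _ _ (e K.obj)
  haveI : ∀ K, IsIso (α K) := fun K => by
    obtain ⟨c, hc⟩ := K.property
    haveI := hc
    refine isIso_of_yoneda_map_bijective _ fun E => ?_
    have h1 : Function.Bijective (fun φ : E ⟶ (restrictQ (p ⁻¹ᵁ V).ι).obj (a.obj K.obj) =>
        (DCoh.RpushQ (p ∣_ V) hV).map φ ≫ e K.obj) := by
      have h := bijective_counit_restrict p hp a adj K.obj c V r E.obj E.property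
      refine ⟨fun φ φ' hφ => ObjectProperty.hom_ext _ (h.1 ?_), fun ψ => ?_⟩
      · exact congrArg (fun z => z.hom) hφ
      · obtain ⟨φ, hφ⟩ := h.2 ψ.hom
        exact ⟨ObjectProperty.homMk φ, ObjectProperty.hom_ext _ hφ⟩
    have h2 : (fun φ : E ⟶ (restrictQ (p ⁻¹ᵁ V).ι).obj (a.obj K.obj) => φ ≫ α K) =
        (adjV.homEquiv _ _) ∘ (fun φ => (DCoh.RpushQ (p ∣_ V) hV).map φ ≫ e K.obj) := by
      funext φ
      exact (adjV.homEquiv_naturality_left φ (e K.obj)).symm
    exact h2 ▸ (adjV.homEquiv _ _).bijective.comp h1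
  refine ⟨NatIso.ofComponents (fun K => asIso (α K)) fun {K K'} g => ?_⟩
  change (restrictQ (p ⁻¹ᵁ V).ι).map (a.map g.hom) ≫ α K' = α K ≫ aV.map ((restrictQ V.ι).map g.hom)
  simp only [α]
  rw [← adjV.homEquiv_naturality_left, ← adjV.homEquiv_naturality_right]
  refine congrArg _ (ObjectProperty.hom_ext _ ?_)
  simp only [e, ObjectProperty.FullSubcategory.comp_hom]
  refine ((reassoc_of% (r.inv.naturality (a.map g.hom).hom)) _).trans ?_
  refine Eq.trans ?_ (Category.assoc _ _ _).symm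
  refine congrArg (_ ≫ ·) ?_
  exact (((DCoh.restrictD V.ι).map_comp _ _).symm.trans
    ((congrArg (DCoh.restrictD V.ι).map (congrArg (fun z => z.hom) (adj.counit.naturality g.hom))).trans
      ((DCoh.restrictD V.ι).map_comp _ _)))

include adj in
/-- `f^!` of an open immersion, through any compactification. -/
theorem nonempty_shriek_openImmersion (f : X ⟶ Y) [IsOpenImmersion f] (j : X ⟶ Xb) [IsOpenImmersion j]
    (hfac : j ≫ p = f) :
    Nonempty (Dual3.bddι Y ⋙ a ⋙ restrictQ j ≅ Dual3.bddι Y ⋙ restrictQ f) := by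
  haveI : IsLocallyNoetherian Xb := LocallyOfFiniteType.isLocallyNoetherian p
  haveI : CompactSpace Xb := QuasiCompact.compactSpace_of_compactSpace p
  haveI : IsNoetherian Xb := ⟨⟩
  haveI : IsLocallyNoetherian X := isLocallyNoetherian_of_isOpenImmersion j
  haveI : CompactSpace X := QuasiCompact.compactSpace_of_compactSpace j
  haveI : IsNoetherian X := ⟨⟩
  let V := f.opensRange
  let W := p ⁻¹ᵁ V
  haveI : CompactSpace (V : Scheme.{u}) := isCompact_iff_compactSpace.mp (TopologicalSpace.NoetherianSpace.isCompact _)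
  haveI : CompactSpace (W : Scheme.{u}) := isCompact_iff_compactSpace.mp (TopologicalSpace.NoetherianSpace.isCompact _)
  haveI : IsLocallyNoetherian (V : Scheme.{u}) := isLocallyNoetherian_of_isOpenImmersion V.ι
  haveI : IsLocallyNoetherian (W : Scheme.{u}) := isLocallyNoetherian_of_isOpenImmersion W.ι
  haveI : IsNoetherian (V : Scheme.{u}) := ⟨⟩
  haveI : IsNoetherian (W : Scheme.{u}) := ⟨⟩
  have hjW : Set.range j.base ⊆ Set.range W.ι.base := by
    rw [Scheme.Opens.range_ι]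
    rintro _ ⟨x, rfl⟩
    exact ⟨x, by rw [← hfac]; rfl⟩
  let i : X ⟶ (W : Scheme.{u}) := IsOpenImmersion.lift W.ι j hjW
  have hi : i ≫ W.ι = j := IsOpenImmersion.lift_fac _ _ _
  haveI : IsOpenImmersion i := by
    haveI : IsOpenImmersion (i ≫ W.ι) := by rw [hi]; infer_instance
    exact IsOpenImmersion.of_comp i W.ι
  let h := i ≫ p ∣_ V
  have hh : h = f.isoOpensRange.hom := by
    rw [← cancel_mono V.ι, Category.assoc, morphismRestrict_ι, ← Category.assoc, hi, hfac,
      Scheme.Hom.isoOpensRange_hom_ι]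
  haveI : IsIso h := hh ▸ inferInstance
  haveI : IsClosedImmersion i := by
    haveI : IsClosedImmersion (i ≫ p ∣_ V) := inferInstanceAs (IsClosedImmersion h)
    exact IsClosedImmersion.of_comp i (p ∣_ V)
  haveI := DCohRestrLib.hasRpush i
  haveI := DCohRestrLib.hasRpush h
  haveI := DCohRestrLib.hasRpush (p ∣_ V)
  haveI : (DCoh.RpushQ (p ∣_ V) (hpush _)).IsLeftAdjoint := KoszOrthLib.isLeftAdjoint_rpushQ _ (hpush _)
  let adjV := Adjunction.ofIsLeftAdjoint (DCoh.RpushQ (p ∣_ V) (hpush _))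
  obtain ⟨e₁⟩ := nonempty_openBaseChange p hp a adj V (hpush _) _ adjV
  have hcl : IsClosed (Set.range i.base) := i.isClosedEmbedding.isClosed_range
  have hclh : IsClosed (Set.range h.base) := h.isClosedEmbedding.isClosed_range
  obtain ⟨c⟩ := nonempty_rpushQ_comp i (p ∣_ V) h rfl (hpush i) (hpush _) (hpush h)
  let u := ((clopenAdjQ i (hpush i) hcl).comp adjV).rightAdjointUniq
    ((clopenAdjQ h (hpush h) hclh).ofNatIsoLeft c.symm)
  obtain ⟨cj⟩ := nonempty_restrictQ_comp i W.ι j hi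
  obtain ⟨cf⟩ := nonempty_restrictQ_comp h V.ι f (by rw [hh]; exact Scheme.Hom.isoOpensRange_hom_ι f)
  exact ⟨Functor.isoWhiskerLeft (Dual3.bddι Y ⋙ a) cj.symm ≪≫
    Functor.isoWhiskerRight e₁ (restrictQ i) ≪≫
    Functor.isoWhiskerLeft (Dual3.bddι Y ⋙ restrictQ V.ι) u ≪≫
    Functor.isoWhiskerLeft (Dual3.bddι Y) cf⟩

end ShriekLib
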