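import Groth.Agent.Dual3Lib.TwistBij
import Groth.Agent.BidualSchLib.Exists

/-!
# `a RHom(F, Q) ≅ RHom(f^*F, aQ)` for the right adjoint `a` of `Rf_*`
-/

set_option autoImplicit false
set_option linter.style.haveILetI false
set_option linter.unusedSectionVars false
set_option backward.isDefEq.respectTransparency false
set_option backward.isDefEq.respectTransparency.types false
set_option maxHeartbeats 1000000
set_option synthInstance.maxHeartbeats 200000

universe u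

open CategoryTheory CategoryTheory.Limits AlgebraicGeometry HomologicalComplex
open Groth.Agent Groth.Agent.DerLib Groth.Agent.PerfDualLib Groth.Agent.ProjFormLib

attribute [local instance] HasDerivedCategory.standard

noncomputable section

namespace ShriekLib

variable {X Y : Scheme.{u}} (f : X ⟶ Y) [QuasiCompact f] [QuasiSeparated f] [DCoh.HasRpush f]
  (F : Cx Y) (hF : DCoh.IsKFlat F) (hFq : DCoh.IsQCohD (DerivedCategory.Q.obj F))
  [DCoh.HasLTensorCx F] [DCoh.HasLTensorCx ((pullC f).obj F)]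

include hF hFq in
/-- The projection formula, naturally in the quasi-coherent variable. -/
theorem nonempty_projection_natIso :
    Nonempty ((DCoh.IsQCohD (X := X)).ι ⋙ DCoh.Rpush f ⋙ DCoh.LTensorCx F ≅
      (DCoh.IsQCohD (X := X)).ι ⋙ DCoh.LTensorCx ((pullC f).obj F) ⋙ DCoh.Rpush f) := by
  have hm : ∀ T : DCoh.DQCoh X, ∃ I : Cx X, I.IsKInjective ∧ Nonempty (T.obj ≅ DerivedCategory.Q.obj I) :=
    fun T => KInjUse.exists_iso_Q_kInjective T.obj
  choose I hI hiso using hm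
  let eI := fun T => (hiso T).some
  let A := fun T => (KFlatLib.resP Y).obj ((pushC f).obj (I T))
  let ψ : ∀ T, A T ⟶ (pushC f).obj (I T) := fun T => (KFlatLib.resψ Y).app _
  haveI hq : ∀ T, QuasiIso (ψ T) := fun T => KFlatLib.quasiIso_resψ _
  have hb : ∀ T, IsIso (Dual3Lib.beta f (ψ T) F) := fun T => by
    haveI := hI T
    exact Dual3Lib.isIso_beta_of_qcoh f (ψ T) (KFlatLib.good_resP _).1
      (KFlatLib.isQCohD_iso (eI T) T.property) F hF hFq
  have hp : ∀ T, IsIso (Dual3Lib.pushQ f (I T)) := fun T => by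
    haveI := hI T
    exact Dual3Lib.isIso_pushQ f (I T)
  let j : ∀ T : DCoh.DQCoh X, DerivedCategory.Q.obj (A T) ≅ (DCoh.Rpush f).obj T.obj := fun T =>
    asIso (DerivedCategory.Q.map (ψ T)) ≪≫ @asIso _ _ _ _ _ (hp T) ≪≫ (DCoh.Rpush f).mapIso (eI T).symm
  have hc₁ : ∀ T, IsIso ((TensorAssocLib.cnt F).app (A T)) := fun T => TensorAssocLib.isIso_cnt F hF _
  have hc₂ : ∀ T, IsIso ((TensorAssocLib.cnt ((pullC f).obj F)).app (I T)) := fun T =>
    TensorAssocLib.isIso_cnt _ (KFlatLib.isKFlat_pull f hF) _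
  let θ : ∀ T : DCoh.DQCoh X, (DCoh.LTensorCx F).obj ((DCoh.Rpush f).obj T.obj) ≅
      (DCoh.Rpush f).obj ((DCoh.LTensorCx ((pullC f).obj F)).obj T.obj) := fun T =>
    (DCoh.LTensorCx F).mapIso (j T).symm ≪≫ @asIso _ _ _ _ _ (hc₁ T) ≪≫ @asIso _ _ _ _ _ (hb T) ≪≫
      (DCoh.Rpush f).mapIso ((@asIso _ _ _ _ _ (hc₂ T)).symm ≪≫
        (DCoh.LTensorCx ((pullC f).obj F)).mapIso (eI T).symm)
  refine ⟨NatIso.ofComponents θ fun {T T'} g => ?_⟩
  haveI := hI T'
  obtain ⟨φ, hφ⟩ := KInjUse.Q_map_surjective (I T) (I T') ((eI T).inv ≫ g.hom ≫ (eI T').hom)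
  let b : A T ⟶ A T' := (KFlatLib.resP Y).map ((pushC f).map φ)
  have hbψ : b ≫ ψ T' = ψ T ≫ (pushC f).map φ := (KFlatLib.resψ Y).naturality ((pushC f).map φ)
  have hφ' : (eI T).inv ≫ g.hom = DerivedCategory.Q.map φ ≫ (eI T').inv := by
    rw [hφ, Category.assoc, Category.assoc, Iso.hom_inv_id, Category.comp_id]
  have hj : DerivedCategory.Q.map b ≫ (j T').hom = (j T).hom ≫ (DCoh.Rpush f).map g.hom := by
    simp only [j, Iso.trans_hom, asIso_hom, Functor.mapIso_hom, Iso.symm_hom, Category.assoc]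
    rw [← Functor.map_comp (DCoh.Rpush f), hφ', Functor.map_comp, ← Category.assoc, ← Functor.map_comp, hbψ,
      Functor.map_comp, Category.assoc, ← Category.assoc (DerivedCategory.Q.map ((pushC f).map φ)),
      Dual3Lib.pushQ_natural, Category.assoc]
  have hj' : (DCoh.Rpush f).map g.hom ≫ (j T').inv = (j T).inv ≫ DerivedCategory.Q.map b := by
    rw [Iso.comp_inv_eq, Category.assoc, hj, Iso.inv_hom_id_assoc]
  have h1 := Dual3Lib.beta_natural₁ f (ψ T) (ψ T') b φ hbψ F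
  have h2 := (TensorAssocLib.cnt F).naturality b
  have h3 := (TensorAssocLib.cnt ((pullC f).obj F)).naturality φ
  change (DCoh.LTensorCx F).map ((DCoh.Rpush f).map g.hom) ≫ (θ T').hom =
    (θ T).hom ≫ (DCoh.Rpush f).map ((DCoh.LTensorCx ((pullC f).obj F)).map g.hom)
  simp only [θ, Iso.trans_hom, Functor.mapIso_hom, Iso.symm_hom, asIso_hom, asIso_inv, Category.assoc,
    ← Functor.map_comp]
  rw [← Category.assoc, ← Functor.map_comp, hj', Functor.map_comp, Category.assoc]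
  refine congrArg (_ ≫ ·) ?_
  erw [reassoc_of% h2]
  refine congrArg (_ ≫ ·) ?_
  erw [reassoc_of% h1]
  refine congrArg (_ ≫ ·) ?_
  erw [← Functor.map_comp]
  refine congrArg _ ?_
  rw [hφ', Functor.map_comp]
  haveI := hc₂ T
  haveI := hc₂ T'
  rw [← cancel_epi ((TensorAssocLib.cnt ((pullC f).obj F)).app (I T))]
  erw [← reassoc_of% h3]
  simp

variable (hf : DCoh.RpushPreservesQCoh f) (a : DCoh.DQCoh Y ⥤ DCoh.DQCoh X) (adj : DCoh.RpushQ f hf ⊣ a)
  [DCoh.HasRSheafHom F] [DCoh.HasRSheafHom ((pullC f).obj F)] (Q : DCoh.DQCoh Y)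
  (hD : DCoh.IsQCohD ((DCoh.RSheafHom F).obj Q.obj))
  (hW : DCoh.IsQCohD ((DCoh.RSheafHom ((pullC f).obj F)).obj (a.obj Q).obj))

include hF hFq adj hD hW in
/-- `a RHom(F, Q) ≅ RHom(f^*F, aQ)`. -/
theorem nonempty_rightAdjoint_rSheafHom :
    Nonempty ((a.obj ⟨_, hD⟩).obj ≅ (DCoh.RSheafHom ((pullC f).obj F)).obj (a.obj Q).obj) := by
  haveI := KFlatLib.hasLpull f
  obtain ⟨θ⟩ := nonempty_projection_natIso f F hF hFq
  let P := (pullC f).obj F
  let W : DCoh.DQCoh X := ⟨_, hW⟩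
  let D : DCoh.DQCoh Y := ⟨_, hD⟩
  have hPq : DCoh.IsQCohD (DerivedCategory.Q.obj P) :=
    KFlatLib.isQCohD_iso (KFlatLib.lpullObjIso f F hF) (KFlatLib.isQCohD_lpull f _ hFq)
  let Φ : DCoh.DQCoh X → DCoh.DQCoh X := fun T =>
    ⟨(DCoh.LTensorCx P).obj T.obj, KFlatLib.isQCohD_lTensorCx P hPq _ T.property⟩
  let e : ∀ T : DCoh.DQCoh X, (T ⟶ a.obj D) ≃ (T ⟶ W) := fun T =>
    (adj.homEquiv T D).symm.trans <|
      (⟨fun g => g.hom, fun g => ObjectProperty.homMk g, fun _ => rfl, fun _ => rfl⟩ :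
        ((DCoh.RpushQ f hf).obj T ⟶ D) ≃ ((DCoh.Rpush f).obj T.obj ⟶ D.obj)).trans <|
      (((DCoh.RSheafHomAdj F).homEquiv _ Q.obj).symm).trans <|
      ((θ.app T).homFromEquiv).trans <|
      (⟨fun g => ObjectProperty.homMk g, fun g => g.hom, fun _ => rfl, fun _ => rfl⟩ :
        ((DCoh.Rpush f).obj ((DCoh.LTensorCx P).obj T.obj) ⟶ Q.obj) ≃
          ((DCoh.RpushQ f hf).obj (Φ T) ⟶ Q)).trans <|
      (adj.homEquiv (Φ T) Q).trans <|
      (⟨fun g => g.hom, fun g => ObjectProperty.homMk g, fun _ => rfl, fun _ => rfl⟩ :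
        (Φ T ⟶ a.obj Q) ≃ ((DCoh.LTensorCx P).obj T.obj ⟶ (a.obj Q).obj)).trans <|
      (((DCoh.RSheafHomAdj P).homEquiv _ _)).trans
      (⟨fun g => ObjectProperty.homMk g, fun g => g.hom, fun _ => rfl, fun _ => rfl⟩ :
        (T.obj ⟶ W.obj) ≃ (T ⟶ W))
  refine ⟨(ObjectProperty.ι _).mapIso (Yoneda.ext (a.obj D) W (fun {T} => e T) (fun {T} => (e T).symm)
    (fun g => (e _).symm_apply_apply g) (fun g => (e _).apply_symm_apply g) fun {T T'} u g => ?_)⟩
  let Φu : Φ T' ⟶ Φ T := ObjectProperty.homMk ((DCoh.LTensorCx P).map u.hom)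
  let y := ((DCoh.RSheafHomAdj F).homEquiv _ Q.obj).symm ((adj.homEquiv T D).symm g).hom
  have h2 : ((DCoh.RSheafHomAdj F).homEquiv _ Q.obj).symm ((adj.homEquiv T' D).symm (u ≫ g)).hom =
      (DCoh.LTensorCx F).map ((DCoh.Rpush f).map u.hom) ≫ y := by
    rw [adj.homEquiv_naturality_left_symm]
    exact (DCoh.RSheafHomAdj F).homEquiv_naturality_left_symm _ _
  have h3 : (θ.app T').inv ≫ (DCoh.LTensorCx F).map ((DCoh.Rpush f).map u.hom) ≫ y =
      (DCoh.Rpush f).map ((DCoh.LTensorCx P).map u.hom) ≫ (θ.app T).inv ≫ y := by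
    rw [← Category.assoc, ← Category.assoc]
    exact congrArg (· ≫ y) (θ.inv.naturality u).symm
  let G : ∀ T : DCoh.DQCoh X, ((DCoh.LTensorCx F).obj ((DCoh.Rpush f).obj T.obj) ⟶ Q.obj) →
      (T.obj ⟶ W.obj) := fun T z =>
    (DCoh.RSheafHomAdj P).homEquiv _ _
      (adj.homEquiv (Φ T) Q (ObjectProperty.homMk ((θ.app T).inv ≫ z))).hom
  apply ObjectProperty.hom_ext
  show G T' (((DCoh.RSheafHomAdj F).homEquiv _ Q.obj).symm ((adj.homEquiv T' D).symm (u ≫ g)).hom) =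
    u.hom ≫ G T y
  refine (congrArg (G T') h2).trans ?_
  simp only [G]
  rw [← Adjunction.homEquiv_naturality_left]
  refine congrArg _ ?_
  show _ = (Φu ≫ adj.homEquiv (Φ T) Q (ObjectProperty.homMk ((θ.app T).inv ≫ y))).hom
  rw [← adj.homEquiv_naturality_left]
  refine congrArg (fun z => (adj.homEquiv (Φ T') Q z).hom) (ObjectProperty.hom_ext _ h3)

end ShriekLib
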