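import Groth.Agent.ShriekLib.EtaleShriek
import Groth.Agent.FMTransLib.MukaiShift
import Groth.Agent.Dual3Lib.RightAdjTensorIso
import Groth.Agent.Dual3Lib.PerfPush
import Groth.Agent.KoszOrthLib.DQCohCoprod

/-!
# The upper shriek of a flat morphism with a section of the fibre square of known normal data
-/

set_option autoImplicit false
set_option linter.style.haveILetI false
set_option linter.unusedSectionVars false
set_option backward.isDefEq.respectTransparency false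
set_option backward.isDefEq.respectTransparency.types false
set_option maxHeartbeats 1000000
set_option synthInstance.maxHeartbeats 200000

universe u

open CategoryTheory CategoryTheory.Limits AlgebraicGeometry
open Groth.Agent Groth.Agent.FMTransLib Groth.Agent.PerfDualLib

attribute [local instance] HasDerivedCategory.standard

namespace ShriekLib

/-- For a flat `f` and a perfect closed immersion `i : Z → X ×_Y X` inducing the same isomorphism `ε` on both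
projections, `ε^* f^! ⊗^L E = ε^* f^*` whenever `E` represents the shriek of `O` along `i`. -/
theorem nonempty_shriek_sect_key {X Y Xb Z : Scheme.{u}} [IsNoetherian Y] (f : X ⟶ Y) [Flat f]
    (j : X ⟶ Xb) (p : Xb ⟶ Y) [IsOpenImmersion j] [IsProper p] (hf : j ≫ p = f)
    [DCoh.HasRpush p] (hp : DCoh.RpushPreservesQCoh p) (a : DCoh.DQCoh Y ⥤ DCoh.DQCoh Xb)
    (adj : DCoh.RpushQ p hp ⊣ a) [DCoh.HasLpull f]
    (i : Z ⟶ pullback f f) [IsClosedImmersion i] (he : i ≫ pullback.fst f f = i ≫ pullback.snd f f)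
    [IsIso (i ≫ pullback.snd f f)] [DCoh.HasLpull (i ≫ pullback.snd f f)] (hperf : MoreMor.IsPerfectMor i)
    (E : Cx Z) [DCoh.HasLTensorCx E]
    (hai : ∀ [DCoh.HasRpush i] (h : DCoh.RpushPreservesQCoh i)
      (ai : DCoh.DQCoh (pullback f f) ⥤ DCoh.DQCoh Z) (_ : DCoh.RpushQ i h ⊣ ai)
      (O : DCoh.DQCoh (pullback f f)), Nonempty (O.obj ≅ DCoh.inD _ (Coh.structureModule _)) →
      Nonempty ((ai.obj O).obj ≅ DerivedCategory.Q.obj E)) :
    Nonempty ((Dual3.bddι Y ⋙ a ⋙ ObjectProperty.ι _ ⋙ DCoh.restrictD j) ⋙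
        DCoh.Lpull (i ≫ pullback.snd f f) ⋙ DCoh.LTensorCx E ≅
      (Dual3.bddι Y ⋙ ObjectProperty.ι _ ⋙ DCoh.Lpull f) ⋙ DCoh.Lpull (i ≫ pullback.snd f f)) := by
  haveI := isNoetherian_of_proper p
  haveI : CompactSpace X := QuasiCompact.compactSpace_of_compactSpace j
  haveI : IsLocallyNoetherian X := isLocallyNoetherian_of_isOpenImmersion j
  haveI : IsNoetherian X := ⟨⟩
  haveI : IsSeparated f := by rw [← hf]; infer_instance
  let pr1 := pullback.fst f f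
  let pr2 := pullback.snd f f
  let ε : Z ⟶ X := i ≫ pr2
  haveI : IsIso ε := ‹IsIso (i ≫ pullback.snd f f)›
  let pP := pullback.snd p f
  haveI := isNoetherian_of_proper pP
  let jP : pullback f f ⟶ pullback p f :=
    pullback.lift (pr1 ≫ j) pr2 (by rw [Category.assoc, hf, pullback.condition])
  have hj₂ : jP ≫ pP = pr2 := pullback.lift_snd _ _ _
  haveI : IsOpenImmersion jP := by
    have hpb : IsPullback jP pr1 (pullback.fst p f) j := by
      refine (IsPullback.of_bot ?_ (pullback.lift_fst _ _ _).symm (IsPullback.of_hasPullback p f)).flip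
      rw [hj₂, hf]
      exact IsPullback.of_hasPullback f f
    exact MorphismProperty.of_isPullback (P := @IsOpenImmersion) hpb.flip inferInstance
  haveI : CompactSpace ↥(pullback f f) := QuasiCompact.compactSpace_of_compactSpace jP
  haveI : IsLocallyNoetherian (pullback f f) := isLocallyNoetherian_of_isOpenImmersion jP
  haveI : IsNoetherian (pullback f f) := ⟨⟩
  haveI := isNoetherian_of_proper i
  haveI := DCohRestrLib.hasRpush pP
  haveI := DCohRestrLib.hasRpush i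
  haveI := DCohRestrLib.hasRpush (𝟙 X)
  haveI := DCohRestrLib.hasRpush (𝟙 Z)
  haveI := DCohRestrLib.hasRpush ε
  haveI := KFlatLib.hasLpull pr1
  haveI := KFlatLib.hasLpull i
  haveI := KFlatLib.hasLpull (i ≫ pr1)
  haveI := KFlatLib.hasLpull (𝟙 Z)
  have hLf : Dual3.LpullPreservesQCoh f := KFlatLib.isQCohD_lpull f
  obtain ⟨aP, ⟨adjP⟩⟩ := exists_rightAdjoint pP (hpush pP)
  obtain ⟨ai, ⟨adji⟩⟩ := exists_rightAdjoint i (hpush i)
  obtain ⟨c, ⟨adjc⟩⟩ := exists_rightAdjoint (𝟙 X) (hpush (𝟙 X))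
  -- flat base change
  obtain ⟨e⟩ := nonempty_shriek_flatBC f f pr2 pr1 (IsPullback.of_hasPullback f f) j p hf jP pP hj₂ hp (hpush pP)
    a aP adj adjP hLf
  -- the shriek of the composite `ε = i ≫ pr2`
  obtain ⟨eo⟩ := nonempty_shriek_openImmersion (𝟙 X) (hpush (𝟙 X)) c adjc ε ε (Category.comp_id ε)
  obtain ⟨ec⟩ := nonempty_shriek_comp i pr2 (𝟙 Z) i (Category.id_comp i) jP pP hj₂ ε (𝟙 X) (Category.comp_id ε)
    (hpush i) (hpush pP) (hpush (𝟙 X)) ai aP c adji adjP adjc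
  -- the shriek of `i`
  let O : DCoh.DQCoh (pullback f f) :=
    ⟨DCoh.inD _ (Coh.structureModule _), PerfBaseLib.isQCohD_inD _ QCohLib.isQCoh_unit⟩
  obtain ⟨eO⟩ := hai (hpush i) ai adji O ⟨Iso.refl _⟩
  obtain ⟨hcop⟩ : PLift (∀ J : Type u, PreservesColimitsOfShape (Discrete J) ai) :=
    ⟨KoszOrthLib.preservesCoproducts_rightAdjoint i (hpush i)
      (fun K hK => Dual3Lib.isPerfect_rpush_of_perfectMor i hperf hK) ai adji⟩
  obtain ⟨et⟩ := Dual3Lib.nonempty_rightAdjoint_iso_tensor i (hpush i) ai adji hcop O ⟨Iso.refl _⟩ E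
    ⟨eO.symm⟩
  obtain ⟨c₁⟩ := KFlatLib.lpull_comp i pr1
  obtain ⟨g₁⟩ := nonempty_lpull_congrNat (f := i ≫ pr1) (f' := ε) he
  obtain ⟨i₁⟩ := Dual3Lib.nonempty_lpull_id (𝟙 Z) rfl
  let L : (Dual3.IsBddBelowQ Y).FullSubcategory ⥤ (Dual3.IsBddBelowQ X).FullSubcategory :=
    ObjectProperty.lift _ (Dual3.bddι Y ⋙ Dual3.LpullQ f hLf) fun K => by
      obtain ⟨n, hn⟩ := K.property
      haveI := hn
      exact ⟨n, DualFMLib.isGE_lpull_flat f K.obj.obj n⟩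
  let A := Dual3.bddι Y ⋙ a ⋙ ObjectProperty.ι _ ⋙ DCoh.restrictD j
  let B := Dual3.bddι Y ⋙ ObjectProperty.ι _ ⋙ DCoh.Lpull f
  let v : DCoh.restrictD (𝟙 Z) ≅ 𝟭 _ := (DualFMLib.lpullRestrIso (𝟙 Z)).symm ≪≫ i₁
  let tI : ai ⋙ restrictQ (𝟙 Z) ⋙ ObjectProperty.ι _ ≅
      ObjectProperty.ι _ ⋙ DCoh.Lpull i ⋙ DCoh.LTensorCx E :=
    Functor.isoWhiskerLeft (ai ⋙ ObjectProperty.ι _) v ≪≫ Functor.rightUnitor _ ≪≫ et
  exact ⟨Functor.isoWhiskerLeft A (Functor.isoWhiskerRight (c₁ ≪≫ g₁).symm (DCoh.LTensorCx E)) ≪≫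
    Functor.isoWhiskerRight e (DCoh.Lpull i ⋙ DCoh.LTensorCx E) ≪≫
    Functor.isoWhiskerLeft (Dual3.bddι Y ⋙ Dual3.LpullQ f hLf ⋙ aP ⋙ restrictQ jP) tI.symm ≪≫
    Functor.isoWhiskerRight (Functor.isoWhiskerLeft L ec.symm) (ObjectProperty.ι _) ≪≫
    Functor.isoWhiskerRight (Functor.isoWhiskerLeft L eo) (ObjectProperty.ι _) ≪≫
    Functor.isoWhiskerLeft B (DualFMLib.lpullRestrIso ε).symm⟩

/-- If `i : Z → X ×_Y X` is a perfect closed immersion inducing the same isomorphism on both projections,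
whose shriek of `O` is `O[-d]`, then `f^! = f^*[d]`. -/
theorem nonempty_shriek_sect {X Y Xb Z : Scheme.{u}} [IsNoetherian Y] (f : X ⟶ Y) [Flat f]
    (j : X ⟶ Xb) (p : Xb ⟶ Y) [IsOpenImmersion j] [IsProper p] (hf : j ≫ p = f)
    [DCoh.HasRpush p] (hp : DCoh.RpushPreservesQCoh p) (a : DCoh.DQCoh Y ⥤ DCoh.DQCoh Xb)
    (adj : DCoh.RpushQ p hp ⊣ a) [DCoh.HasLpull f]
    (i : Z ⟶ pullback f f) [IsClosedImmersion i] (he : i ≫ pullback.fst f f = i ≫ pullback.snd f f)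
    [IsIso (i ≫ pullback.snd f f)] (hperf : MoreMor.IsPerfectMor i) (d : ℤ)
    (hai : ∀ [DCoh.HasRpush i] (h : DCoh.RpushPreservesQCoh i)
      (ai : DCoh.DQCoh (pullback f f) ⥤ DCoh.DQCoh Z) (_ : DCoh.RpushQ i h ⊣ ai)
      (O : DCoh.DQCoh (pullback f f)), Nonempty (O.obj ≅ DCoh.inD _ (Coh.structureModule _)) →
      Nonempty ((ai.obj O).obj ≅ (DerivedCategory.Q.obj (unitCx Z))⟦-d⟧)) :
    Nonempty (Dual3.bddι Y ⋙ a ⋙ ObjectProperty.ι _ ⋙ DCoh.restrictD j ≅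
      Dual3.bddι Y ⋙ ObjectProperty.ι _ ⋙ DCoh.Lpull f ⋙ shiftFunctor (DCoh.D X) d) := by
  let ε : Z ⟶ X := i ≫ pullback.snd f f
  haveI : IsIso ε := ‹IsIso (i ≫ pullback.snd f f)›
  haveI := KFlatLib.hasLpull ε
  haveI := KFlatLib.hasLpull (inv ε)
  haveI := KFlatLib.hasLpull (inv ε ≫ ε)
  obtain ⟨_, -⟩ := DualFMLib.exists_isTriangulated_lpull ε
  let E : Cx Z := (unitCx Z)⟦(-d)⟧
  haveI := KFlatLib.hasLTensorCx E
  haveI := KFlatLib.hasLTensorCx (unitCx Z)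
  let qE : DerivedCategory.Q.obj E ≅ (DerivedCategory.Q.obj (unitCx Z))⟦(-d)⟧ :=
    (DerivedCategory.Q.commShiftIso (-d)).app _
  obtain ⟨key⟩ := nonempty_shriek_sect_key f j p hf hp a adj i he hperf E
    (fun {_} h ai hai' O hO => (hai h ai hai' O hO).map fun x => x ≪≫ qE.symm)
  obtain ⟨es⟩ := nonempty_ltCx_shift E (unitCx Z) (-d) qE
  obtain ⟨eu⟩ := nonempty_ltCx_unit (X := Z)
  obtain ⟨c₂⟩ := KFlatLib.lpull_comp (inv ε) ε
  obtain ⟨i₂⟩ := Dual3Lib.nonempty_lpull_id (inv ε ≫ ε) (IsIso.inv_hom_id ε)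
  let A := Dual3.bddι Y ⋙ a ⋙ ObjectProperty.ι _ ⋙ DCoh.restrictD j
  let B := Dual3.bddι Y ⋙ ObjectProperty.ι _ ⋙ DCoh.Lpull f
  let key' : A ⋙ DCoh.Lpull ε ⋙ shiftFunctor (DCoh.D Z) (-d) ≅ B ⋙ DCoh.Lpull ε :=
    Functor.isoWhiskerLeft (A ⋙ DCoh.Lpull ε) (es ≪≫ Functor.isoWhiskerRight eu _ ≪≫ Functor.leftUnitor _).symm ≪≫ key
  let S : shiftFunctor (DCoh.D Z) (-d) ⋙ shiftFunctor (DCoh.D Z) d ≅ 𝟭 _ :=
    shiftFunctorCompIsoId (DCoh.D Z) (-d) d (neg_add_cancel d)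
  let w : DCoh.Lpull ε ⋙ DCoh.Lpull (inv ε) ≅ 𝟭 _ := c₂ ≪≫ i₂
  exact ⟨(Functor.rightUnitor _).symm ≪≫ Functor.isoWhiskerLeft A w.symm ≪≫
    Functor.isoWhiskerLeft (A ⋙ DCoh.Lpull ε)
      ((Functor.leftUnitor _).symm ≪≫ Functor.isoWhiskerRight S.symm (DCoh.Lpull (inv ε))) ≪≫
    Functor.isoWhiskerRight key' (shiftFunctor (DCoh.D Z) d ⋙ DCoh.Lpull (inv ε)) ≪≫
    Functor.isoWhiskerLeft B (Functor.isoWhiskerRight ((DCoh.Lpull ε).commShiftIso d).symm (DCoh.Lpull (inv ε))) ≪≫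
    Functor.isoWhiskerLeft (B ⋙ shiftFunctor (DCoh.D X) d) w ≪≫ Functor.rightUnitor _⟩

end ShriekLib
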